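import Mathlib

/-!
A finite abelian group with an irreducible commuting family of endomorphisms is a one-dimensional
vector space over a finite field containing the family.
-/

set_option autoImplicit false

namespace Cfsg.Agent.ZassNormal

universe u

variable {V : Type u} [AddCommGroup V]

/-- The field generated by an irreducible commuting set of endomorphisms, with its universe
lowered to `Type`. -/
theorem exists_field_model [Finite V] {T : Set (AddMonoid.End V)}
    (hcomm : ∀ s ∈ T, ∀ t ∈ T, s * t = t * s)
    (hirr : ∀ W : AddSubgroup V, (∀ t ∈ T, ∀ w ∈ W, t w ∈ W) → W = ⊥ ∨ W = ⊤)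
    {u : V} (hu : u ≠ 0) :
    ∃ (F : Type) (_ : Field F) (_ : Fintype F) (e : F ≃+ V),
      e 1 = u ∧ ∀ t ∈ T, ∃ c : F, ∀ r, t (e r) = e (c * r) := by
  classical
  set R := Subring.closure T
  have hR : ∀ r ∈ R, ∀ s ∈ R, r * s = s * r := fun r hr s hs => by
    have h := (Subring.isMulCommutative_closure hcomm).is_comm.comm ⟨r, hr⟩ ⟨s, hs⟩
    exact congrArg Subtype.val h
  have hTR : ∀ t ∈ T, t ∈ R := fun t ht => Subring.subset_closure ht
  have hev : ∀ (f g : AddMonoid.End V), f = g → ∀ v, f v = g v := fun f g h v => h ▸ rfl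
  -- a member killing a non-zero vector is zero
  have hker : ∀ r ∈ R, ∀ v : V, v ≠ 0 → r v = 0 → r = 0 := by
    intro r hr v hv hrv
    let W : AddSubgroup V := AddMonoidHom.ker (r : V →+ V)
    rcases hirr W (fun t ht w hw => by
      show r (t w) = 0
      have h : r (t w) = t (r w) := hev _ _ (hR r hr t (hTR t ht)) w
      have hw' : r w = 0 := hw
      rw [h, hw', map_zero]) with h | h
    · exact absurd (AddSubgroup.mem_bot.1 (h ▸ (show v ∈ W from hrv))) hv
    · refine DFunLike.ext _ _ fun w => ?_
      exact (show w ∈ W from h ▸ AddSubgroup.mem_top w)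
  let ev : R →+ V :=
    { toFun := fun r => r.1 u
      map_zero' := rfl
      map_add' := fun r s => rfl }
  have hevinj : Function.Injective ev := by
    rw [injective_iff_map_eq_zero]
    intro r hr
    exact Subtype.ext (hker r.1 r.2 u hu hr)
  have hevsurj : Function.Surjective ev := by
    have h : ev.range = ⊤ := (hirr ev.range (by
      rintro t ht w ⟨r, rfl⟩
      exact ⟨⟨t, hTR t ht⟩ * r, rfl⟩)).resolve_left fun h => hu (by
      have : u ∈ ev.range := ⟨1, rfl⟩
      rw [h, AddSubgroup.mem_bot] at this
      exact this)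
    intro v
    exact (h ▸ AddSubgroup.mem_top v : v ∈ ev.range)
  have : Finite R := Finite.of_injective ev hevinj
  have hfield : IsField R := by
    refine ⟨⟨0, 1, fun h => hu ?_⟩, fun r s => Subtype.ext (hR r r.2 s s.2), fun {r} hr => ?_⟩
    · exact (congrArg (fun z : R => z.1 u) h).symm
    · have hi : Function.Injective fun s : R => r * s := by
        intro s s' h
        apply hevinj
        by_contra hne
        refine hr (Subtype.ext (hker r.1 r.2 (ev s - ev s') (sub_ne_zero.2 hne) ?_))
        rw [map_sub]
        exact sub_eq_zero.2 (congrArg (fun z : R => z.1 u) h)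
      exact Finite.injective_iff_surjective.1 hi 1
  letI : Field R := hfield.toField
  have := Fintype.ofFinite R
  let f : {i : Fin (Fintype.card R) // True} ≃ R :=
    (Equiv.subtypeUnivEquiv (fun _ => trivial)).trans (Fintype.equivFin R).symm
  letI FF : Field {i : Fin (Fintype.card R) // True} := f.field
  let fr : {i : Fin (Fintype.card R) // True} ≃+* R :=
    { f with
      map_mul' := fun x y => f.apply_symm_apply (f x * f y)
      map_add' := fun x y => f.apply_symm_apply (f x + f y) }
  refine ⟨{i : Fin (Fintype.card R) // True}, FF, inferInstance,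
    fr.toAddEquiv.trans (AddEquiv.ofBijective ev ⟨hevinj, hevsurj⟩), ?_, fun t ht => ?_⟩
  · show ev (fr 1) = u
    rw [map_one]; rfl
  · refine ⟨fr.symm ⟨t, hTR t ht⟩, fun r => ?_⟩
    show t (ev (fr r)) = ev (fr (fr.symm ⟨t, hTR t ht⟩ * r))
    rw [map_mul, fr.apply_symm_apply]
    rfl

end Cfsg.Agent.ZassNormal
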