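import Mathlib

/-!
A group acting faithfully on a set, with translations, square scalings and a swap acting as
`r ↦ -1 / r` in suitable coordinates, is the projective special linear group in dimension two.
-/

set_option autoImplicit false

namespace Cfsg.Agent.ZassNormal

open MulAction OnePoint Matrix
open scoped MatrixGroups

variable {F : Type} [Field F] [DecidableEq F]

/-- Translation matrix. -/
def transMat (r : F) : SL(2, F) := ⟨!![1, r; 0, 1], by simp [det_fin_two]⟩

/-- Diagonal matrix. -/
def diagMat (s : F) (hs : s ≠ 0) : SL(2, F) :=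
  ⟨!![s, 0; 0, s⁻¹], by simp [det_fin_two, hs]⟩

/-- The Weyl element. -/
def weylMat : SL(2, F) := ⟨!![0, -1; 1, 0], by simp [det_fin_two]⟩

theorem toGL_smul_infty (A : SL(2, F)) :
    (SpecialLinearGroup.toGL A) • (∞ : OnePoint F) =
      if A.1 1 0 = 0 then ∞ else ((A.1 0 0 / A.1 1 0 : F) : OnePoint F) :=
  smul_infty_eq_ite _

theorem toGL_smul_coe (A : SL(2, F)) (k : F) :
    (SpecialLinearGroup.toGL A) • (k : OnePoint F) = if A.1 1 0 * k + A.1 1 1 = 0 then ∞
      else (((A.1 0 0 * k + A.1 0 1) / (A.1 1 0 * k + A.1 1 1) : F) : OnePoint F) :=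
  smul_some_eq_ite

theorem transMat_smul (r : F) (c : OnePoint F) :
    (SpecialLinearGroup.toGL (transMat r)) • c = c.map (fun k => k + r) := by
  cases c with
  | infty => rw [toGL_smul_infty]; simp [transMat]
  | coe k => rw [toGL_smul_coe]; simp [transMat]

theorem diagMat_smul (s : F) (hs : s ≠ 0) (c : OnePoint F) :
    (SpecialLinearGroup.toGL (diagMat s hs)) • c = c.map (fun k => s ^ 2 * k) := by
  cases c with
  | infty => rw [toGL_smul_infty]; simp [diagMat]
  | coe k =>
    rw [toGL_smul_coe]; simp [diagMat, hs]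
    ring

theorem weylMat_smul_infty :
    (SpecialLinearGroup.toGL (weylMat (F := F))) • (∞ : OnePoint F) = ((0 : F) : OnePoint F) := by
  rw [toGL_smul_infty]; simp [weylMat]

theorem weylMat_smul_zero :
    (SpecialLinearGroup.toGL (weylMat (F := F))) • ((0 : F) : OnePoint F) = ∞ := by
  rw [toGL_smul_coe]; simp [weylMat]

theorem weylMat_smul_coe {r : F} (hr : r ≠ 0) :
    (SpecialLinearGroup.toGL (weylMat (F := F))) • (r : OnePoint F) = ((-r⁻¹ : F) : OnePoint F) := by
  rw [toGL_smul_coe]; simp [weylMat, hr, neg_div]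

/-- Every matrix is a product of the three kinds of generators. -/
theorem sl_two_decomp (A : SL(2, F)) :
    (∃ (s r : F) (hs : s ≠ 0), A = diagMat s hs * transMat r) ∨
      ∃ (t s r : F) (hs : s ≠ 0), A = transMat t * weylMat * (diagMat s hs * transMat r) := by
  obtain ⟨⟨M, hM⟩⟩ : Nonempty {M : Matrix (Fin 2) (Fin 2) F // M = A.1} := ⟨⟨A.1, rfl⟩⟩
  have hdet : M 0 0 * M 1 1 - M 0 1 * M 1 0 = 1 := by
    rw [← det_fin_two, hM]; exact A.2
  by_cases hc : M 1 0 = 0
  · have ha : M 0 0 ≠ 0 := fun h => by simp [h, hc] at hdet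
    refine Or.inl ⟨M 0 0, M 0 1 / M 0 0, ha, Subtype.ext ?_⟩
    show A.1 = (diagMat (M 0 0) ha).1 * (transMat (M 0 1 / M 0 0)).1
    rw [← hM]
    have hd : M 1 1 = (M 0 0)⁻¹ := by
      rw [hc, mul_zero, sub_zero] at hdet
      exact (eq_inv_of_mul_eq_one_right hdet)
    ext i j
    fin_cases i <;> fin_cases j <;>
      simp [diagMat, transMat, Matrix.mul_apply, Fin.sum_univ_two, hc, hd]
    field_simp
  · refine Or.inr ⟨M 0 0 / M 1 0, M 1 0, M 1 1 / M 1 0, hc, Subtype.ext ?_⟩
    show A.1 = (transMat (M 0 0 / M 1 0)).1 * (weylMat (F := F)).1 *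
      ((diagMat (M 1 0) hc).1 * (transMat (M 1 1 / M 1 0)).1)
    rw [← hM]
    ext i j
    fin_cases i <;> fin_cases j <;>
      simp [diagMat, transMat, weylMat, Matrix.mul_apply, Fin.sum_univ_two]
    · field_simp
    · field_simp
      linear_combination -hdet
    · field_simp

variable {G Ω : Type*} [Group G] [MulAction G Ω] [FaithfulSMul G Ω] {a b : Ω} (τ : F → G)

/-- The coordinates. -/
def pointMap (a b : Ω) (τ : F → G) : OnePoint F → Ω := fun c => c.elim a (fun r => τ r • b)

/-- **Recognition of `PSL(2, F)`.** -/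
theorem nonempty_equiv_psl (hab : a ≠ b) (hτ : ∀ r s, τ (r + s) = τ r * τ s)
    (hτa : ∀ r, τ r • a = a) (hreg : ∀ c : Ω, c ≠ a → ∃! r, τ r • b = c)
    (hscale : ∀ s : F, s ≠ 0 → ∃ x : G, x • a = a ∧ ∀ r, x • τ r • b = τ (s ^ 2 * r) • b)
    (hgen : ∀ g : G, g • a = a → g • b = b →
      ∃ s : F, s ≠ 0 ∧ ∀ r, g • τ r • b = τ (s ^ 2 * r) • b)
    {w : G} (hwa : w • a = b) (hwb : w • b = a)
    (hw : ∀ r : F, r ≠ 0 → w • τ r • b = τ (-r⁻¹) • b) :
    Nonempty (G ≃* Matrix.ProjectiveSpecialLinearGroup (Fin 2) F) := by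
  have hτ0 : τ 0 = 1 := by
    have h := hτ 0 0
    rw [add_zero] at h
    exact mul_eq_left.1 h.symm
  have hne : ∀ r, τ r • b ≠ a := fun r h =>
    hab ((MulAction.injective (τ r) (h.trans (hτa r).symm)).symm)
  set φ : OnePoint F → Ω := pointMap a b τ with hφ
  have hφi : φ ∞ = a := rfl
  have hφc : ∀ r : F, φ r = τ r • b := fun r => rfl
  have hφ0 : φ ((0 : F) : OnePoint F) = b := by rw [hφc, hτ0, one_smul]
  have hinj : Function.Injective φ := by
    intro c d h
    cases c with
    | infty =>
      cases d with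
      | infty => rfl
      | coe s => exact absurd h.symm (hne s)
    | coe r =>
      cases d with
      | infty => exact absurd h (hne r)
      | coe s => exact congrArg _ ((hreg _ (hne s)).unique h rfl)
  have hsurj : Function.Surjective φ := by
    intro c
    by_cases hc : c = a
    · exact ⟨∞, by rw [hφi, hc]⟩
    · obtain ⟨r, hr, -⟩ := hreg c hc
      exact ⟨r, hr⟩
  -- every matrix is realised by a group element
  have hP : ∀ A : SL(2, F), ∃ g : G, ∀ c, g • φ c = φ ((SpecialLinearGroup.toGL A) • c) := by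
    have hmul : ∀ A B : SL(2, F),
        (∃ g : G, ∀ c, g • φ c = φ ((SpecialLinearGroup.toGL A) • c)) →
        (∃ g : G, ∀ c, g • φ c = φ ((SpecialLinearGroup.toGL B) • c)) →
        ∃ g : G, ∀ c, g • φ c = φ ((SpecialLinearGroup.toGL (A * B)) • c) := by
      rintro A B ⟨g, hg⟩ ⟨k, hk⟩
      exact ⟨g * k, fun c => by rw [mul_smul, hk, hg, map_mul, mul_smul]⟩
    have hT : ∀ r : F, ∃ g : G, ∀ c, g • φ c = φ ((SpecialLinearGroup.toGL (transMat r)) • c) := by
      refine fun r => ⟨τ r, fun c => ?_⟩
      rw [transMat_smul]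
      cases c with
      | infty => exact hτa r
      | coe k =>
        show τ r • τ k • b = φ ((k + r : F) : OnePoint F)
        rw [hφc, ← mul_smul, ← hτ, add_comm]
    have hD : ∀ (s : F) (hs : s ≠ 0),
        ∃ g : G, ∀ c, g • φ c = φ ((SpecialLinearGroup.toGL (diagMat s hs)) • c) := by
      intro s hs
      obtain ⟨x, hxa, hx⟩ := hscale s hs
      refine ⟨x, fun c => ?_⟩
      rw [diagMat_smul]
      cases c with
      | infty => exact hxa
      | coe k => exact hx k
    have hW : ∃ g : G, ∀ c, g • φ c = φ ((SpecialLinearGroup.toGL (weylMat (F := F))) • c) := by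
      refine ⟨w, fun c => ?_⟩
      cases c with
      | infty => rw [weylMat_smul_infty, hφ0]; exact hwa
      | coe k =>
        by_cases hk : k = 0
        · rw [hk, weylMat_smul_zero, hφ0, hwb, hφi]
        · rw [weylMat_smul_coe hk]
          exact hw k hk
    intro A
    rcases sl_two_decomp A with ⟨s, r, hs, rfl⟩ | ⟨t, s, r, hs, rfl⟩
    · exact hmul _ _ (hD s hs) (hT r)
    · exact hmul _ _ (hmul _ _ (hT t) hW) (hmul _ _ (hD s hs) (hT r))
  choose f hf using hP
  have hext : ∀ g k : G, (∀ c, g • φ c = k • φ c) → g = k := by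
    intro g k h
    refine eq_of_smul_eq_smul fun d : Ω => ?_
    obtain ⟨c, rfl⟩ := hsurj d
    exact h c
  let Φ : SL(2, F) →* G :=
    MonoidHom.mk' f fun A B => hext _ _ fun c => by
      rw [mul_smul, hf, hf, hf, map_mul, mul_smul]
  have hΦ : ∀ A c, Φ A • φ c = φ ((SpecialLinearGroup.toGL A) • c) := hf
  have hker : Φ.ker = Subgroup.center SL(2, F) := by
    ext A
    rw [MonoidHom.mem_ker, Matrix.SpecialLinearGroup.mem_center_iff]
    constructor
    · intro hA
      have hfix : ∀ c : OnePoint F, (SpecialLinearGroup.toGL A) • c = c := fun c =>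
        hinj (by rw [← hΦ, hA, one_smul])
      have hdet : A.1 0 0 * A.1 1 1 - A.1 0 1 * A.1 1 0 = 1 := by
        rw [← det_fin_two]; exact A.2
      have hc : A.1 1 0 = 0 := smul_infty_eq_self_iff.1 (hfix ∞)
      rw [hc, mul_zero, sub_zero] at hdet
      have hd : A.1 1 1 ≠ 0 := fun h => by simp [h] at hdet
      have h0 := hfix ((0 : F) : OnePoint F)
      have h1 := hfix ((1 : F) : OnePoint F)
      rw [toGL_smul_coe] at h0 h1
      simp [hc, hd] at h0 h1
      rw [h0, add_zero, div_eq_one_iff_eq hd] at h1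
      refine ⟨A.1 0 0, ?_, ?_⟩
      · rw [Fintype.card_fin, pow_two]
        nth_rewrite 2 [h1]
        exact hdet
      · ext i j
        fin_cases i <;> fin_cases j <;> simp [hc, h0, ← h1]
    · rintro ⟨r, hr, hrA⟩
      refine hext _ _ fun c => ?_
      have hr0 : r ≠ 0 := by rintro rfl; simp at hr
      rw [hΦ, one_smul]
      congr 1
      have e : ∀ i j, A.1 i j = scalar (Fin 2) r i j := fun i j => by rw [hrA]
      cases c with
      | infty => simp [toGL_smul_infty, e]
      | coe k => simp [toGL_smul_coe, e, hr0]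
  have hsurjΦ : Function.Surjective Φ := by
    have hTmem : ∀ r : F, τ r ∈ Φ.range := fun r => ⟨transMat r, hext _ _ fun c => by
      rw [hΦ, transMat_smul]
      cases c with
      | infty => exact (hτa r).symm
      | coe k =>
        show φ ((k + r : F) : OnePoint F) = τ r • τ k • b
        rw [hφc, ← mul_smul, ← hτ, add_comm]⟩
    have hfix : ∀ g : G, g • a = a → g ∈ Φ.range := by
      intro g hga
      obtain ⟨r, hr, -⟩ := hreg (g • b) fun h =>
        hab ((MulAction.injective g (h.trans hga.symm)).symm)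
      set g' := (τ r)⁻¹ * g
      have hga' : g' • a = a := by rw [mul_smul, hga, inv_smul_eq_iff, hτa]
      have hgb' : g' • b = b := by rw [mul_smul, inv_smul_eq_iff, hr]
      obtain ⟨s, hs, hs'⟩ := hgen g' hga' hgb'
      have : g' ∈ Φ.range := ⟨diagMat s hs, hext _ _ fun c => by
        rw [hΦ, diagMat_smul]
        cases c with
        | infty => exact hga'.symm
        | coe k => exact (hs' k).symm⟩
      have h := Φ.range.mul_mem (hTmem r) this
      simpa [g'] using h
    intro g
    by_cases hga : g • a = a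
    · exact hfix g hga
    · obtain ⟨r, hr, -⟩ := hreg (g • a) hga
      have hwmem : w ∈ Φ.range := ⟨weylMat, hext _ _ fun c => by
        rw [hΦ]
        cases c with
        | infty => rw [weylMat_smul_infty, hφ0]; exact hwa.symm
        | coe k =>
          by_cases hk : k = 0
          · rw [hk, weylMat_smul_zero, hφ0, hwb, hφi]
          · rw [weylMat_smul_coe hk]
            exact (hw k hk).symm⟩
      have h2 := Φ.range.mul_mem (Φ.range.mul_mem (hTmem r) hwmem) (hfix ((τ r * w)⁻¹ * g) (by
        rw [mul_smul, inv_smul_eq_iff, mul_smul, hwa, hr]))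
      rwa [mul_inv_cancel_left] at h2
  exact ⟨((QuotientGroup.quotientMulEquivOfEq hker.symm).trans
    (QuotientGroup.quotientKerEquivOfSurjective Φ hsurjΦ)).symm⟩

end Cfsg.Agent.ZassNormal
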