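import Cfsg.Agent.Lib.Zassenhaus.TwoPointEven
import Cfsg.Agent.Lib.Zassenhaus.FieldModel
import Cfsg.Agent.Lib.Zassenhaus.Moebius

/-!
A Zassenhaus group on `q + 1` points whose two-point stabilisers have even order `(q - 1) / 2` is
`PSL(2, q)`.
-/

set_option autoImplicit false

namespace Cfsg.Agent.ZassNormal

open MulAction
open Cfsg.Agent.CharDeep

variable {G Ω : Type*} [Group G] [Fintype G] [DecidableEq G] [MulAction G Ω] [Fintype Ω]
  [DecidableEq Ω] (hZ : Cfsg.IsZassenhausGroup G Ω) {a b : Ω} (hab : a ≠ b) {U : Subgroup G}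
  (hU : Zass.IsKernel a U) (heven : Even (Nat.card ↥(Zass.two G a b)))
  (hh : Nat.card ↥(Zass.two G a b) * 2 = Fintype.card Ω - 2)

include hZ hab hU heven hh

/-- Every element interchanging the two points is an involution fixing two points. -/
theorem swap_spec {g : G} (hg : g • a = b ∧ g • b = a) : g * g = 1 ∧ Zass.nfix Ω g = 2 := by
  classical
  obtain ⟨w, hw⟩ := Zass.exists_swap hZ hab
  set S := (Finset.univ.filter fun x : G => x ∈ Zass.two G a b).image (fun x => x * w)
  have hinS : ∀ s : G, (s • a = b ∧ s • b = a) → s ∈ S := by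
    intro s hs
    simp only [S, Finset.mem_image, Finset.mem_filter, Finset.mem_univ, true_and]
    refine ⟨s * w⁻¹, Zass.swap_mul_mem hs ?_, by group⟩
    constructor <;> rw [inv_smul_eq_iff]
    · exact hw.2.symm
    · exact hw.1.symm
  have hsub : ((Zass.invSwap G a b).filter fun x => Zass.nfix Ω x = 2) ⊆ S := fun s hs =>
    hinS s (Zass.mem_invSwap.1 (Finset.mem_filter.1 hs).1).2
  have heq := Finset.eq_of_subset_of_card_le hsub (by
    refine Finset.card_image_le.trans ?_
    rw [← Fintype.card_subtype, ← Nat.card_eq_fintype_card]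
    have h1 := card_swap_two hZ hab hU heven
    omega)
  have hgS := hinS g hg
  rw [← heq, Finset.mem_filter] at hgS
  exact ⟨(Zass.mem_invs.1 (Zass.mem_invSwap.1 hgS.1).1).2, hgS.2⟩

theorem inverts_two {w : G} (hw : w • a = b ∧ w • b = a) {x : G} (hx : x ∈ Zass.two G a b) :
    w * x = x⁻¹ * w := by
  have h1 := (swap_spec hZ hab hU heven hh hw).1
  have h2 := (swap_spec hZ hab hU heven hh (g := x * w)
    ⟨by rw [mul_smul, hw.1, hx.2], by rw [mul_smul, hw.2, hx.1]⟩).1
  calc w * x = x⁻¹ * ((x * w) * (x * w)) * w⁻¹ := by group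
    _ = x⁻¹ * (w * w) * w⁻¹ := by rw [h2, h1]
    _ = x⁻¹ * w := by group

theorem comm_two {x y : G} (hx : x ∈ Zass.two G a b) (hy : y ∈ Zass.two G a b) :
    x * y = y * x := by
  obtain ⟨w, hw⟩ := Zass.exists_swap hZ hab
  have hi := fun z : G => fun hz : z ∈ Zass.two G a b => inverts_two hZ hab hU heven hh hw (x := z) hz
  have h1 := hi _ ((Zass.two G a b).mul_mem hx hy)
  have h2 : w * (x * y) = (x⁻¹ * y⁻¹) * w := by
    rw [← mul_assoc, hi x hx, mul_assoc, hi y hy, mul_assoc]
  have h3 := mul_right_cancel (h1.symm.trans h2)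
  have h4 := congrArg Inv.inv h3
  simp only [mul_inv_rev, inv_inv] at h4
  exact h4

/-- **The identification with `PSL(2, q)`.** -/
theorem exists_psl : ∃ (F : Type) (_ : Field F) (_ : Fintype F),
    Fintype.card F + 1 = Fintype.card Ω ∧ 3 < Fintype.card F ∧ ringChar F ≠ 2 ∧
      Nonempty (G ≃* Matrix.ProjectiveSpecialLinearGroup (Fin 2) F) := by
  classical
  have h3 := Zass.three_le_card hZ hab
  have hfpf := isFPF_kernel hZ hab hU
  obtain ⟨-, hUc⟩ := unique_involution hZ hab hU heven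
  letI : CommGroup U :=
    { (inferInstance : Group U) with mul_comm := fun x y => hUc.is_comm.comm x y }
  have hUcard := hU.card
  set T := Zass.two G a b with hT
  let conjU : T → (U →* U) := fun x =>
    MonoidHom.mk' (fun u => ⟨(x : G) * u * (x : G)⁻¹, Zass.kernel_normal hZ hU x.2.1 u.2⟩)
      fun u v => Subtype.ext (by simp [mul_assoc])
  let θ : T → AddMonoid.End (Additive U) := fun x => MonoidHom.toAdditive (conjU x)
  have hθ : ∀ (x : T) (v : Additive U),
      ((θ x v).toMul : G) = (x : G) * v.toMul * (x : G)⁻¹ := fun x v => rfl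
  obtain ⟨u₀, hu₀, hu₀1⟩ := Zass.kernel_ne_bot hZ hU
  -- the field
  have hirr : ∀ W : AddSubgroup (Additive U), (∀ t ∈ Set.range θ, ∀ w ∈ W, t w ∈ W) →
      W = ⊥ ∨ W = ⊤ := by
    intro W hW
    by_contra hcon
    push Not at hcon
    let X : Subgroup G := (AddSubgroup.toSubgroup' W).map U.subtype
    have hmemX : ∀ v : Additive U, v ∈ W → ((v.toMul : U) : G) ∈ X := fun v hv =>
      ⟨v.toMul, hv, rfl⟩
    have hXU : X ≤ U := Subgroup.map_subtype_le _
    have hXn : T ≤ Subgroup.normalizer (X : Set G) := by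
      have hfor : ∀ g ∈ T, ∀ x ∈ X, g * x * g⁻¹ ∈ X := by
        rintro g hg _ ⟨v, hv, rfl⟩
        exact hmemX _ (hW _ ⟨⟨g, hg⟩, rfl⟩ (Additive.ofMul v) hv)
      intro g hg
      rw [Subgroup.mem_normalizer_iff]
      refine fun x => ⟨hfor g hg x, fun hx => ?_⟩
      have := hfor g⁻¹ (T.inv_mem hg) _ hx
      simpa [mul_assoc] using this
    have hXbot : X ≠ ⊥ := fun h => hcon.1 (by
      rw [AddSubgroup.eq_bot_iff_forall]
      intro v hv
      have := hmemX v hv
      rw [h, Subgroup.mem_bot] at this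
      exact Additive.toMul.injective (Subtype.ext this))
    have h1 := (hfpf.mono_right hXU hXn).card_dvd_card_sub_one
    have hXlt : X ≠ U := fun h => hcon.2 (by
      rw [AddSubgroup.eq_top_iff']
      intro v
      have hv : ((v.toMul : U) : G) ∈ X := by rw [h]; exact v.toMul.2
      obtain ⟨v', hv', he⟩ := hv
      rw [show v = Additive.ofMul v' from Additive.toMul.injective (Subtype.ext he.symm)]
      exact hv')
    obtain ⟨m, hm⟩ := Subgroup.card_dvd_of_le hXU
    have hX1 : 1 < Nat.card X := (Subgroup.one_lt_card_iff_ne_bot X).2 hXbot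
    have hm3 : 3 ≤ m := by
      have hodd : Odd (Nat.card U) := by
        have := even_card_of_even_two hZ hab heven
        rw [← hUcard, Nat.even_add_one] at this
        exact Nat.not_even_iff_odd.1 this
      rw [hm, Nat.odd_mul] at hodd
      rcases m with _ | _ | m
      · simp [Nat.card_pos.ne'] at hm
      · exact absurd (Subgroup.eq_of_le_of_card_ge hXU (by rw [hm, Nat.zero_add, mul_one])) hXlt
      · rcases hodd.2 with ⟨k, hk⟩; omega
    have h2 : Nat.card T ≤ Nat.card X - 1 := Nat.le_of_dvd (by omega) h1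
    have : Nat.card X * 3 ≤ Nat.card U := hm ▸ Nat.mul_le_mul_left _ hm3
    omega
  obtain ⟨F, instF, instFF, ι, hι1, hιT⟩ := exists_field_model (T := Set.range θ) (by
    rintro _ ⟨x, rfl⟩ _ ⟨y, rfl⟩
    refine DFunLike.ext _ _ fun v => Additive.toMul.injective (Subtype.ext ?_)
    show ((θ x (θ y v)).toMul : G) = ((θ y (θ x v)).toMul : G)
    rw [hθ, hθ, hθ, hθ]
    calc (x : G) * ((y : G) * v.toMul * (y : G)⁻¹) * (x : G)⁻¹
        = ((x : G) * y) * v.toMul * ((x : G) * y)⁻¹ := by group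
      _ = ((y : G) * x) * v.toMul * ((y : G) * x)⁻¹ := by
        rw [comm_two hZ hab hU heven hh x.2 y.2]
      _ = _ := by group) hirr (u := Additive.ofMul (⟨u₀, hu₀⟩ : U))
      (fun h => hu₀1 (congrArg (fun v => ((Additive.toMul v : U) : G)) h))
  refine ⟨F, instF, instFF, ?_⟩
  have hFcard : Fintype.card F = Nat.card U := by
    rw [← Nat.card_eq_fintype_card]
    exact (Nat.card_congr ι.toEquiv).trans (Nat.card_congr Additive.toMul)
  have hq4 : 3 < Fintype.card F := by
    have := Zass.two_card_gt_one hZ hab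
    rw [← hT] at this
    omega
  have hchar : ringChar F ≠ 2 := fun h => by
    have h2 := FiniteField.even_card_of_char_two h
    have := even_card_of_even_two hZ hab heven
    rw [← hUcard, Nat.even_add_one, ← hFcard, Nat.even_iff] at this
    exact this h2
  refine ⟨by omega, hq4, hchar, ?_⟩
  have hhalf : Fintype.card F / 2 = Nat.card T := by omega
  -- translations
  let τ : F → G := fun r => ((ι r).toMul : G)
  have hτ : ∀ r s, τ (r + s) = τ r * τ s := fun r s => by simp only [τ, map_add, toMul_add]; rfl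
  have hτU : ∀ r, τ r ∈ U := fun r => (ι r).toMul.2
  have hτa : ∀ r, τ r • a = a := fun r => mem_stabilizer_iff.1 (hU.le (hτU r))
  have hτinj : Function.Injective τ := fun r s h =>
    ι.injective (Additive.toMul.injective (Subtype.ext h))
  have hreg : ∀ c : Ω, c ≠ a → ∃! r, τ r • b = c := by
    intro c hc
    obtain ⟨u, hu, huc⟩ := Zass.kernel_regular hZ hab hU hc
    refine ⟨ι.symm (Additive.ofMul ⟨u, hu⟩), ?_, fun r hr => ?_⟩
    · simp only [τ, AddEquiv.apply_symm_apply]; exact huc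
    · apply hτinj
      simp only [τ, AddEquiv.apply_symm_apply]
      have h := Zass.kernel_inf_two hZ hab hU (U.mul_mem (U.inv_mem hu) (hτU r))
        (by rw [mul_smul, hr, inv_smul_eq_iff, huc])
      exact (inv_mul_eq_one.1 h).symm
  have hτ0 : τ 0 = 1 := by simp only [τ, map_zero]; rfl
  have hne : ∀ r, τ r • b ≠ a := fun r h =>
    hab ((MulAction.injective (τ r) (h.trans (hτa r).symm)).symm)
  -- scalings
  have hj : ∀ x ∈ T, ∃ c : F, c ≠ 0 ∧ ∀ r, x • τ r • b = τ (c * r) • b := by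
    intro x hx
    obtain ⟨c, hc⟩ := hιT _ ⟨⟨x, hx⟩, rfl⟩
    have hc' : ∀ r, τ (c * r) = x * τ r * x⁻¹ := fun r => by
      simp only [τ, ← hc]; exact hθ _ _
    refine ⟨c, fun h => ?_, fun r => ?_⟩
    · have h1 := hc' 1
      rw [h, zero_mul, hτ0, eq_comm, conj_eq_one_iff, ← hτ0] at h1
      exact one_ne_zero (hτinj h1)
    · rw [hc', mul_smul, mul_smul, inv_smul_eq_iff.2 hx.2.symm]
  choose j hj0 hjspec using hj
  have hpt : ∀ r s, τ r • b = τ s • b → r = s := fun r s h => (hreg _ (hne s)).unique h rfl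
  have hjinj : ∀ x (hx : x ∈ T) y (hy : y ∈ T), j x hx = j y hy → x = y := by
    intro x hx y hy h
    have := hZ.1
    refine eq_of_smul_eq_smul fun c : Ω => ?_
    by_cases hca : c = a
    · rw [hca, hx.1, hy.1]
    · obtain ⟨r, rfl, -⟩ := hreg c hca
      rw [hjspec x hx, hjspec y hy, h]
  have hjmul : ∀ x (hx : x ∈ T) y (hy : y ∈ T),
      j (x * y) (T.mul_mem hx hy) = j x hx * j y hy := by
    intro x hx y hy
    have h1 := hjspec (x * y) (T.mul_mem hx hy) 1
    rw [mul_smul, hjspec y hy, hjspec x hx, mul_one, mul_one] at h1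
    exact (hpt _ _ h1).symm
  have hj1 : j 1 T.one_mem = 1 := by
    have h1 := hjspec 1 T.one_mem 1
    rw [one_smul, mul_one] at h1
    exact (hpt _ _ h1).symm
  let jh : T →* F :=
    { toFun := fun x => j x x.2, map_one' := hj1, map_mul' := fun x y => hjmul x x.2 y y.2 }
  have hjhinj : Function.Injective jh := fun x y h => Subtype.ext (hjinj x x.2 y y.2 h)
  have hsq_j : ∀ x : T, IsSquare (jh x) := fun x => by
    rw [FiniteField.isSquare_iff hchar (show jh x ≠ 0 from hj0 x x.2), hhalf, ← map_pow, pow_card_eq_one', map_one]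
  have hsurj_j : ∀ c : F, c ≠ 0 → IsSquare c → ∃ x : T, jh x = c := by
    intro c hc hcs
    set R := (Polynomial.nthRoots (Nat.card T) (1 : F)).toFinset
    have hR : ∀ d : F, d ≠ 0 → IsSquare d → d ∈ R := by
      intro d hd hds
      rw [Multiset.mem_toFinset, Polynomial.mem_nthRoots Nat.card_pos, ← hhalf]
      exact (FiniteField.isSquare_iff hchar hd).1 hds
    have hsub : Finset.univ.image jh ⊆ R := by
      intro d hd
      obtain ⟨x, -, rfl⟩ := Finset.mem_image.1 hd
      exact hR _ (hj0 x x.2) (hsq_j x)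
    have heq := Finset.eq_of_subset_of_card_le hsub (by
      rw [Finset.card_image_of_injective _ hjhinj, Finset.card_univ, ← Nat.card_eq_fintype_card]
      exact (Multiset.toFinset_card_le _).trans (Polynomial.card_nthRoots _ _))
    have hcR := hR c hc hcs
    rw [← heq, Finset.mem_image] at hcR
    obtain ⟨x, -, hx⟩ := hcR
    exact ⟨x, hx⟩
  have hratio : ∀ {r s : F}, r ≠ 0 → s ≠ 0 → ¬ IsSquare r → ¬ IsSquare s → IsSquare (r / s) := by
    intro r s hr hs hrn hsn
    have h : ∀ {d : F}, d ≠ 0 → ¬ IsSquare d → d ^ (Fintype.card F / 2) = -1 := fun hd hdn =>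
      (FiniteField.pow_dichotomy hchar hd).resolve_left fun h =>
        hdn ((FiniteField.isSquare_iff hchar hd).2 h)
    rw [FiniteField.isSquare_iff hchar (div_ne_zero hr hs), div_pow, h hr hrn, h hs hsn]
    norm_num
  have hm1 : IsSquare (-1 : F) := by
    rw [FiniteField.isSquare_iff hchar (neg_ne_zero.2 one_ne_zero), hhalf]
    exact heven.neg_one_pow
  -- the shape of a swap
  have hshape : ∀ v : G, (v • a = b ∧ v • b = a) → ∃ f : F → F,
      (∀ r, r ≠ 0 → f r ≠ 0 ∧ v • τ r • b = τ (f r) • b) ∧ (∀ r, r ≠ 0 → f (f r) = r) ∧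
      (∀ c r, c ≠ 0 → IsSquare c → r ≠ 0 → f (c * r) = c⁻¹ * f r) := by
    intro v hv
    have hex : ∀ r, r ≠ 0 → ∃ s, s ≠ 0 ∧ v • τ r • b = τ s • b := by
      intro r hr
      obtain ⟨s, hs, -⟩ := hreg (v • τ r • b) fun h => hr (hpt _ _
        ((MulAction.injective v (h.trans hv.2.symm)).trans (by rw [hτ0, one_smul])))
      refine ⟨s, fun h => hne r (MulAction.injective v ?_), hs.symm⟩
      show v • τ r • b = v • a
      rw [← hs, h, hτ0, one_smul]
      exact hv.1.symm
    choose f hf0 hf using hex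
    refine ⟨fun r => if h : r = 0 then 0 else f r h, fun r hr => by simp [hr, hf0, ← hf],
      fun r hr => ?_, fun c r hc hcs hr => ?_⟩
    · have h2 := hf (f r hr) (hf0 r hr)
      rw [← hf r hr, ← mul_smul, (swap_spec hZ hab hU heven hh hv).1, one_smul] at h2
      simp [hr, hf0, ← hpt _ _ h2]
    · obtain ⟨⟨x, hx⟩, hxc⟩ := hsurj_j c hc hcs
      have hxc' : j x hx = c := hxc
      have hinv : j x⁻¹ (T.inv_mem hx) = c⁻¹ := by
        have h := hjmul x⁻¹ (T.inv_mem hx) x hx
        simp only [inv_mul_cancel, hj1] at h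
        rw [← hxc']
        exact eq_inv_of_mul_eq_one_left h.symm
      simp only [hc, hr, mul_eq_zero, or_self, dite_false]
      apply hpt
      rw [← hf (c * r) (mul_ne_zero hc hr), ← hxc', ← hjspec x hx, ← mul_smul,
        inverts_two hZ hab hU heven hh hv hx, mul_smul, hf r hr, hjspec _ (T.inv_mem hx), hinv,
        hxc']
  -- `f 1` is a square
  have hf1 : ∀ v : G, (v • a = b ∧ v • b = a) → ∀ f : F → F,
      (∀ r, r ≠ 0 → f r ≠ 0 ∧ v • τ r • b = τ (f r) • b) → (∀ r, r ≠ 0 → f (f r) = r) →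
      (∀ c r, c ≠ 0 → IsSquare c → r ≠ 0 → f (c * r) = c⁻¹ * f r) → IsSquare (f 1) := by
    intro v hv f hf hff hfc
    by_contra hns
    have h2 := (swap_spec hZ hab hU heven hh hv).2
    obtain ⟨c, hc⟩ : ∃ c : Ω, v • c = c := by
      by_contra hno
      push Not at hno
      rw [Zass.nfix_eq_zero.2 hno] at h2
      exact absurd h2 (by norm_num)
    obtain ⟨r, rfl, -⟩ := hreg c fun h => hab (by rw [h] at hc; exact hc.symm.trans hv.1)
    have hr : r ≠ 0 := fun h => by
      rw [h, hτ0, one_smul, hv.2] at hc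
      exact hab hc
    have hfr : f r = r := hpt _ _ ((hf r hr).2.symm.trans hc)
    by_cases hrs : IsSquare r
    · have := hfc r 1 hr hrs one_ne_zero
      rw [mul_one, hfr] at this
      refine hns ⟨r, ?_⟩
      rw [eq_inv_mul_iff_mul_eq₀ hr] at this
      exact this.symm
    · have hγ := (hf 1 one_ne_zero).1
      have hcs := hratio hr hγ hrs hns
      have := hfc (r / f 1) (f 1) (div_ne_zero hr hγ) hcs hγ
      rw [div_mul_cancel₀ r hγ, hfr, hff 1 one_ne_zero, mul_one] at this
      exact hrs (this ▸ hcs.inv)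
  -- normalise the swap
  obtain ⟨v₀, hv₀⟩ := Zass.exists_swap hZ hab
  obtain ⟨f₀, hf₀, hff₀, hfc₀⟩ := hshape v₀ hv₀
  obtain ⟨⟨x₀, hx₀⟩, hjx₀⟩ := hsurj_j (-1 / f₀ 1) (div_ne_zero (neg_ne_zero.2 one_ne_zero)
    (hf₀ 1 one_ne_zero).1) (hm1.div (hf1 v₀ hv₀ f₀ hf₀ hff₀ hfc₀))
  set w := x₀ * v₀ with hwdef
  have hw : w • a = b ∧ w • b = a := by
    constructor <;> rw [hwdef, mul_smul]
    · rw [hv₀.1, hx₀.2]
    · rw [hv₀.2, hx₀.1]
  obtain ⟨f, hf, hff, hfc⟩ := hshape w hw
  have hf_one : f 1 = -1 := by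
    apply hpt
    rw [← (hf 1 one_ne_zero).2, hwdef, mul_smul, (hf₀ 1 one_ne_zero).2, hjspec x₀ hx₀,
      show j x₀ hx₀ = -1 / f₀ 1 from hjx₀, div_mul_cancel₀ _ (hf₀ 1 one_ne_zero).1]
  have hfsq : ∀ r, r ≠ 0 → IsSquare r → f r = -r⁻¹ := by
    intro r hr hrs
    have := hfc r 1 hr hrs one_ne_zero
    rwa [mul_one, hf_one, mul_neg_one] at this
  have hneg1 : f (-1) = 1 := by
    rw [hfsq _ (neg_ne_zero.2 one_ne_zero) hm1, inv_neg, inv_one, neg_neg]
  -- `w τ₁` has order three
  have hcube : ∀ x : F, x ≠ 0 → x + 1 ≠ 0 → f (f (x + 1) + 1) = f x - 1 := by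
    intro x hx hx1
    set g := w * τ 1 with hgdef
    have hg : ∀ r, r + 1 ≠ 0 → g • τ r • b = τ (f (r + 1)) • b := by
      intro r hr
      rw [hgdef, mul_smul, ← mul_smul (τ 1), ← hτ, add_comm, (hf _ hr).2]
    have hga : g • a = b := by rw [hgdef, mul_smul, hτa, hw.1]
    have hgb : g • b = τ (-1) • b := by
      have := hg 0 (by simp)
      rwa [hτ0, one_smul, zero_add, hf_one] at this
    have hgc : g • τ (-1) • b = a := by
      rw [hgdef, mul_smul, ← mul_smul (τ 1), ← hτ, add_neg_cancel, hτ0, one_smul, hw.2]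
    have hg3 : g * g * g = 1 := by
      refine Zass.eq_one_of_three hZ hab (c := τ (-1) • b) ?_ (Ne.symm (hne _))
        (by rw [mul_smul, mul_smul, hga, hgb, hgc]) (by rw [mul_smul, mul_smul, hgb, hgc, hga])
        (by rw [mul_smul, mul_smul, hgc, hga, hgb])
      intro h
      have : (0 : F) = -1 := hpt _ _ (by rw [hτ0, one_smul]; exact h)
      exact one_ne_zero (neg_eq_zero.1 this.symm)
    set y := f (x + 1) with hy
    have hy1 : y + 1 ≠ 0 := fun h => by
      have h' := hff _ hx1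
      rw [← hy, eq_neg_of_add_eq_zero_left h, hneg1] at h'
      exact hx (add_eq_right.1 h'.symm)
    set z := f (y + 1) with hz
    have hz1 : z + 1 ≠ 0 := fun h => by
      have h' := hff _ hy1
      rw [← hz, eq_neg_of_add_eq_zero_left h, hneg1] at h'
      exact (hf _ hx1).1 (add_eq_right.1 h'.symm)
    have h3' : τ (f (z + 1)) • b = τ x • b := by
      rw [← hg z hz1, hz, ← hg y hy1, hy, ← hg x hx1, smul_smul, smul_smul, hg3, one_smul]
    have h4 := hff _ hz1
    rw [hpt _ _ h3'] at h4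
    rw [eq_sub_iff_add_eq, h4]
  -- a non-square followed by a square
  obtain ⟨n, hn0, hns, hn1, hn1s⟩ : ∃ n : F, n ≠ 0 ∧ ¬ IsSquare n ∧ n + 1 ≠ 0 ∧
      IsSquare (n + 1) := by
    obtain ⟨m, hm⟩ := FiniteField.exists_nonsquare hchar
    by_contra hcon
    push Not at hcon
    have hstep : ∀ n : F, ¬ IsSquare n → ¬ IsSquare (n + 1) := fun n hn => by
      have hn0 : n ≠ 0 := fun h => hn (h ▸ IsSquare.zero)
      refine hcon n hn0 hn fun h => hn ?_
      rw [eq_neg_of_add_eq_zero_left h]; exact hm1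
    have hadd : ∀ s n : F, ¬ IsSquare n → ¬ IsSquare (n + s ^ 2) := by
      intro s n hn h
      by_cases hs : s = 0
      · exact hn (by simpa [hs] using h)
      · have h1 : ¬ IsSquare (n / s ^ 2) := fun h' => hn (by
          have := h'.mul (IsSquare.sq s)
          rwa [div_mul_cancel₀ _ (pow_ne_zero 2 hs)] at this)
        refine hstep _ h1 ?_
        have := h.div (IsSquare.sq s)
        rwa [add_div, div_self (pow_ne_zero 2 hs)] at this
    obtain ⟨s, t, hst⟩ := FiniteField.exists_root_sum_quadratic (f := Polynomial.X ^ 2)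
      (g := Polynomial.X ^ 2 - Polynomial.C (-m)) (Polynomial.degree_X_pow 2)
      (Polynomial.degree_X_pow_sub_C (by norm_num) _) (FiniteField.odd_card_of_char_ne_two hchar)
    simp only [Polynomial.eval_sub, Polynomial.eval_pow, Polynomial.eval_X, Polynomial.eval_C] at hst
    have h0 := hadd t _ (hadd s m hm)
    rw [show m + s ^ 2 + t ^ 2 = 0 by linear_combination hst] at h0
    exact h0 IsSquare.zero
  have hfn : f n = -n⁻¹ := by
    have hid := hcube n hn0 hn1
    have hmul := hfc ((n + 1)⁻¹) n (inv_ne_zero hn1) hn1s.inv hn0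
    have e : f (n + 1) + 1 = (n + 1)⁻¹ * n := by
      rw [hfsq _ hn1 hn1s]
      field_simp
      ring
    rw [e, hmul, inv_inv] at hid
    have : f n * n = -1 := by linear_combination hid
    rw [← neg_inj, neg_neg]
    exact eq_inv_of_mul_eq_one_left (by linear_combination -this)
  have hfall : ∀ r, r ≠ 0 → f r = -r⁻¹ := by
    intro r hr
    by_cases hrs : IsSquare r
    · exact hfsq r hr hrs
    · have := hfc (r / n) n (div_ne_zero hr hn0) (hratio hr hn0 hrs hns) hn0
      rw [div_mul_cancel₀ _ hn0, hfn, inv_div] at this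
      rw [this]
      field_simp
  have := hZ.1
  refine nonempty_equiv_psl (a := a) (b := b) τ hab hτ hτa hreg ?_ ?_ hw.1 hw.2
    fun r hr => by rw [(hf r hr).2, hfall r hr]
  · intro s hs
    obtain ⟨⟨x, hx⟩, hxs⟩ := hsurj_j (s ^ 2) (pow_ne_zero 2 hs) (IsSquare.sq s)
    exact ⟨x, hx.1, fun r => by rw [hjspec x hx, show j x hx = s ^ 2 from hxs]⟩
  · intro g hga hgb
    obtain ⟨s, hs⟩ := hsq_j ⟨g, hga, hgb⟩
    have hs0 : s ≠ 0 := fun h => hj0 g ⟨hga, hgb⟩ (by rw [h, mul_zero] at hs; exact hs)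
    exact ⟨s, hs0, fun r => by
      rw [hjspec g ⟨hga, hgb⟩, show j g ⟨hga, hgb⟩ = s * s from hs, pow_two]⟩

end Cfsg.Agent.ZassNormal
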