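import Cfsg.Agent.Lib.Zassenhaus.TwoPointEven
import Cfsg.Agent.Lib.Zassenhaus.FieldModel
import Cfsg.Agent.Lib.Zassenhaus.Moebius

/-!
A Zassenhaus group with abelian kernel of order `q ≤ 2 e + 1` whose two-point stabilisers have odd
order `e` and whose interchanging elements are involutions is `PSL(2, q)`.
-/

set_option autoImplicit false

namespace Cfsg.Agent.ZassNormal

open MulAction
open Cfsg.Agent.CharDeep

variable {G Ω : Type*} [Group G] [Fintype G] [DecidableEq G] [MulAction G Ω] [Fintype Ω]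
  [DecidableEq Ω] (hZ : Cfsg.IsZassenhausGroup G Ω) {a b : Ω} (hab : a ≠ b) {U : Subgroup G}
  (hU : Zass.IsKernel a U) (hb : Fintype.card Ω - 2 ≤ 2 * Nat.card ↥(Zass.two G a b))

include hZ hab hU hb

/-- A non-trivial subgroup of the kernel normalised by the two-point stabiliser is the whole
kernel. -/
theorem eq_kernel_of_invariant {X : Subgroup G} (hXU : X ≤ U)
    (hXn : Zass.two G a b ≤ Subgroup.normalizer (X : Set G)) (hXbot : X ≠ ⊥) : X = U := by
  classical
  by_contra hXlt
  have h1 := ((isFPF_kernel hZ hab hU).mono_right hXU hXn).card_dvd_card_sub_one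
  obtain ⟨m, hm⟩ := Subgroup.card_dvd_of_le hXU
  have hX1 : 1 < Nat.card X := (Subgroup.one_lt_card_iff_ne_bot X).2 hXbot
  have h2 := Nat.le_of_dvd (by omega) h1
  have hUc := hU.card
  have h3 := Zass.three_le_card hZ hab
  rcases m with _ | _ | m
  · rw [mul_zero] at hm; omega
  · exact hXlt (Subgroup.eq_of_le_of_card_ge hXU (by rw [hm, Nat.zero_add, mul_one]))
  · have : Nat.card X * 2 ≤ Nat.card U := hm ▸ Nat.mul_le_mul_left _ (by omega)
    omega

variable (hodd : Odd (Nat.card ↥(Zass.two G a b)))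
  (hsq : ∀ g : G, g • a = b → g • b = a → g * g = 1)

include hodd hsq

omit hU hb hodd [Fintype Ω] [DecidableEq Ω] [Fintype G] [DecidableEq G] in
theorem inverts_of_swap_sq {w : G} (hw : w • a = b ∧ w • b = a) {x : G}
    (hx : x ∈ Zass.two G a b) : w * x = x⁻¹ * w := by
  have h1 := hsq w hw.1 hw.2
  have h2 := hsq (x * w) (by rw [mul_smul, hw.1, hx.2]) (by rw [mul_smul, hw.2, hx.1])
  calc w * x = x⁻¹ * ((x * w) * (x * w)) * w⁻¹ := by group
    _ = x⁻¹ * (w * w) * w⁻¹ := by rw [h2, h1]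
    _ = x⁻¹ * w := by group

omit hU hb hodd [Fintype Ω] [DecidableEq Ω] [Fintype G] [DecidableEq G] in
theorem comm_of_swap_sq {x y : G} (hx : x ∈ Zass.two G a b) (hy : y ∈ Zass.two G a b) :
    x * y = y * x := by
  obtain ⟨w, hw⟩ := Zass.exists_swap hZ hab
  have hi := fun z : G => fun hz : z ∈ Zass.two G a b =>
    inverts_of_swap_sq hZ hab hsq hw (x := z) hz
  have h1 := hi _ ((Zass.two G a b).mul_mem hx hy)
  have h2 : w * (x * y) = (x⁻¹ * y⁻¹) * w := by
    rw [← mul_assoc, hi x hx, mul_assoc, hi y hy, mul_assoc]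
  have h3 := mul_right_cancel (h1.symm.trans h2)
  have h4 := congrArg Inv.inv h3
  simp only [mul_inv_rev, inv_inv] at h4
  exact h4

/-- **The identification with `PSL(2, q)`, two-point stabilisers of odd order.** -/
theorem exists_psl_odd (hUc : ∀ x y : U, x * y = y * x) : ∃ (F : Type) (_ : Field F)
    (_ : Fintype F), Fintype.card F + 1 = Fintype.card Ω ∧
      (Nat.card ↥(Zass.two G a b) + 2 = Fintype.card Ω ∨ ringChar F ≠ 2) ∧
      Nonempty (G ≃* Matrix.ProjectiveSpecialLinearGroup (Fin 2) F) := by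
  classical
  have h3 := Zass.three_le_card hZ hab
  have hfpf := isFPF_kernel hZ hab hU
  letI : CommGroup U :=
    { (inferInstance : Group U) with mul_comm := hUc }
  have hUcard := hU.card
  set T := Zass.two G a b with hT
  let conjU : T → (U →* U) := fun x =>
    MonoidHom.mk' (fun u => ⟨(x : G) * u * (x : G)⁻¹, Zass.kernel_normal hZ hU x.2.1 u.2⟩)
      fun u v => Subtype.ext (by simp [mul_assoc])
  let θ : T → AddMonoid.End (Additive U) := fun x => MonoidHom.toAdditive (conjU x)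
  have hθ : ∀ (x : T) (v : Additive U),
      ((θ x v).toMul : G) = (x : G) * v.toMul * (x : G)⁻¹ := fun x v => rfl
  obtain ⟨u₀, hu₀, hu₀1⟩ := Zass.kernel_ne_bot hZ hU
  -- the field
  have hirr : ∀ W : AddSubgroup (Additive U), (∀ t ∈ Set.range θ, ∀ w ∈ W, t w ∈ W) →
      W = ⊥ ∨ W = ⊤ := by
    intro W hW
    by_contra hcon
    push Not at hcon
    let X : Subgroup G := (AddSubgroup.toSubgroup' W).map U.subtype
    have hmemX : ∀ v : Additive U, v ∈ W → ((v.toMul : U) : G) ∈ X := fun v hv =>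
      ⟨v.toMul, hv, rfl⟩
    have hXU : X ≤ U := Subgroup.map_subtype_le _
    have hXn : T ≤ Subgroup.normalizer (X : Set G) := by
      have hfor : ∀ g ∈ T, ∀ x ∈ X, g * x * g⁻¹ ∈ X := by
        rintro g hg _ ⟨v, hv, rfl⟩
        exact hmemX _ (hW _ ⟨⟨g, hg⟩, rfl⟩ (Additive.ofMul v) hv)
      intro g hg
      rw [Subgroup.mem_normalizer_iff]
      refine fun x => ⟨hfor g hg x, fun hx => ?_⟩
      have := hfor g⁻¹ (T.inv_mem hg) _ hx
      simpa [mul_assoc] using this
    have hXbot : X ≠ ⊥ := fun h => hcon.1 (by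
      rw [AddSubgroup.eq_bot_iff_forall]
      intro v hv
      have := hmemX v hv
      rw [h, Subgroup.mem_bot] at this
      exact Additive.toMul.injective (Subtype.ext this))
    refine hcon.2 ?_
    have hXeq := eq_kernel_of_invariant hZ hab hU hb hXU hXn hXbot
    rw [AddSubgroup.eq_top_iff']
    intro v
    have hv : ((v.toMul : U) : G) ∈ X := by rw [hXeq]; exact v.toMul.2
    obtain ⟨v', hv', he⟩ := hv
    rw [show v = Additive.ofMul v' from Additive.toMul.injective (Subtype.ext he.symm)]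
    exact hv'
  obtain ⟨F, instF, instFF, ι, hι1, hιT⟩ := exists_field_model (T := Set.range θ) (by
    rintro _ ⟨x, rfl⟩ _ ⟨y, rfl⟩
    refine DFunLike.ext _ _ fun v => Additive.toMul.injective (Subtype.ext ?_)
    show ((θ x (θ y v)).toMul : G) = ((θ y (θ x v)).toMul : G)
    rw [hθ, hθ, hθ, hθ]
    calc (x : G) * ((y : G) * v.toMul * (y : G)⁻¹) * (x : G)⁻¹
        = ((x : G) * y) * v.toMul * ((x : G) * y)⁻¹ := by group
      _ = ((y : G) * x) * v.toMul * ((y : G) * x)⁻¹ := by
        rw [comm_of_swap_sq hZ hab hsq x.2 y.2]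
      _ = _ := by group) hirr (u := Additive.ofMul (⟨u₀, hu₀⟩ : U))
      (fun h => hu₀1 (congrArg (fun v => ((Additive.toMul v : U) : G)) h))
  refine ⟨F, instF, instFF, ?_⟩
  have hFcard : Fintype.card F = Nat.card U := by
    rw [← Nat.card_eq_fintype_card]
    exact (Nat.card_congr ι.toEquiv).trans (Nat.card_congr Additive.toMul)
  have hdvd := two_dvd_card_kernel_sub_one hZ hab hU
  rw [← hT] at hdvd
  have hT1 := Zass.two_card_gt_one hZ hab
  rw [← hT] at hT1
  have hcases : Nat.card T + 1 = Fintype.card F ∨ 2 * Nat.card T + 1 = Fintype.card F := by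
    obtain ⟨k, hk⟩ := hdvd
    rcases k with _ | _ | _ | k
    · omega
    · left; omega
    · right; omega
    · have : Nat.card T * 3 ≤ Nat.card T * (k + 1 + 1 + 1) := Nat.mul_le_mul_left _ (by omega)
      omega
  have heven2 : ∀ h2 : ringChar F = 2, Nat.card T + 1 = Fintype.card F := fun h2 => by
    have := FiniteField.even_card_of_char_two h2
    omega
  have hodd2 : ∀ h2 : ringChar F ≠ 2, 2 * Nat.card T + 1 = Fintype.card F := fun h2 => by
    have := FiniteField.odd_card_of_char_ne_two h2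
    obtain ⟨k, hk⟩ := hodd
    omega
  refine ⟨by omega, ?_, ?_⟩
  · by_cases h2 : ringChar F = 2
    · have := heven2 h2
      left; omega
    · exact Or.inr h2
  -- translations
  let τ : F → G := fun r => ((ι r).toMul : G)
  have hτ : ∀ r s, τ (r + s) = τ r * τ s := fun r s => by simp only [τ, map_add, toMul_add]; rfl
  have hτU : ∀ r, τ r ∈ U := fun r => (ι r).toMul.2
  have hτa : ∀ r, τ r • a = a := fun r => mem_stabilizer_iff.1 (hU.le (hτU r))
  have hτinj : Function.Injective τ := fun r s h =>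
    ι.injective (Additive.toMul.injective (Subtype.ext h))
  have hreg : ∀ c : Ω, c ≠ a → ∃! r, τ r • b = c := by
    intro c hc
    obtain ⟨u, hu, huc⟩ := Zass.kernel_regular hZ hab hU hc
    refine ⟨ι.symm (Additive.ofMul ⟨u, hu⟩), ?_, fun r hr => ?_⟩
    · simp only [τ, AddEquiv.apply_symm_apply]; exact huc
    · apply hτinj
      simp only [τ, AddEquiv.apply_symm_apply]
      have h := Zass.kernel_inf_two hZ hab hU (U.mul_mem (U.inv_mem hu) (hτU r))
        (by rw [mul_smul, hr, inv_smul_eq_iff, huc])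
      exact (inv_mul_eq_one.1 h).symm
  have hτ0 : τ 0 = 1 := by simp only [τ, map_zero]; rfl
  have hne : ∀ r, τ r • b ≠ a := fun r h =>
    hab ((MulAction.injective (τ r) (h.trans (hτa r).symm)).symm)
  -- scalings
  have hj : ∀ x ∈ T, ∃ c : F, c ≠ 0 ∧ ∀ r, x • τ r • b = τ (c * r) • b := by
    intro x hx
    obtain ⟨c, hc⟩ := hιT _ ⟨⟨x, hx⟩, rfl⟩
    have hc' : ∀ r, τ (c * r) = x * τ r * x⁻¹ := fun r => by
      simp only [τ, ← hc]; exact hθ _ _
    refine ⟨c, fun h => ?_, fun r => ?_⟩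
    · have h1 := hc' 1
      rw [h, zero_mul, hτ0, eq_comm, conj_eq_one_iff, ← hτ0] at h1
      exact one_ne_zero (hτinj h1)
    · rw [hc', mul_smul, mul_smul, inv_smul_eq_iff.2 hx.2.symm]
  choose j hj0 hjspec using hj
  have hpt : ∀ r s, τ r • b = τ s • b → r = s := fun r s h => (hreg _ (hne s)).unique h rfl
  have hjinj : ∀ x (hx : x ∈ T) y (hy : y ∈ T), j x hx = j y hy → x = y := by
    intro x hx y hy h
    have := hZ.1
    refine eq_of_smul_eq_smul fun c : Ω => ?_
    by_cases hca : c = a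
    · rw [hca, hx.1, hy.1]
    · obtain ⟨r, rfl, -⟩ := hreg c hca
      rw [hjspec x hx, hjspec y hy, h]
  have hjmul : ∀ x (hx : x ∈ T) y (hy : y ∈ T),
      j (x * y) (T.mul_mem hx hy) = j x hx * j y hy := by
    intro x hx y hy
    have h1 := hjspec (x * y) (T.mul_mem hx hy) 1
    rw [mul_smul, hjspec y hy, hjspec x hx, mul_one, mul_one] at h1
    exact (hpt _ _ h1).symm
  have hj1 : j 1 T.one_mem = 1 := by
    have h1 := hjspec 1 T.one_mem 1
    rw [one_smul, mul_one] at h1
    exact (hpt _ _ h1).symm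
  let jh : T →* F :=
    { toFun := fun x => j x x.2, map_one' := hj1, map_mul' := fun x y => hjmul x x.2 y y.2 }
  have hjhinj : Function.Injective jh := fun x y h => Subtype.ext (hjinj x x.2 y y.2 h)
  have hsq_j : ∀ x : T, IsSquare (jh x) := fun x => by
    by_cases h2 : ringChar F = 2
    · exact FiniteField.isSquare_of_char_two h2 _
    · have := hodd2 h2
      rw [FiniteField.isSquare_iff h2 (show jh x ≠ 0 from hj0 x x.2),
        show Fintype.card F / 2 = Nat.card T by omega, ← map_pow, pow_card_eq_one', map_one]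
  have hsurj_j : ∀ c : F, c ≠ 0 → IsSquare c → ∃ x : T, jh x = c := by
    intro c hc hcs
    set R := Finset.univ.filter fun d : F => d ≠ 0 ∧ IsSquare d
    have hRle : R.card ≤ Nat.card T := by
      by_cases h2 : ringChar F = 2
      · have := heven2 h2
        have h : R ⊆ Finset.univ.erase 0 := fun d hd => Finset.mem_erase.2
          ⟨(Finset.mem_filter.1 hd).2.1, Finset.mem_univ d⟩
        have := Finset.card_le_card h
        rw [Finset.card_erase_of_mem (Finset.mem_univ _), Finset.card_univ] at this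
        omega
      · have := hodd2 h2
        have hR : R ⊆ (Polynomial.nthRoots (Nat.card T) (1 : F)).toFinset := by
          intro d hd
          obtain ⟨-, hd, hds⟩ := Finset.mem_filter.1 hd
          rw [Multiset.mem_toFinset, Polynomial.mem_nthRoots Nat.card_pos,
            show Nat.card T = Fintype.card F / 2 by omega]
          exact (FiniteField.isSquare_iff h2 hd).1 hds
        exact (Finset.card_le_card hR).trans
          ((Multiset.toFinset_card_le _).trans (Polynomial.card_nthRoots _ _))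
    have hsub : Finset.univ.image jh ⊆ R := by
      intro d hd
      obtain ⟨x, -, rfl⟩ := Finset.mem_image.1 hd
      exact Finset.mem_filter.2 ⟨Finset.mem_univ _, hj0 x x.2, hsq_j x⟩
    have heq := Finset.eq_of_subset_of_card_le hsub (by
      rw [Finset.card_image_of_injective _ hjhinj, Finset.card_univ, ← Nat.card_eq_fintype_card]
      exact hRle)
    have hcR : c ∈ R := Finset.mem_filter.2 ⟨Finset.mem_univ _, hc, hcs⟩
    rw [← heq, Finset.mem_image] at hcR
    obtain ⟨x, -, hx⟩ := hcR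
    exact ⟨x, hx⟩
  have hratio : ∀ {r s : F}, r ≠ 0 → s ≠ 0 → ¬ IsSquare r → ¬ IsSquare s → IsSquare (r / s) := by
    intro r s hr hs hrn hsn
    have h2 : ringChar F ≠ 2 := fun h2 => hrn (FiniteField.isSquare_of_char_two h2 r)
    have h : ∀ {d : F}, d ≠ 0 → ¬ IsSquare d → d ^ (Fintype.card F / 2) = -1 := fun hd hdn =>
      (FiniteField.pow_dichotomy h2 hd).resolve_left fun h =>
        hdn ((FiniteField.isSquare_iff h2 hd).2 h)
    rw [FiniteField.isSquare_iff h2 (div_ne_zero hr hs), div_pow, h hr hrn, h hs hsn]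
    norm_num
  have hm1 : ringChar F ≠ 2 → ¬ IsSquare (-1 : F) := by
    intro h2 hm
    have := hodd2 h2
    rw [FiniteField.isSquare_iff h2 (neg_ne_zero.2 one_ne_zero),
      show Fintype.card F / 2 = Nat.card T by omega, hodd.neg_one_pow] at hm
    exact Ring.neg_one_ne_one_of_char_ne_two h2 hm
  have hnofix : ringChar F ≠ 2 → ∀ v : G, (v • a = b ∧ v • b = a) → ∀ c : Ω, v • c ≠ c := by
    intro h2 v hv c hc
    have := hodd2 h2
    have hvv := hsq v hv.1 hv.2
    have hv1 : v ≠ 1 := fun h => hab (by simpa [h] using hv.1)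
    obtain ⟨d, hd, hdc⟩ : ∃ d, v • d = d ∧ d ≠ c := by
      by_contra hcon
      push Not at hcon
      have h1 := Zass.nfix_parity (Ω := Ω) hvv
      have hn : Zass.nfix Ω v = 1 := by
        rw [Zass.nfix, Finset.card_eq_one]
        exact ⟨c, Finset.ext fun d => by simpa using ⟨hcon d, fun h => h ▸ hc⟩⟩
      rw [hn, Nat.even_iff] at h1
      omega
    have hvT : v ∈ Zass.two G c d := ⟨hc, hd⟩
    have h1 := orderOf_dvd_natCard (⟨v, hvT⟩ : Zass.two G c d)
    rw [show Nat.card ↥(Zass.two G c d) = Nat.card ↥T from Zass.card_two_eq hZ hab hdc.symm] at h1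
    have h2' : orderOf (⟨v, hvT⟩ : Zass.two G c d) = 2 := by
      rw [Subgroup.orderOf_mk]
      exact orderOf_eq_prime (by rw [pow_two]; exact hvv) hv1
    rw [h2', ← even_iff_two_dvd] at h1
    exact Nat.not_even_iff_odd.2 hodd h1
  -- the shape of a swap
  have hshape : ∀ v : G, (v • a = b ∧ v • b = a) → ∃ f : F → F,
      (∀ r, r ≠ 0 → f r ≠ 0 ∧ v • τ r • b = τ (f r) • b) ∧ (∀ r, r ≠ 0 → f (f r) = r) ∧
      (∀ c r, c ≠ 0 → IsSquare c → r ≠ 0 → f (c * r) = c⁻¹ * f r) := by
    intro v hv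
    have hex : ∀ r, r ≠ 0 → ∃ s, s ≠ 0 ∧ v • τ r • b = τ s • b := by
      intro r hr
      obtain ⟨s, hs, -⟩ := hreg (v • τ r • b) fun h => hr (hpt _ _
        ((MulAction.injective v (h.trans hv.2.symm)).trans (by rw [hτ0, one_smul])))
      refine ⟨s, fun h => hne r (MulAction.injective v ?_), hs.symm⟩
      show v • τ r • b = v • a
      rw [← hs, h, hτ0, one_smul]
      exact hv.1.symm
    choose f hf0 hf using hex
    refine ⟨fun r => if h : r = 0 then 0 else f r h, fun r hr => by simp [hr, hf0, ← hf],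
      fun r hr => ?_, fun c r hc hcs hr => ?_⟩
    · have h2 := hf (f r hr) (hf0 r hr)
      rw [← hf r hr, ← mul_smul, hsq v hv.1 hv.2, one_smul] at h2
      simp [hr, hf0, ← hpt _ _ h2]
    · obtain ⟨⟨x, hx⟩, hxc⟩ := hsurj_j c hc hcs
      have hxc' : j x hx = c := hxc
      have hinv : j x⁻¹ (T.inv_mem hx) = c⁻¹ := by
        have h := hjmul x⁻¹ (T.inv_mem hx) x hx
        simp only [inv_mul_cancel, hj1] at h
        rw [← hxc']
        exact eq_inv_of_mul_eq_one_left h.symm
      simp only [hc, hr, mul_eq_zero, or_self, dite_false]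
      apply hpt
      rw [← hf (c * r) (mul_ne_zero hc hr), ← hxc', ← hjspec x hx, ← mul_smul,
        inverts_of_swap_sq hZ hab hsq hv hx, mul_smul, hf r hr, hjspec _ (T.inv_mem hx), hinv,
        hxc']
  -- `f r = γ / r`, and `-1 / γ` is a square
  obtain ⟨v₀, hv₀⟩ := Zass.exists_swap hZ hab
  obtain ⟨f₀, hf₀, hff₀, hfc₀⟩ := hshape v₀ hv₀
  set γ := f₀ 1
  have hγ0 : γ ≠ 0 := (hf₀ 1 one_ne_zero).1
  have hfsq : ∀ r, r ≠ 0 → IsSquare r → f₀ r = r⁻¹ * γ := by
    intro r hr hrs
    have := hfc₀ r 1 hr hrs one_ne_zero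
    rwa [mul_one] at this
  have hγsq : IsSquare (-1 / γ) := by
    by_cases h2 : ringChar F = 2
    · exact FiniteField.isSquare_of_char_two h2 _
    refine hratio (neg_ne_zero.2 one_ne_zero) hγ0 (hm1 h2) fun ⟨s, hs⟩ => ?_
    have hs0 : s ≠ 0 := fun h => hγ0 (by rw [hs, h, mul_zero])
    obtain ⟨r, hr, hrs, hrr⟩ : ∃ r, r ≠ 0 ∧ IsSquare r ∧ r * r = γ := by
      by_cases hss : IsSquare s
      · exact ⟨s, hs0, hss, hs.symm⟩
      · refine ⟨-s, neg_ne_zero.2 hs0, ?_, by rw [hs]; ring⟩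
        have := hratio (neg_ne_zero.2 one_ne_zero) (inv_ne_zero hs0) (hm1 h2)
          (fun h => hss (by simpa using h.inv))
        simpa using this
    refine hnofix h2 v₀ hv₀ (τ r • b) ?_
    rw [(hf₀ r hr).2, hfsq r hr hrs, ← hrr, inv_mul_cancel_left₀ hr]
  have hfall : ∀ r, r ≠ 0 → f₀ r = r⁻¹ * γ := by
    intro r hr
    by_cases hrs : IsSquare r
    · exact hfsq r hr hrs
    · have hns : ¬ IsSquare γ := fun h => by
        have h2 : ringChar F ≠ 2 := fun h2 => hrs (FiniteField.isSquare_of_char_two h2 r)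
        refine hm1 h2 ?_
        have := hγsq.mul h
        rwa [div_mul_cancel₀ _ hγ0] at this
      have := hfc₀ (r / γ) γ (div_ne_zero hr hγ0) (hratio hr hγ0 hrs hns) hγ0
      rw [div_mul_cancel₀ _ hγ0, hff₀ 1 one_ne_zero, mul_one, inv_div] at this
      rw [this, div_eq_inv_mul]
  obtain ⟨⟨x₀, hx₀⟩, hjx₀⟩ := hsurj_j (-1 / γ) (div_ne_zero (neg_ne_zero.2 one_ne_zero) hγ0) hγsq
  have := hZ.1
  refine nonempty_equiv_psl (a := a) (b := b) τ hab hτ hτa hreg ?_ ?_ (w := x₀ * v₀)
    (by rw [mul_smul, hv₀.1, hx₀.2]) (by rw [mul_smul, hv₀.2, hx₀.1]) fun r hr => ?_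
  · intro s hs
    obtain ⟨⟨x, hx⟩, hxs⟩ := hsurj_j (s ^ 2) (pow_ne_zero 2 hs) (IsSquare.sq s)
    exact ⟨x, hx.1, fun r => by rw [hjspec x hx, show j x hx = s ^ 2 from hxs]⟩
  · intro g hga hgb
    obtain ⟨s, hs⟩ := hsq_j ⟨g, hga, hgb⟩
    have hs0 : s ≠ 0 := fun h => hj0 g ⟨hga, hgb⟩ (by rw [h, mul_zero] at hs; exact hs)
    exact ⟨s, hs0, fun r => by
      rw [hjspec g ⟨hga, hgb⟩, show j g ⟨hga, hgb⟩ = s * s from hs, pow_two]⟩
  · rw [mul_smul, (hf₀ r hr).2, hjspec x₀ hx₀, show j x₀ hx₀ = -1 / γ from hjx₀, hfall r hr]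
    congr 2
    field_simp

end Cfsg.Agent.ZassNormal
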