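import Cfsg.Agent.Lib.Zassenhaus.TwoKernelSuzuki

/-!
The order of a simple Zassenhaus group with a regular normal non-abelian `2`-subgroup in a point
stabiliser.
-/

set_option autoImplicit false

namespace Cfsg.Agent.ZassNormal.TwoKer

open MulAction
open Cfsg.Agent.CharDeep

variable {G Ω : Type*} [Group G] [Fintype G] [DecidableEq G] [MulAction G Ω] [Fintype Ω]
  [DecidableEq Ω]

/-- A regular subgroup of a point stabiliser is the kernel. -/
theorem isKernel_of_regular {a b : Ω} (hab : a ≠ b) {U : Subgroup G} (hle : U ≤ stabilizer G a)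
    (hreg : ∀ c d : Ω, c ≠ a → d ≠ a → ∃! u : U, (u : G) • c = d) : Zass.IsKernel a U := by
  classical
  have := Fintype.ofFinite U
  refine ⟨hle, ?_, fun u hu hu1 c hc => ?_⟩
  · have hfix : ∀ u : U, (u : G) • a = a := fun u => mem_stabilizer_iff.1 (hle u.2)
    have h : Fintype.card U = (Finset.univ.erase a).card := by
      rw [← Finset.card_univ]
      refine Finset.card_bij (fun u _ => (u : G) • b) (fun u _ => ?_) (fun u _ v _ he => ?_)
        fun d hd => ?_
      · simp only [Finset.mem_erase, Finset.mem_univ, and_true]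
        exact fun he => hab (MulAction.injective (u : G) (he.trans (hfix u).symm)).symm
      · obtain ⟨w, -, hw⟩ := hreg b ((v : G) • b) (Ne.symm hab)
          fun he => hab (MulAction.injective (v : G) (he.trans (hfix v).symm)).symm
        exact (hw u he).trans (hw v rfl).symm
      · obtain ⟨w, hw, -⟩ := hreg b d (Ne.symm hab) (Finset.ne_of_mem_erase hd)
        exact ⟨w, Finset.mem_univ _, hw⟩
    rw [Nat.card_eq_fintype_card, h, Finset.card_erase_add_one (Finset.mem_univ a),
      Finset.card_univ]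
  · by_contra hca
    obtain ⟨w, -, hw⟩ := hreg c c hca hca
    exact hu1 (congrArg Subtype.val ((hw ⟨u, hu⟩ hc).trans (hw 1 (one_smul G c)).symm))

variable (hZ : Cfsg.IsZassenhausGroup G Ω) [IsSimpleGroup G] {a b : Ω} (hab : a ≠ b) {U : Subgroup G}
  (hU : Zass.IsKernel a U) (h2 : IsPGroup 2 U) (hna : ∃ u v : U, u * v ≠ v * u)

include hZ hab hU h2 hna

/-- The numerical structure: degree `2 ^ (2 n) + 1` with `n` odd, cyclic two-point stabiliser of
order `2 ^ n - 1`. -/
theorem numerics : ∃ m : ℕ, 1 ≤ m ∧ Fintype.card Ω = (2 ^ (2 * m + 1)) ^ 2 + 1 ∧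
    Nat.card ↥(Zass.two G a b) + 1 = 2 ^ (2 * m + 1) ∧
    Nat.card U = Nat.card (Subgroup.center U) ^ 2 ∧
    Nat.card (Subgroup.center U) = 2 ^ (2 * m + 1) ∧
    Nat.card G = (2 ^ (2 * m + 1)) ^ 2 * ((2 ^ (2 * m + 1)) ^ 2 + 1) * (2 ^ (2 * m + 1) - 1) := by
  obtain ⟨m, hm, hq⟩ := exists_exponent hZ hab hU h2 hna
  have hsq := card_kernel_sq hZ hab hU h2 hna
  have hz := (kernel_structure hZ hab hU h2 hna).1
  have hc := hU.card
  rw [hq] at hz hsq
  refine ⟨m, hm, by omega, hq, by rw [hsq, hz], hz, ?_⟩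
  rw [Zass.card_group hZ hab, show Fintype.card Ω - 1 = (2 ^ (2 * m + 1)) ^ 2 by omega,
    show Fintype.card Ω = (2 ^ (2 * m + 1)) ^ 2 + 1 by omega,
    show Nat.card ↥(Zass.two G a b) = 2 ^ (2 * m + 1) - 1 by omega]
  ring

end Cfsg.Agent.ZassNormal.TwoKer
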