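import Mathlib

/-!
Natural matrices whose Gram matrix is "orbit relation plus rank one": every column is a multiple of
one fixed vector plus a unit vector.
-/

set_option autoImplicit false

namespace Cfsg.Agent.ZassNormal.Gram

variable {R : Type*} [Fintype R] [DecidableEq R]

theorem sum_single_mul (f : R → ℕ) (x : R) :
    ∑ r, f r * (if r = x then 1 else 0) = f x := by simp

theorem sum_single_mul_single (x y : R) :
    ∑ r : R, (if r = x then 1 else 0) * (if r = y then 1 else 0) = if x = y then 1 else 0 := by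
  simp [Finset.sum_ite_eq', eq_comm]

theorem dot_add_single (γ : R → ℕ) (m n : ℕ) (x y : R) :
    ∑ r, (m * γ r + if r = x then 1 else 0) * (n * γ r + if r = y then 1 else 0) =
      m * n * ∑ r, γ r * γ r + m * γ y + n * γ x + if x = y then 1 else 0 := by
  have h : ∀ r, (m * γ r + if r = x then 1 else 0) * (n * γ r + if r = y then 1 else 0) =
      m * n * (γ r * γ r) + m * (γ r * if r = y then 1 else 0) + n * (γ r * if r = x then 1 else 0)
        + (if r = x then 1 else 0) * (if r = y then 1 else 0) := fun r => by ring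
  rw [Finset.sum_congr rfl fun r _ => h r]
  simp only [Finset.sum_add_distrib, ← Finset.mul_sum, sum_single_mul, sum_single_mul_single]
  congr 1
  simp [eq_comm]

/-- The difference of two vectors of squared length `c + 1` with inner product `c`. -/
theorem diff_two {a b : R → ℕ} {c : ℕ} (haa : ∑ r, a r * a r = 1 + c)
    (hbb : ∑ r, b r * b r = 1 + c) (hab : ∑ r, a r * b r = c) :
    ∃ x y, a x = b x + 1 ∧ b y = a y + 1 ∧ x ≠ y ∧ ∀ r, r ≠ x → r ≠ y → a r = b r := by
  obtain ⟨x, hx⟩ : ∃ x, b x < a x := by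
    by_contra h
    push Not at h
    have := Finset.sum_le_sum (s := Finset.univ) fun r _ => Nat.mul_le_mul_left (a r) (h r)
    omega
  obtain ⟨y, hy⟩ : ∃ y, a y < b y := by
    by_contra h
    push Not at h
    have := Finset.sum_le_sum (s := Finset.univ) fun r _ => Nat.mul_le_mul_right (b r) (h r)
    omega
  have hxy : x ≠ y := fun h => by subst h; omega
  have haa' : ∑ r, (a r : ℤ) * a r = 1 + c := by exact_mod_cast haa
  have hbb' : ∑ r, (b r : ℤ) * b r = 1 + c := by exact_mod_cast hbb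
  have hab' : ∑ r, (a r : ℤ) * b r = c := by exact_mod_cast hab
  have hsum : ∑ r, ((a r : ℤ) - b r) ^ 2 = 2 := by
    have e : ∀ r, ((a r : ℤ) - b r) ^ 2 = (a r : ℤ) * a r + b r * b r - 2 * (a r * b r) :=
      fun r => by ring
    rw [Finset.sum_congr rfl fun r _ => e r, Finset.sum_sub_distrib, Finset.sum_add_distrib,
      ← Finset.mul_sum, haa', hbb', hab']
    ring
  rw [← Finset.add_sum_erase _ _ (Finset.mem_univ x),
    ← Finset.add_sum_erase _ _ (Finset.mem_erase.2 ⟨hxy.symm, Finset.mem_univ y⟩)] at hsum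
  have h1 : 1 ≤ ((a x : ℤ) - b x) ^ 2 := by
    have : (b x : ℤ) + 1 ≤ a x := by exact_mod_cast hx
    nlinarith
  have h2 : 1 ≤ ((a y : ℤ) - b y) ^ 2 := by
    have : (a y : ℤ) + 1 ≤ b y := by exact_mod_cast hy
    nlinarith
  have h3 : 0 ≤ ∑ r ∈ (Finset.univ.erase x).erase y, ((a r : ℤ) - b r) ^ 2 :=
    Finset.sum_nonneg fun r _ => sq_nonneg _
  refine ⟨x, y, ?_, ?_, hxy, fun r hrx hry => ?_⟩
  · have : (b x : ℤ) + 1 ≤ a x := by exact_mod_cast hx
    have : (a x : ℤ) = b x + 1 := by nlinarith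
    exact_mod_cast this
  · have : (a y : ℤ) + 1 ≤ b y := by exact_mod_cast hy
    have : (b y : ℤ) = a y + 1 := by nlinarith
    exact_mod_cast this
  · have h4 : ∑ r ∈ (Finset.univ.erase x).erase y, ((a r : ℤ) - b r) ^ 2 = 0 := by linarith
    have h5 := (Finset.sum_eq_zero_iff_of_nonneg fun r _ => sq_nonneg ((a r : ℤ) - b r)).1 h4 r
      (by simp [hrx, hry])
    have : (a r : ℤ) = b r := sub_eq_zero.1 (pow_eq_zero_iff (n := 2) (by norm_num) |>.1 h5)
    exact_mod_cast this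

/-- At least `c + 3` vectors of squared length `c + 1` with mutual inner products `c` are a fixed
vector plus distinct unit vectors. -/
theorem exists_common_vector (V : Finset (R → ℕ)) {c : ℕ}
    (hself : ∀ v ∈ V, ∑ r, v r * v r = 1 + c)
    (hne : ∀ v ∈ V, ∀ w ∈ V, v ≠ w → ∑ r, v r * w r = c) (hcard : c + 3 ≤ V.card) :
    ∃ γ : R → ℕ, ∑ r, γ r * γ r = c ∧
      ∀ v ∈ V, ∃ x, γ x = 0 ∧ ∀ r, v r = γ r + if r = x then 1 else 0 := by
  classical
  obtain ⟨a, ha⟩ := Finset.card_pos.1 (by omega : 0 < V.card)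
  have hW : ∀ b ∈ V.erase a, ∃ p : R × R,
      a p.1 = b p.1 + 1 ∧ b p.2 = a p.2 + 1 ∧ p.1 ≠ p.2 ∧
        ∀ r, r ≠ p.1 → r ≠ p.2 → a r = b r := by
    intro b hb
    obtain ⟨hba, hb⟩ := Finset.mem_erase.1 hb
    obtain ⟨x, y, h⟩ := diff_two (hself a ha) (hself b hb) (hne a ha b hb (Ne.symm hba))
    exact ⟨(x, y), h⟩
  have hWne : (V.erase a).Nonempty :=
    Finset.card_pos.1 (by rw [Finset.card_erase_of_mem ha]; omega)
  obtain ⟨b₀, hb₀⟩ := hWne
  have : Nonempty (R × R) := ⟨(hW b₀ hb₀).choose⟩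
  choose! P hP using hW
  have hinj : ∀ b ∈ V.erase a, ∀ b' ∈ V.erase a,
      (P b).1 = (P b').1 → (P b).2 = (P b').2 → b = b' := by
    intro b hb b' hb' h1 h2
    obtain ⟨e1, e2, -, e3⟩ := hP b hb
    obtain ⟨f1, f2, -, f3⟩ := hP b' hb'
    funext r
    by_cases hr1 : r = (P b).1
    · subst hr1
      rw [← h1] at f1
      omega
    by_cases hr2 : r = (P b).2
    · subst hr2
      rw [← h2] at f2
      omega
    rw [← e3 r hr1 hr2, f3 r (h1 ▸ hr1) (h2 ▸ hr2)]
  -- two differences share an end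
  have hpair : ∀ b ∈ V.erase a, ∀ b' ∈ V.erase a,
      (P b).1 = (P b').1 ∨ (P b).2 = (P b').2 := by
    intro b hb b' hb'
    by_cases hbb : b = b'
    · exact Or.inl (by rw [hbb])
    by_contra hcon
    push Not at hcon
    obtain ⟨e1, e2, e0, e3⟩ := hP b hb
    obtain ⟨f1, f2, f0, f3⟩ := hP b' hb'
    obtain ⟨x, y, g1, g2, g0, g3⟩ := diff_two (hself b (Finset.mem_of_mem_erase hb))
      (hself b' (Finset.mem_of_mem_erase hb'))
      (hne b (Finset.mem_of_mem_erase hb) b' (Finset.mem_of_mem_erase hb') hbb)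
    have hle : ∀ r, b r ≤ b' r + 1 ∧ b' r ≤ b r + 1 := by
      intro r
      by_cases hrx : r = x
      · subst hrx; omega
      by_cases hry : r = y
      · subst hry; omega
      have := g3 r hrx hry
      omega
    have hX : b (P b).1 ≠ b' (P b).1 := by
      by_cases h : (P b).1 = (P b').2
      · rw [← h] at f2; omega
      · have := f3 _ hcon.1 h; omega
    have hX' : b (P b').1 ≠ b' (P b').1 := by
      by_cases h : (P b').1 = (P b).2
      · rw [← h] at e2; omega
      · have := e3 _ hcon.1.symm h; omega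
    have hY : b (P b).2 ≠ b' (P b).2 := by
      by_cases h : (P b).2 = (P b').1
      · rw [← h] at f1; omega
      · have := f3 _ h hcon.2; omega
    have hXY : (P b').1 ≠ (P b).2 := fun h => by
      have := hle (P b).2
      rw [h] at f1
      omega
    have key : ∀ r, b r ≠ b' r → r = x ∨ r = y := fun r hr => by
      by_contra h
      push Not at h
      exact hr (g3 r h.1 h.2)
    rcases key _ hX with h1 | h1 <;> rcases key _ hX' with h2 | h2 <;>
      rcases key _ hY with h3 | h3 <;>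
      first
        | exact hcon.1 (h1.trans h2.symm)
        | exact e0 (h1.trans h3.symm)
        | exact hXY (h2.trans h3.symm)
  have hall : (∀ b ∈ V.erase a, (P b).1 = (P b₀).1) ∨
      (∀ b ∈ V.erase a, (P b).2 = (P b₀).2) := by
    by_contra hcon
    push Not at hcon
    obtain ⟨⟨b₁, hb₁, h1⟩, ⟨b₂, hb₂, h2⟩⟩ := hcon
    have e1 := (hpair b₁ hb₁ b₀ hb₀).resolve_left h1
    have e2 := (hpair b₂ hb₂ b₀ hb₀).resolve_right h2
    rcases hpair b₁ hb₁ b₂ hb₂ with h | h
    · exact h1 (h.trans e2)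
    · exact h2 (h.symm.trans e1)
  have hn : c + 2 ≤ (V.erase a).card := by rw [Finset.card_erase_of_mem ha]; omega
  rcases hall with hall | hall
  swap
  · exfalso
    have hXinj : Set.InjOn (fun b => (P b).1) (V.erase a) := fun b hb b' hb' h =>
      hinj b hb b' hb' h ((hall b hb).trans (hall b' hb').symm)
    have h1 : ((V.erase a).image fun b => (P b).1).card
        ≤ ∑ x ∈ (V.erase a).image fun b => (P b).1, a x * a x := by
      rw [Finset.card_eq_sum_ones]
      refine Finset.sum_le_sum fun x hx => ?_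
      obtain ⟨b, hb, rfl⟩ := Finset.mem_image.1 hx
      have := (hP b hb).1
      exact Nat.one_le_iff_ne_zero.2 (mul_ne_zero (by omega) (by omega))
    rw [Finset.card_image_of_injOn hXinj] at h1
    have h2 := Finset.sum_le_sum_of_subset (f := fun x => a x * a x)
      (Finset.subset_univ ((V.erase a).image fun b => (P b).1))
    rw [hself a ha] at h2
    omega
  set x := (P b₀).1
  set γ : R → ℕ := fun r => if r = x then a x - 1 else a r with hγ
  have hax : a x = b₀ x + 1 := (hP b₀ hb₀).1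
  have haeq : ∀ r, a r = 1 * γ r + if r = x then 1 else 0 := by
    intro r
    by_cases hr : r = x
    · subst hr; simp [hγ]; omega
    · simp [hγ, hr]
  have hbeq : ∀ b ∈ V.erase a, ∀ r, b r = 1 * γ r + if r = (P b).2 then 1 else 0 := by
    intro b hb r
    obtain ⟨e1, e2, e0, e3⟩ := hP b hb
    rw [hall b hb] at e1 e0 e3
    by_cases hr : r = x
    · subst hr; simp [hγ, e0]; omega
    by_cases hr2 : r = (P b).2
    · subst hr2; simp [hγ, hr]; omega
    · simp [hγ, hr, hr2, e3 r hr hr2]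
  have hna := hself a ha
  rw [Finset.sum_congr rfl fun r _ => by rw [haeq r], dot_add_single, if_pos rfl] at hna
  have hnb : ∀ b ∈ V.erase a, γ (P b).2 = γ x := by
    intro b hb
    have h := hself b (Finset.mem_of_mem_erase hb)
    rw [Finset.sum_congr rfl fun r _ => by rw [hbeq b hb r], dot_add_single, if_pos rfl] at h
    omega
  have ht : γ x = 0 := by
    by_contra ht
    have hYinj : Set.InjOn (fun b => (P b).2) (V.erase a) := fun b hb b' hb' h =>
      hinj b hb b' hb' ((hall b hb).trans (hall b' hb').symm) h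
    have h1 : ((V.erase a).image fun b => (P b).2).card
        ≤ ∑ y ∈ (V.erase a).image fun b => (P b).2, γ y * γ y := by
      rw [Finset.card_eq_sum_ones]
      refine Finset.sum_le_sum fun y hy => ?_
      obtain ⟨b, hb, rfl⟩ := Finset.mem_image.1 hy
      rw [hnb b hb]
      exact Nat.one_le_iff_ne_zero.2 (mul_ne_zero ht ht)
    rw [Finset.card_image_of_injOn hYinj] at h1
    have h2 := Finset.sum_le_sum_of_subset (f := fun x => γ x * γ x)
      (Finset.subset_univ ((V.erase a).image fun b => (P b).2))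
    omega
  refine ⟨γ, by omega, fun v hv => ?_⟩
  by_cases hva : v = a
  · subst hva
    exact ⟨x, ht, fun r => by rw [haeq r, one_mul]⟩
  · have hv' := Finset.mem_erase.2 ⟨hva, hv⟩
    exact ⟨(P v).2, by rw [hnb v hv', ht], fun r => by rw [hbeq v hv' r, one_mul]⟩

variable {Θ : Type*} [DecidableEq Θ] {M : R → Θ → ℕ} {N : Θ → Θ → ℕ} {d : Θ → ℕ} {e c : ℕ}
  {γ : R → ℕ}

/-- A column which is a multiple of `γ` plus a unit vector. -/
def Good (M : R → Θ → ℕ) (d : Θ → ℕ) (γ : R → ℕ) (θ : Θ) : Prop :=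
  ∃ x, γ x = 0 ∧ ∀ r, M r θ = d θ * γ r + if r = x then 1 else 0

theorem col_eq (hgram : ∀ θ θ', ∑ r, M r θ * M r θ' = N θ θ' + c * d θ * d θ')
    (hself : ∀ θ, N θ θ = 1) (hd : ∀ θ θ', N θ θ' = 1 → d θ = d θ')
    {θ θ' : Θ} (h : N θ θ' = 1) (r : R) : M r θ = M r θ' := by
  have h1 : ∑ r, (M r θ : ℤ) * M r θ = 1 + c * d θ * d θ := by
    have := hgram θ θ; rw [hself] at this; exact_mod_cast this
  have h2 : ∑ r, (M r θ' : ℤ) * M r θ' = 1 + c * d θ * d θ := by
    have := hgram θ' θ'; rw [hself, ← hd θ θ' h] at this; exact_mod_cast this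
  have h3 : ∑ r, (M r θ : ℤ) * M r θ' = 1 + c * d θ * d θ := by
    have := hgram θ θ'; rw [h, ← hd θ θ' h] at this; exact_mod_cast this
  have h4 : ∑ r, ((M r θ : ℤ) - M r θ') ^ 2 = 0 := by
    have e : ∀ r, ((M r θ : ℤ) - M r θ') ^ 2
        = (M r θ : ℤ) * M r θ + M r θ' * M r θ' - 2 * (M r θ * M r θ') := fun r => by ring
    rw [Finset.sum_congr rfl fun r _ => e r, Finset.sum_sub_distrib, Finset.sum_add_distrib,
      ← Finset.mul_sum, h1, h2, h3]
    ring
  have h5 := (Finset.sum_eq_zero_iff_of_nonneg fun r _ => sq_nonneg ((M r θ : ℤ) - M r θ')).1 h4 r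
    (Finset.mem_univ r)
  exact_mod_cast sub_eq_zero.1 ((pow_eq_zero_iff (n := 2) (by norm_num)).1 h5)

/-- The unit vector of a good column determines its orbit. -/
theorem Good.rel (hgram : ∀ θ θ', ∑ r, M r θ * M r θ' = N θ θ' + c * d θ * d θ')
    (hγ : ∑ r, γ r * γ r = c) {θ θ' : Θ} {x x' : R} (hx : γ x = 0) (hx' : γ x' = 0)
    (h : ∀ r, M r θ = d θ * γ r + if r = x then 1 else 0)
    (h' : ∀ r, M r θ' = d θ' * γ r + if r = x' then 1 else 0) :
    N θ θ' = if x = x' then 1 else 0 := by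
  have hg := hgram θ θ'
  rw [Finset.sum_congr rfl fun r _ => by rw [h r, h' r], dot_add_single, hγ, hx, hx'] at hg
  have : d θ * d θ' * c = c * d θ * d θ' := by ring
  omega

/-- **The linear columns.** -/
theorem exists_base (hgram : ∀ θ θ', ∑ r, M r θ * M r θ' = N θ θ' + c * d θ * d θ')
    (hle : ∀ θ θ', N θ θ' ≤ 1) (hself : ∀ θ, N θ θ = 1) (hd : ∀ θ θ', N θ θ' = 1 → d θ = d θ')
    (L : Finset Θ) (hL : ∀ θ ∈ L, d θ = 1)
    (horb : ∀ θ, (L.filter fun θ' => N θ θ' = 1).card ≤ e) (hcard : e * (c + 2) < L.card) :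
    ∃ γ : R → ℕ, ∑ r, γ r * γ r = c ∧ ∀ θ ∈ L, Good M d γ θ := by
  classical
  set col : Θ → (R → ℕ) := fun θ r => M r θ with hcol
  have hfib : ∀ v ∈ L.image col, (L.filter fun θ => col θ = v).card ≤ e := by
    intro v hv
    obtain ⟨θ, hθ, rfl⟩ := Finset.mem_image.1 hv
    refine le_trans (Finset.card_le_card fun θ' hθ' => ?_) (horb θ)
    obtain ⟨hθ'L, hc'⟩ := Finset.mem_filter.1 hθ'
    refine Finset.mem_filter.2 ⟨hθ'L, ?_⟩
    have h1 := hgram θ θ
    have h2 := hgram θ θ'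
    have h3 : ∀ r, M r θ' = M r θ := fun r => congrFun hc' r
    rw [Finset.sum_congr rfl fun r _ => by rw [h3 r]] at h2
    rw [hL θ hθ, hL θ' hθ'L] at h2
    rw [hself, hL θ hθ] at h1
    omega
  have hV : c + 3 ≤ (L.image col).card := by
    have h := Finset.card_le_mul_card_image L e hfib
    by_contra hlt
    have : e * (L.image col).card ≤ e * (c + 2) := Nat.mul_le_mul_left e (by omega)
    omega
  obtain ⟨γ, hγ, hall⟩ := exists_common_vector (L.image col) (c := c) (fun v hv => by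
      obtain ⟨θ, hθ, rfl⟩ := Finset.mem_image.1 hv
      show ∑ r, M r θ * M r θ = 1 + c
      rw [hgram, hself, hL θ hθ, mul_one, mul_one]) (fun v hv w hw hvw => by
      obtain ⟨θ, hθ, rfl⟩ := Finset.mem_image.1 hv
      obtain ⟨θ', hθ', rfl⟩ := Finset.mem_image.1 hw
      show ∑ r, M r θ * M r θ' = c
      rw [hgram, hL θ hθ, hL θ' hθ', mul_one, mul_one]
      have h0 : N θ θ' = 0 := by
        rcases Nat.le_one_iff_eq_zero_or_eq_one.1 (hle θ θ') with h | h
        · exact h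
        · exact absurd (funext fun r => col_eq hgram hself hd h r) hvw
      omega) hV
  refine ⟨γ, hγ, fun θ hθ => ?_⟩
  obtain ⟨x, hx, hv⟩ := hall _ (Finset.mem_image_of_mem col hθ)
  exact ⟨x, hx, fun r => by rw [hL θ hθ, one_mul]; exact hv r⟩

/-- **A column dominated by good columns is good.** -/
theorem good_step (hgram : ∀ θ θ', ∑ r, M r θ * M r θ' = N θ θ' + c * d θ * d θ')
    (hle : ∀ θ θ', N θ θ' ≤ 1) (hself : ∀ θ, N θ θ = 1) (hd : ∀ θ θ', N θ θ' = 1 → d θ = d θ')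
    (hc : 0 < c) (hγ : ∑ r, γ r * γ r = c) (S : Finset Θ) (hS : ∀ θ ∈ S, Good M d γ θ)
    (horb : ∀ θ, (S.filter fun θ' => N θ θ' = 1).card ≤ e) (θ₀ : Θ)
    (hbig : e * (2 * d θ₀ + 1) < ∑ θ ∈ S, d θ * d θ) : Good M d γ θ₀ := by
  classical
  by_cases hrel : ∃ θ ∈ S, N θ θ₀ = 1
  · obtain ⟨θ, hθ, h⟩ := hrel
    obtain ⟨x, hx, hv⟩ := hS θ hθ
    exact ⟨x, hx, fun r => by rw [← col_eq hgram hself hd h r, hv r, hd θ θ₀ h]⟩
  push Not at hrel
  obtain ⟨θ₁, hθ₁, hd₁⟩ := Finset.exists_ne_zero_of_sum_ne_zero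
    (show ∑ θ ∈ S, d θ * d θ ≠ 0 by omega)
  have : Nonempty R := ⟨(hS θ₁ hθ₁).choose⟩
  choose! X hX0 hX using hS
  set z : R → ℤ := fun r => (M r θ₀ : ℤ) with hz
  set ζ : ℤ := (c : ℤ) * d θ₀ - ∑ r, z r * γ r with hζ
  have hzX : ∀ θ ∈ S, z (X θ) = d θ * ζ := by
    intro θ hθ
    have h0 : N θ θ₀ = 0 := by
      rcases Nat.le_one_iff_eq_zero_or_eq_one.1 (hle θ θ₀) with h | h
      · exact h
      · exact absurd h (hrel θ hθ)
    have hg := hgram θ θ₀
    rw [h0, zero_add] at hg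
    have hg' : ∑ r, ((d θ : ℤ) * γ r + if r = X θ then 1 else 0) * z r = c * d θ * d θ₀ := by
      have : ((∑ r, M r θ * M r θ₀ : ℕ) : ℤ) = ((c * d θ * d θ₀ : ℕ) : ℤ) := by rw [hg]
      push_cast at this
      refine Eq.trans (Finset.sum_congr rfl fun r _ => ?_) this
      rw [hX θ hθ r]
      push_cast
      rfl
    simp only [add_mul, Finset.sum_add_distrib, ite_mul, one_mul, zero_mul, Finset.sum_ite_eq',
      Finset.mem_univ, if_true] at hg'
    rw [Finset.sum_congr rfl (fun r _ => show (d θ : ℤ) * γ r * z r = d θ * (z r * γ r) by ring),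
      ← Finset.mul_sum] at hg'
    rw [hζ]
    linear_combination hg'
  have hζ0 : 0 ≤ ζ := by
    have h := hzX θ₁ hθ₁
    have h1 : 0 < (d θ₁ : ℤ) := by
      have : d θ₁ ≠ 0 := fun h => hd₁ (by rw [h, zero_mul])
      omega
    have h2 : 0 ≤ z (X θ₁) := Int.natCast_nonneg _
    nlinarith
  have hnorm : ∑ r, z r * z r = 1 + (c : ℤ) * d θ₀ * d θ₀ := by
    have := hgram θ₀ θ₀; rw [hself] at this; simp only [hz]; exact_mod_cast this
  have hγ' : ∑ r, (γ r : ℤ) * γ r = c := by exact_mod_cast hγ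
  have hζz : ζ = 0 := by
    by_contra hne
    have hpos : 1 ≤ ζ := by omega
    set A := S.image X with hA
    have hfib : ∑ θ ∈ S, z (X θ) * z (X θ) ≤ (e : ℤ) * ∑ x ∈ A, z x * z x := by
      rw [Finset.sum_comp (fun x => z x * z x) X, Finset.mul_sum]
      refine Finset.sum_le_sum fun x hx => ?_
      obtain ⟨θ, hθ, rfl⟩ := Finset.mem_image.1 hx
      rw [nsmul_eq_mul]
      refine mul_le_mul_of_nonneg_right ?_ (mul_self_nonneg _)
      refine Nat.cast_le.2 (le_trans (Finset.card_le_card fun θ' hθ' => ?_) (horb θ))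
      obtain ⟨hθ'S, he⟩ := Finset.mem_filter.1 hθ'
      refine Finset.mem_filter.2 ⟨hθ'S, ?_⟩
      rw [Good.rel hgram hγ (hX0 θ hθ) (hX0 θ' hθ'S) (hX θ hθ) (hX θ' hθ'S), if_pos he.symm]
    rw [Finset.sum_congr rfl fun θ hθ => show z (X θ) * z (X θ) = ζ * ζ * ((d θ * d θ : ℕ) : ℤ) by
      rw [hzX θ hθ]; push_cast; ring, ← Finset.mul_sum] at hfib
    have hbig' : (e : ℤ) * (2 * d θ₀ + 1) < ∑ θ ∈ S, ((d θ * d θ : ℕ) : ℤ) := by
      exact_mod_cast hbig
    have hAγ : ∀ x ∈ A, γ x = 0 := by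
      intro x hx
      obtain ⟨θ, hθ, rfl⟩ := Finset.mem_image.1 hx
      exact hX0 θ hθ
    have hCS := Finset.sum_mul_sq_le_sq_mul_sq Aᶜ z (fun r => (γ r : ℤ))
    have hzγ : ∑ r ∈ Aᶜ, z r * (γ r : ℤ) = c * d θ₀ - ζ := by
      rw [hζ, ← Finset.sum_add_sum_compl A, Finset.sum_eq_zero (s := A) (fun x hx => by
        rw [hAγ x hx, Nat.cast_zero, mul_zero])]
      ring
    have hγA : ∑ r ∈ Aᶜ, (γ r : ℤ) ^ 2 = c := by
      rw [← hγ', ← Finset.sum_add_sum_compl A (fun r => (γ r : ℤ) * γ r),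
        Finset.sum_eq_zero (s := A) (fun x hx => by rw [hAγ x hx, Nat.cast_zero, mul_zero]),
        zero_add]
      exact Finset.sum_congr rfl fun r _ => sq _
    have hzA : ∑ r ∈ Aᶜ, z r ^ 2 = 1 + (c : ℤ) * d θ₀ * d θ₀ - ∑ x ∈ A, z x * z x := by
      rw [← hnorm, ← Finset.sum_add_sum_compl A (fun r => z r * z r), add_sub_cancel_left]
      exact Finset.sum_congr rfl fun r _ => sq _
    rw [hzγ, hγA, hzA] at hCS
    set SA := ∑ x ∈ A, z x * z x
    set D := ∑ θ ∈ S, ((d θ * d θ : ℕ) : ℤ)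
    have hc' : (0 : ℤ) < c := by exact_mod_cast hc
    have h1 : SA ≤ 1 + 2 * d θ₀ * ζ := by
      have : (c : ℤ) * SA ≤ c * (1 + 2 * d θ₀ * ζ) := by nlinarith
      exact le_of_mul_le_mul_left this hc'
    have h2 : ζ * ζ * D ≤ (e : ℤ) * (1 + 2 * d θ₀ * ζ) :=
      hfib.trans (mul_le_mul_of_nonneg_left h1 (by positivity))
    have h3 : (e : ℤ) * (1 + 2 * d θ₀ * ζ) ≤ ζ * ζ * ((e : ℤ) * (2 * d θ₀ + 1)) := by
      have : (1 : ℤ) + 2 * d θ₀ * ζ ≤ ζ * ζ * (2 * d θ₀ + 1) := by
        have hk : (0 : ℤ) ≤ d θ₀ := Int.natCast_nonneg _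
        nlinarith [mul_nonneg hk (mul_nonneg (show (0 : ℤ) ≤ ζ by omega)
          (show (0 : ℤ) ≤ ζ - 1 by omega))]
      calc (e : ℤ) * (1 + 2 * d θ₀ * ζ) ≤ e * (ζ * ζ * (2 * d θ₀ + 1)) :=
            mul_le_mul_of_nonneg_left this (by positivity)
        _ = _ := by ring
    have h4 : ζ * ζ * ((e : ℤ) * (2 * d θ₀ + 1)) < ζ * ζ * D :=
      mul_lt_mul_of_pos_left hbig' (by positivity)
    linarith
  -- `z - k γ` is a unit vector
  have hzγ : ∑ r, z r * γ r = c * d θ₀ := by rw [hζ] at hζz; linarith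
  set w : R → ℤ := fun r => z r - d θ₀ * γ r with hw
  have hw2 : ∑ r, w r ^ 2 = 1 := by
    have e' : ∀ r, w r ^ 2
        = z r * z r - 2 * d θ₀ * (z r * γ r) + (d θ₀ : ℤ) ^ 2 * (γ r * γ r) :=
      fun r => by simp only [hw]; ring
    rw [Finset.sum_congr rfl fun r _ => e' r, Finset.sum_add_distrib, Finset.sum_sub_distrib,
      ← Finset.mul_sum, ← Finset.mul_sum, hnorm, hzγ, hγ']
    ring
  obtain ⟨x, -, hx⟩ := Finset.exists_ne_zero_of_sum_ne_zero (show ∑ r, w r ^ 2 ≠ 0 by omega)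
  rw [← Finset.add_sum_erase _ _ (Finset.mem_univ x)] at hw2
  have hx1 : 1 ≤ w x ^ 2 := by
    rcases lt_or_gt_of_ne hx with h | h
    · nlinarith [sq_nonneg (w x)]
    · omega
  have h0 : ∑ r ∈ Finset.univ.erase x, w r ^ 2 = 0 := by
    have := Finset.sum_nonneg (s := Finset.univ.erase x) fun r _ => sq_nonneg (w r)
    linarith
  have hother : ∀ r, r ≠ x → w r = 0 := fun r hr => (pow_eq_zero_iff (n := 2) (by norm_num)).1
    ((Finset.sum_eq_zero_iff_of_nonneg fun r _ => sq_nonneg (w r)).1 h0 r (by simp [hr]))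
  have hwγ : ∑ r, w r * γ r = 0 := by
    simp only [hw, sub_mul, Finset.sum_sub_distrib, mul_assoc, ← Finset.mul_sum, hzγ, hγ']
    ring
  rw [Finset.sum_eq_single x (fun r _ hr => by rw [hother r hr, zero_mul]) (by simp)] at hwγ
  have hwx : w x ≠ 0 := fun h => hx (by rw [h]; norm_num)
  have hγx : γ x = 0 := by exact_mod_cast (mul_eq_zero.1 hwγ).resolve_left hwx
  have hwx1 : w x = 1 := by
    have h1 : w x ^ 2 = 1 := by linarith
    have h2 : 0 ≤ w x := by simp [hw, hγx, hz]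
    nlinarith
  refine ⟨x, hγx, fun r => ?_⟩
  by_cases hr : r = x
  · subst hr
    simp only [hw, hz, hγx, Nat.cast_zero, mul_zero, sub_zero] at hwx1
    rw [hγx, mul_zero, zero_add, if_pos rfl]
    exact_mod_cast hwx1
  · have := hother r hr
    simp only [hw, hz, sub_eq_zero] at this
    rw [if_neg hr, add_zero]
    exact_mod_cast this

end Cfsg.Agent.ZassNormal.Gram
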