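import Cfsg.Agent.CharDeep.Ext.Avg
import Cfsg.Agent.Coherence.SeqInd
import Cfsg.Agent.Lib.Frobenius.Thompson
import Cfsg.Agent.Lib.Fitting.Minimal

/-!
Characters of a nilpotent group, not of prime power order, all of whose characteristic subgroups
have order `≡ 1` modulo a fixed odd number `e > 1`.
-/

set_option autoImplicit false

namespace Cfsg.Agent.ZassNormal.NilKernel

open Cfsg.Agent.CharDeep

variable {V : Type*} [Group V]

/-- A subgroup defined by an automorphism-invariant predicate is characteristic. -/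
theorem char_of_forall {W : Subgroup V} (h : ∀ φ : V ≃* V, ∀ v ∈ W, φ v ∈ W) : W.Characteristic :=
  Subgroup.characteristic_iff_map_le.2 fun φ => by
    rintro _ ⟨v, hv, rfl⟩
    exact h φ v hv

theorem apply_mem {W : Subgroup V} (hW : W.Characteristic) (φ : V ≃* V) {v : V} (hv : v ∈ W) :
    φ v ∈ W :=
  Subgroup.characteristic_iff_map_le.1 hW φ (Subgroup.mem_map_of_mem _ hv)

theorem dvd_sub_one_of_mul {e a k : ℕ} (ha0 : 0 < a) (hk0 : 0 < k) (ha : e ∣ a - 1)
    (hb : e ∣ a * k - 1) : e ∣ k - 1 := by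
  have hak : 0 < a * k := Nat.mul_pos ha0 hk0
  have ha1 : 1 ≤ a := ha0
  have hk1 : 1 ≤ k := hk0
  have hak1 : 1 ≤ a * k := hak
  rw [← Int.natCast_dvd_natCast] at *
  push_cast [Nat.cast_sub ha1, Nat.cast_sub hk1, Nat.cast_sub hak1] at *
  have : (k : ℤ) - 1 = ((a : ℤ) * k - 1) - k * ((a : ℤ) - 1) := by ring
  rw [this]
  exact dvd_sub hb (ha.mul_left _)

variable [Finite V] {e : ℕ} (hnil : Group.IsNilpotent V) (he : 1 < e) (hodd : Odd e)
  (hdvd : ∀ W : Subgroup V, W.Characteristic → e ∣ Nat.card W - 1)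
  (hpp : ¬ IsPrimePow (Nat.card V)) (hV : 1 < Nat.card V)

include hdvd in
theorem dvd_index_sub_one {W : Subgroup V} (hW : W.Characteristic) : e ∣ W.index - 1 := by
  refine dvd_sub_one_of_mul (a := Nat.card W) Nat.card_pos
    (Nat.pos_of_ne_zero Subgroup.index_ne_zero_of_finite) (hdvd W hW) ?_
  rw [Subgroup.card_mul_index]
  simpa using hdvd ⊤ inferInstance

include hdvd he in
theorem card_mul_le_of_lt {W W' : Subgroup V} (hW : W.Characteristic) (hW' : W'.Characteristic)
    (hlt : W < W') : (e + 1) * Nat.card W ≤ Nat.card W' := by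
  obtain ⟨k, hk⟩ := Subgroup.card_dvd_of_le hlt.le
  have hk0 : 0 < k := Nat.pos_of_ne_zero fun h => by
    rw [h, mul_zero] at hk
    exact Nat.card_pos.ne' hk
  have hk1 : k ≠ 1 := fun h => by
    rw [h, mul_one] at hk
    exact hlt.ne (Subgroup.eq_of_le_of_card_ge hlt.le hk.le)
  have h := dvd_sub_one_of_mul (a := Nat.card W) Nat.card_pos hk0 (hdvd W hW)
    (hk ▸ hdvd W' hW')
  have h2 := Nat.le_of_dvd (by omega) h
  rw [hk, mul_comm]
  exact Nat.mul_le_mul_left _ (by omega)

include hdvd in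
theorem not_two_dvd_sub_one {W : Subgroup V} (hW : W.Characteristic) (hodd : Odd e)
    (ho : Odd W.index) : 2 * e ∣ W.index - 1 := by
  refine Nat.Coprime.mul_dvd_of_dvd_of_dvd (Nat.coprime_two_left.2 hodd) ?_
    (dvd_index_sub_one hdvd hW)
  obtain ⟨j, hj⟩ := ho
  omega

include hnil in
/-- For each prime divisor there is a characteristic subgroup over the derived subgroup whose index
is a power of that prime. -/
theorem exists_char_prime_index {p : ℕ} (hp : p.Prime) (hdiv : p ∣ Nat.card V) :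
    ∃ W : Subgroup V, W.Characteristic ∧ commutator V ≤ W ∧ ∃ a, 0 < a ∧ W.index = p ^ a := by
  have := Fact.mk hp
  obtain ⟨P, K, hK, hKP⟩ := Frobenius.hasNormalPComplement_of_isNilpotent hnil p
  have hidx : K.index = Nat.card (P : Subgroup V) := hKP.symm.index_eq_card
  obtain ⟨n, hn⟩ := P.isPGroup'.exists_card_eq
  have hn0 : 0 < n := Nat.pos_of_ne_zero fun h => by
    rw [h, pow_zero] at hn
    have := P.dvd_card_of_dvd_card hdiv
    rw [hn] at this
    exact hp.ne_one (Nat.dvd_one.1 this)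
  have hcop : (Nat.card K).Coprime p := by
    have h := P.card_coprime_index
    rw [hKP.index_eq_card, hn] at h
    exact ((Nat.coprime_pow_left_iff hn0 _ _).1 h).symm
  have hmem : ∀ v : V, v ∈ K ↔ (orderOf v).Coprime p := by
    intro v
    constructor
    · intro hv
      exact hcop.coprime_dvd_left (Subgroup.orderOf_dvd_natCard K hv)
    · intro hv
      rw [← QuotientGroup.eq_one_iff (N := K) v, ← orderOf_eq_one_iff]
      refine Nat.eq_one_of_dvd_coprimes (Nat.Coprime.pow_right n hv)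
        (orderOf_map_dvd (QuotientGroup.mk' K) v) ?_
      rw [← hn, ← hidx, Subgroup.index_eq_card]
      exact orderOf_dvd_natCard _
  have hKc : K.Characteristic := char_of_forall fun φ v hv => by
    rw [hmem] at hv ⊢
    rwa [φ.orderOf_eq v]
  have hKn : K.Normal := hK
  refine ⟨K ⊔ commutator V, ?_, le_sup_right, ?_⟩
  · rw [Subgroup.characteristic_iff_map_le]
    intro φ
    rw [Subgroup.map_sup]
    exact sup_le_sup (Subgroup.characteristic_iff_map_le.1 hKc φ)
      (Subgroup.characteristic_iff_map_le.1 inferInstance φ)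
  have hd : (K ⊔ commutator V).index ∣ p ^ n := by
    rw [← hn, ← hidx]
    exact Subgroup.index_dvd_of_le le_sup_left
  obtain ⟨a, -, ha⟩ := (Nat.dvd_prime_pow hp).1 hd
  refine ⟨a, Nat.pos_of_ne_zero fun ha0 => ?_, ha⟩
  rw [ha0, pow_zero, Subgroup.index_eq_one] at ha
  -- the quotient by the complement would be perfect
  have hQ : Group.IsNilpotent (V ⧸ K) := by
    have := hnil
    infer_instance
  have : Nontrivial (V ⧸ K) := by
    rw [← Finite.one_lt_card_iff_nontrivial, ← Subgroup.index_eq_card, hidx, hn]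
    exact Nat.one_lt_pow hn0.ne' hp.one_lt
  refine (IsSolvable.commutator_lt_top_of_nontrivial (G := V ⧸ K)).ne ?_
  rw [eq_top_iff, ← Subgroup.map_top_of_surjective (QuotientGroup.mk' K)
    (QuotientGroup.mk'_surjective K), ← ha, Subgroup.map_sup, QuotientGroup.map_mk'_self,
    bot_sup_eq, commutator_def, Subgroup.map_commutator]
  exact Subgroup.commutator_mono le_top le_top

include hnil he hodd hdvd hpp hV in
/-- The derived subgroup has index at least `(e + 1)(2e + 1)`. -/
theorem commutator_index_ge : (e + 1) * (2 * e + 1) ≤ (commutator V).index := by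
  obtain ⟨p, hp, hpd⟩ := Nat.exists_prime_and_dvd (n := Nat.card V) (by omega)
  obtain ⟨q, hq, hqd, hqp⟩ : ∃ q : ℕ, q.Prime ∧ q ∣ Nat.card V ∧ q ≠ p := by
    by_contra hcon
    push Not at hcon
    refine hpp ((isPrimePow_iff_unique_prime_dvd).2 ⟨p, ⟨hp, hpd⟩, ?_⟩)
    exact fun q hq => hcon q hq.1 hq.2
  obtain ⟨W, hW, hWc, a, ha, hWi⟩ := exists_char_prime_index hnil hp hpd
  obtain ⟨W', hW', hWc', a', ha', hWi'⟩ := exists_char_prime_index hnil hq hqd
  have hcop : W.index.Coprime W'.index := by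
    rw [hWi, hWi']
    exact ((Nat.coprime_primes hp hq).2 hqp.symm).pow _ _
  have hle := Nat.le_of_dvd (Nat.pos_of_ne_zero Subgroup.index_ne_zero_of_finite)
    (hcop.mul_dvd_of_dvd_of_dvd (Subgroup.index_dvd_of_le hWc) (Subgroup.index_dvd_of_le hWc'))
  have h1 : ∀ X : Subgroup V, X.Characteristic → 1 < X.index → e + 1 ≤ X.index := fun X hX h => by
    have := Nat.le_of_dvd (by omega) (dvd_index_sub_one hdvd hX)
    omega
  have h2 : ∀ X : Subgroup V, X.Characteristic → 1 < X.index → Odd X.index → 2 * e + 1 ≤ X.index :=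
    fun X hX h ho => by
    have := Nat.le_of_dvd (by omega) (not_two_dvd_sub_one hdvd hX hodd ho)
    omega
  have hp1 : 1 < W.index := hWi ▸ Nat.one_lt_pow ha.ne' hp.one_lt
  have hq1 : 1 < W'.index := hWi' ▸ Nat.one_lt_pow ha'.ne' hq.one_lt
  rcases hp.eq_two_or_odd' with hp2 | hpo
  · have hqo : Odd W'.index := hWi' ▸ (hq.odd_of_ne_two fun h => hqp (h.trans hp2.symm)).pow
    exact (Nat.mul_le_mul (h1 W hW hp1) (h2 W' hW' hq1 hqo)).trans hle
  · have hpo' : Odd W.index := hWi ▸ hpo.pow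
    rw [mul_comm]
    exact (Nat.mul_le_mul (h2 W hW hp1 hpo') (h1 W' hW' hq1)).trans hle

include hnil he hdvd hpp hV in
/-- Above a characteristic `N` inside the derived subgroup: a larger one `M` such that the squared
degrees of the characters with `N` in the kernel are at most `|V : M| / (e + 1)`. -/
theorem exists_step (N : Subgroup V) (hN : N.Characteristic) (hlt : N < commutator V) :
    ∃ M : Subgroup V, M.Characteristic ∧ N < M ∧ M ≤ commutator V ∧
      ∀ ψ : Cfsg.IrrCharacter V, ∀ d : ℕ, (ψ : V → ℂ) 1 = d →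
        (∀ n ∈ N, (ψ : V → ℂ) n = d) → d * d * ((e + 1) * Nat.card M) ≤ Nat.card V := by
  have := Fintype.ofFinite V
  have hNn : N.Normal := inferInstance
  have hQ : Group.IsNilpotent (V ⧸ N) := by
    have := hnil
    infer_instance
  set mk := QuotientGroup.mk' N with hmk
  have hcen : ∀ v : V, mk v ∈ Subgroup.center (V ⧸ N) ↔ ∀ u, v * u * v⁻¹ * u⁻¹ ∈ N := by
    intro v
    rw [Subgroup.mem_center_iff]
    constructor
    · intro h u
      rw [← QuotientGroup.eq_one_iff (N := N)]
      have h' := h (mk u)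
      show mk (v * u * v⁻¹ * u⁻¹) = 1
      rw [map_mul, map_mul, map_mul, ← h', map_inv, map_inv]
      group
    · intro h g
      obtain ⟨u, rfl⟩ := QuotientGroup.mk'_surjective N g
      have h' : mk (v * u * v⁻¹ * u⁻¹) = 1 := (QuotientGroup.eq_one_iff _).2 (h u)
      rw [map_mul, map_mul, map_mul, map_inv, map_inv, mul_inv_eq_one, mul_inv_eq_iff_eq_mul] at h'
      exact h'.symm
  set Z := (Subgroup.center (V ⧸ N)).comap mk with hZ
  have hZc : Z.Characteristic := char_of_forall fun φ v hv => by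
    rw [hZ, Subgroup.mem_comap, hcen] at hv ⊢
    intro u
    obtain ⟨u, rfl⟩ := φ.surjective u
    have := apply_mem hN φ (hv u)
    simpa using this
  -- a central element of prime order inside the derived subgroup
  have hW : (commutator V).map mk ≠ ⊥ := by
    rw [Ne, Subgroup.map_eq_bot_iff, hmk, QuotientGroup.ker_mk']
    exact hlt.not_ge
  have : ((commutator V).map mk).Normal :=
    Subgroup.Normal.map inferInstance mk (QuotientGroup.mk'_surjective N)
  obtain ⟨z, hz, hz1⟩ : ∃ z ∈ (commutator V).map mk ⊓ Subgroup.center (V ⧸ N), z ≠ 1 :=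
    ((commutator V).map mk ⊓ Subgroup.center (V ⧸ N)).bot_or_exists_ne_one.resolve_left
      (Fitting.inf_center_ne_bot hW)
  obtain ⟨p, hp, hpz⟩ := Nat.exists_prime_and_dvd (n := orderOf z) (by rwa [Ne, orderOf_eq_one_iff])
  have := Fact.mk hp
  set z₁ := z ^ (orderOf z / p) with hz₁
  have hz₁o : orderOf z₁ = p := orderOf_pow_orderOf_div (orderOf_pos z).ne' hpz
  let M : Subgroup V :=
    { carrier := {v | mk v ∈ Subgroup.center (V ⧸ N) ∧ v ∈ commutator V ∧ mk v ^ p = 1}
      one_mem' := ⟨by simp, Subgroup.one_mem _, by simp⟩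
      mul_mem' := fun {v w} hv hw => ⟨by rw [map_mul]; exact Subgroup.mul_mem _ hv.1 hw.1,
        Subgroup.mul_mem _ hv.2.1 hw.2.1, by
          rw [map_mul, ((Subgroup.mem_center_iff.1 hw.1) (mk v)).symm.symm |> fun h =>
            (show Commute (mk v) (mk w) from h).mul_pow, hv.2.2, hw.2.2, one_mul]⟩
      inv_mem' := fun {v} hv => ⟨by rw [map_inv]; exact Subgroup.inv_mem _ hv.1,
        Subgroup.inv_mem _ hv.2.1, by rw [map_inv, inv_pow, hv.2.2, inv_one]⟩ }
  have hMmem : ∀ v, v ∈ M ↔ v ∈ Z ∧ v ∈ commutator V ∧ v ^ p ∈ N := by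
    intro v
    show (_ ∧ _ ∧ _) ↔ _
    rw [← map_pow, hmk, QuotientGroup.mk'_apply, QuotientGroup.mk'_apply, QuotientGroup.eq_one_iff]
    rfl
  have hMc : M.Characteristic := char_of_forall fun φ v hv => by
    rw [hMmem] at hv ⊢
    exact ⟨apply_mem hZc φ hv.1, apply_mem inferInstance φ hv.2.1,
      map_pow φ v p ▸ apply_mem hN φ hv.2.2⟩
  have hNM : N ≤ M := fun v hv => by
    have h1 : mk v = 1 := (QuotientGroup.eq_one_iff v).2 hv
    exact ⟨by rw [h1]; exact Subgroup.one_mem _, hlt.le hv, by rw [h1, one_pow]⟩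
  have hNM' : N < M := by
    refine lt_of_le_of_ne hNM fun h => ?_
    obtain ⟨v, hv, hvz⟩ := Subgroup.mem_map.1 (Subgroup.mem_inf.1 hz).1
    have hvM : v ^ (orderOf z / p) ∈ M := by
      refine ⟨?_, Subgroup.pow_mem _ hv _, ?_⟩ <;> rw [map_pow, hvz]
      · exact Subgroup.pow_mem _ (Subgroup.mem_inf.1 hz).2 _
      · exact (congrArg (z₁ ^ ·) hz₁o).symm.trans (pow_orderOf_eq_one z₁)
    rw [← h, ← QuotientGroup.eq_one_iff] at hvM
    have h0 : mk v ^ (orderOf z / p) = 1 := (map_pow mk v _).symm.trans hvM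
    have h1 : z₁ = 1 := by rwa [hvz] at h0
    rw [h1, orderOf_one] at hz₁o
    exact hp.ne_one hz₁o.symm
  -- a central element of another prime order
  have hMZ : M < Z := by
    refine lt_of_le_of_ne (fun v hv => hv.1) fun h => ?_
    obtain ⟨q, hq, hqd, hqp⟩ : ∃ q : ℕ, q.Prime ∧ q ∣ (commutator V).index ∧ q ≠ p := by
      by_contra hcon
      push Not at hcon
      apply hpp
      refine (isPrimePow_iff_unique_prime_dvd).2 ?_
      obtain ⟨r, hr, hrd⟩ := Nat.exists_prime_and_dvd (n := Nat.card V) (by omega)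
      refine ⟨p, ⟨hp, ?_⟩, fun r hr => ?_⟩
      · exact hpz.trans (orderOf_dvd_natCard z |>.trans
          (by rw [← Subgroup.index_eq_card]; exact Subgroup.index_dvd_card N))
      · obtain ⟨W, -, hWc, a, ha, hWi⟩ := exists_char_prime_index hnil hr.1 hr.2
        exact hcon r hr.1
          ((dvd_pow_self r ha.ne').trans (hWi ▸ Subgroup.index_dvd_of_le hWc))
    have := Fact.mk hq
    have hqQ : q ∣ Nat.card (V ⧸ N) := by
      rw [← Subgroup.index_eq_card]
      exact hqd.trans (Subgroup.index_dvd_of_le hlt.le)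
    obtain ⟨P⟩ := (inferInstance : Nonempty (Sylow q (V ⧸ N)))
    have := Transfer.nilpotent_sylow_normal hQ P
    have hPne : (P : Subgroup (V ⧸ N)) ≠ ⊥ := fun h0 => by
      have := P.dvd_card_of_dvd_card hqQ
      rw [h0, Subgroup.card_bot] at this
      exact hq.ne_one (Nat.dvd_one.1 this)
    obtain ⟨y, hy, hy1⟩ :=
      ((P : Subgroup (V ⧸ N)) ⊓ Subgroup.center (V ⧸ N)).bot_or_exists_ne_one.resolve_left
        (Fitting.inf_center_ne_bot hPne)
    obtain ⟨v, rfl⟩ := QuotientGroup.mk'_surjective N y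
    have hvZ : v ∈ Z := (Subgroup.mem_inf.1 hy).2
    rw [← h] at hvZ
    obtain ⟨k, hk⟩ := P.isPGroup' ⟨_, (Subgroup.mem_inf.1 hy).1⟩
    refine hy1 (orderOf_eq_one_iff.1 (Nat.eq_one_of_dvd_coprimes
      (((Nat.coprime_primes hp hq).2 hqp.symm).pow_right k)
      (orderOf_dvd_of_pow_eq_one hvZ.2.2) (orderOf_dvd_of_pow_eq_one ?_)))
    simpa using congrArg Subtype.val hk
  refine ⟨M, hMc, hNM', fun v hv => hv.2.1, fun ψ d hd hker => ?_⟩
  have hdb := Cfsg.Agent.Coherence.degree_bound ψ.2 N Z ⊤ le_top (fun x hx y _ => (hcen x).1 hx y)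
    (fun b hb => by rw [hker b hb, hd])
  rw [hd, Complex.natCast_re, Subgroup.card_top] at hdb
  have hdb' : d ^ 2 * Nat.card V * Nat.card Z ≤ Nat.card V ^ 2 := by exact_mod_cast hdb
  have h3 := card_mul_le_of_lt he hdvd hMc hZc hMZ
  refine le_trans (Nat.mul_le_mul_left _ h3) ?_
  refine Nat.le_of_mul_le_mul_left ?_ (Nat.card_pos (α := V))
  calc Nat.card V * (d * d * Nat.card Z) = d ^ 2 * Nat.card V * Nat.card Z := by ring
    _ ≤ _ := hdb'
    _ = _ := sq _

/-- The squared degrees of the characters with `M` in the kernel add up to `|V : M|`. -/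
theorem sum_sq_kernel [Fintype V] (M : Subgroup V) [M.Normal] (d : Cfsg.IrrCharacter V → ℕ)
    (hd : ∀ θ : Cfsg.IrrCharacter V, (θ : V → ℂ) 1 = d θ)
    [DecidablePred fun θ : Cfsg.IrrCharacter V => ∀ n ∈ M, (θ : V → ℂ) n = d θ] :
    ∑ θ ∈ Finset.univ.filter (fun θ : Cfsg.IrrCharacter V => ∀ n ∈ M, (θ : V → ℂ) n = d θ),
      d θ * d θ = M.index := by
  classical
  have := Fintype.ofFinite M
  have key : ∀ θ : Cfsg.IrrCharacter V, CharDeep.Ext.avg M (θ : V → ℂ) 1
      = if ∀ n ∈ M, (θ : V → ℂ) n = d θ then (d θ : ℂ) else 0 := by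
    intro θ
    split_ifs with h
    · rw [CharDeep.Ext.avg_apply, Finset.sum_congr rfl fun (n : M) _ => by rw [mul_one, h n n.2],
        Finset.sum_const, Finset.card_univ, nsmul_eq_mul, Fintype.card_eq_nat_card,
        inv_mul_cancel_left₀ (CharDeep.Ext.natCard_ne M)]
    · rcases CharDeep.Ext.avg_irr M θ with h1 | h1
      · refine absurd (fun n hn => ?_) h
        have h2 := CharDeep.Ext.avg_mul_left M (θ : V → ℂ) ⟨n, hn⟩ 1
        rw [h1, mul_one, hd] at h2
        exact h2
      · rw [h1]; rfl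
  have hreg : ∀ g : V, ∑ θ : Cfsg.IrrCharacter V, (θ : V → ℂ) g * (d θ : ℂ)
      = if g = 1 then (Nat.card V : ℂ) else 0 := by
    intro g
    have h := CharCore.sum_apply_mul_conj g 1
    simp only [hd, Complex.conj_natCast] at h
    rw [h]
    by_cases hg : g = 1
    · subst hg
      rw [if_pos rfl, if_pos (IsConj.refl _),
        Subgroup.centralizer_eq_top_iff_subset.2 (by simp), Subgroup.card_top]
    · rw [if_neg hg, if_neg fun h => hg (isConj_one_right.1 h.symm)]
  have h : ∑ θ : Cfsg.IrrCharacter V, CharDeep.Ext.avg M (θ : V → ℂ) 1 * (d θ : ℂ)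
      = (M.index : ℂ) := by
    simp only [CharDeep.Ext.avg_apply, mul_one, mul_assoc, Finset.sum_mul, ← Finset.mul_sum]
    rw [Finset.sum_comm, Finset.sum_congr rfl fun (n : M) _ => hreg n,
      Finset.sum_eq_single (1 : M)]
    · rw [if_pos (OneMemClass.coe_one M), ← Subgroup.card_mul_index M, Nat.cast_mul,
        inv_mul_cancel_left₀ (CharDeep.Ext.natCard_ne M)]
    · exact fun n _ hn => if_neg fun h => hn (Subtype.ext h)
    · simp
  simp only [key, ite_mul, zero_mul] at h
  rw [← Finset.sum_filter] at h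
  exact_mod_cast h

include hnil he hodd hdvd hpp hV in
/-- Propagation from the linear characters to all characters. -/
theorem forall_of_step [Fintype V] (one : Cfsg.IrrCharacter V) (hone : ∀ v, (one : V → ℂ) v = 1)
    (d : Cfsg.IrrCharacter V → ℕ) (hd : ∀ θ : Cfsg.IrrCharacter V, (θ : V → ℂ) 1 = d θ)
    (P : Cfsg.IrrCharacter V → Prop) (hbase : ∀ θ, θ ≠ one → d θ = 1 → P θ)
    (hstep : ∀ (S : Finset (Cfsg.IrrCharacter V)) θ₀, θ₀ ≠ one → (∀ θ ∈ S, θ ≠ one ∧ P θ) →
      e * (2 * d θ₀ + 1) < ∑ θ ∈ S, d θ * d θ → P θ₀) :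
    ∀ θ, θ ≠ one → P θ := by
  classical
  suffices hall : ∀ n, ∀ N : Subgroup V, N.Characteristic → N ≤ commutator V → N.index ≤ n →
      ∀ θ, θ ≠ one → (∀ v ∈ N, (θ : V → ℂ) v = d θ) → P θ from fun θ hθ =>
    hall _ ⊥ inferInstance bot_le le_rfl θ hθ fun v hv => by rw [Subgroup.mem_bot.1 hv, hd]
  intro n
  induction n with
  | zero => exact fun N _ _ h => absurd (Nat.le_zero.1 h) Subgroup.index_ne_zero_of_finite
  | succ n ih =>
    intro N hN hNle hidx θ₀ hθ₀ hker
    rcases hNle.eq_or_lt with heq | hlt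
    · refine hbase θ₀ hθ₀ ?_
      have hdb := Cfsg.Agent.Coherence.degree_bound θ₀.2 N ⊤ ⊤ le_rfl (fun x _ y _ => by
          rw [heq, commutator_def, ← commutatorElement_def]
          exact Subgroup.commutator_mem_commutator (Subgroup.mem_top x) (Subgroup.mem_top y))
        (fun b hb => by rw [hker b hb, hd])
      rw [hd, Complex.natCast_re, Subgroup.card_top] at hdb
      have hdb' : d θ₀ ^ 2 * Nat.card V * Nat.card V ≤ Nat.card V ^ 2 := by exact_mod_cast hdb
      have hd0 : d θ₀ ≠ 0 := fun h => CharCore.irr_apply_one_ne_zero θ₀ (by rw [hd, h, Nat.cast_zero])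
      have hle : d θ₀ ^ 2 ≤ 1 := by
        refine Nat.le_of_mul_le_mul_right ?_
          (show 0 < Nat.card V * Nat.card V from Nat.mul_pos Nat.card_pos Nat.card_pos)
        rw [one_mul, ← mul_assoc, ← sq (Nat.card V)]
        exact hdb'
      have := Nat.pow_le_one_iff (by norm_num : (2 : ℕ) ≠ 0) |>.1 hle
      omega
    obtain ⟨M, hMc, hNM, hMle, hbound⟩ := exists_step hnil he hdvd hpp hV N hN hlt
    have hb := hbound θ₀ (d θ₀) (hd θ₀) hker
    have hMi : M.index ≤ n := by
      have h1 := Subgroup.index_strictAnti hNM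
      omega
    have hMn : M.Normal := inferInstance
    have hsum := sum_sq_kernel M d hd
    have h1mem : one ∈ Finset.univ.filter
        (fun θ : Cfsg.IrrCharacter V => ∀ v ∈ M, (θ : V → ℂ) v = d θ) := by
      simp only [Finset.mem_filter, Finset.mem_univ, true_and]
      intro v _
      rw [← hd, hone, hone]
    have hd1 : d one = 1 := by
      have := hd one
      rw [hone] at this
      exact_mod_cast this.symm
    rw [← Finset.add_sum_erase _ _ h1mem, hd1, one_mul] at hsum
    refine hstep ((Finset.univ.filter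
        (fun θ : Cfsg.IrrCharacter V => ∀ v ∈ M, (θ : V → ℂ) v = d θ)).erase one) θ₀ hθ₀ (fun θ hθ => ⟨Finset.ne_of_mem_erase hθ, ih M hMc hMle hMi θ
      (Finset.ne_of_mem_erase hθ) (Finset.mem_filter.1 (Finset.mem_of_mem_erase hθ)).2⟩) ?_
    have hm := (commutator_index_ge hnil he hodd hdvd hpp hV).trans
      (Nat.le_of_dvd (Nat.pos_of_ne_zero Subgroup.index_ne_zero_of_finite)
        (Subgroup.index_dvd_of_le hMle))
    have hi : d θ₀ * d θ₀ * (e + 1) ≤ M.index := by
      refine Nat.le_of_mul_le_mul_left ?_ (Nat.card_pos (α := M))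
      rw [Subgroup.card_mul_index]
      calc Nat.card M * (d θ₀ * d θ₀ * (e + 1)) = d θ₀ * d θ₀ * ((e + 1) * Nat.card M) := by ring
        _ ≤ _ := hb
    have he3 : 3 ≤ e := by obtain ⟨j, hj⟩ := hodd; omega
    rcases Nat.lt_or_ge e (d θ₀) with hde | hde
    · have : e * (2 * d θ₀ + 1) + 1 < d θ₀ * d θ₀ * (e + 1) := by
        have h4 : 4 ≤ d θ₀ := by omega
        nlinarith [Nat.mul_le_mul_right (e * d θ₀) h4]
      omega
    · have : e * (2 * d θ₀ + 1) + 1 < (e + 1) * (2 * e + 1) := by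
        nlinarith [Nat.mul_le_mul_left (2 * e) hde]
      omega

end Cfsg.Agent.ZassNormal.NilKernel
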