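import Cfsg.Agent.CharDeep.FpfCyclic

/-!
An abelian group acting fixed-point-freely on a non-trivial finite abelian group of coprime order
is cyclic.
-/

set_option autoImplicit false

namespace Cfsg.Agent.ZassNormal

theorem isCyclic_of_fpf_comm {V M : Type*} [Group V] [Finite V] [CommGroup M] [Finite M]
    [Nontrivial M] [MulDistribMulAction V M] (hcomm : ∀ x y : V, x * y = y * x)
    (hcop : (Nat.card V).Coprime (Nat.card M))
    (hf : ∀ v : V, v ≠ 1 → ∀ x : M, v • x = x → x = 1) : IsCyclic V := by
  classical
  letI : CommGroup V := { (inferInstance : Group V) with mul_comm := hcomm }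
  have := Fintype.ofFinite V
  -- at most `p` solutions of `x ^ p = 1`
  have hker : ∀ p : ℕ, p.Prime → Nat.card (powMonoidHom p : V →* V).ker ≤ p := by
    intro p hp
    by_contra hlt
    push Not at hlt
    have : Nontrivial (powMonoidHom p : V →* V).ker :=
      Finite.one_lt_card_iff_nontrivial.1 (by have := hp.two_le; omega)
    obtain ⟨b, hb⟩ := exists_ne (1 : (powMonoidHom p : V →* V).ker)
    have hbp : (b : V) ^ p = 1 := b.2
    have hb1 : (b : V) ≠ 1 := fun h => hb (Subtype.ext h)
    have : Fact p.Prime := ⟨hp⟩
    have hob : orderOf (b : V) = p := orderOf_eq_prime hbp hb1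
    obtain ⟨a, ha⟩ : ∃ a : (powMonoidHom p : V →* V).ker, (a : V) ∉ Subgroup.zpowers (b : V) := by
      by_contra hall
      push Not at hall
      have := Subgroup.card_le_of_le (H := (powMonoidHom p : V →* V).ker)
        (K := Subgroup.zpowers (b : V)) fun x hx => hall ⟨x, hx⟩
      rw [Nat.card_zpowers, hob] at this
      omega
    have hM : (Nat.card M).Coprime p :=
      (hcop.coprime_dvd_left (hob ▸ orderOf_dvd_natCard (b : V))).symm
    refine Cfsg.Agent.CharDeep.Zass.false_of_fpf_pair hp hM (a : V) b (hcomm _ _) a.2 hbp
      (hf _ hb1) fun i _ => hf _ fun h => ha ?_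
    rw [eq_inv_of_mul_eq_one_left h]
    exact Subgroup.inv_mem _ (Subgroup.pow_mem _ (Subgroup.mem_zpowers _) i)
  -- hence at most `n` solutions of `x ^ n = 1`
  have hle : ∀ n : ℕ, 0 < n → Nat.card (powMonoidHom n : V →* V).ker ≤ n := by
    intro n
    induction n using Nat.strong_induction_on with
    | _ n ih =>
      intro hn
      by_cases h1 : n = 1
      · subst h1
        have : (powMonoidHom 1 : V →* V).ker = ⊥ := by
          rw [Subgroup.eq_bot_iff_forall]
          intro x hx
          simpa using (hx : x ^ 1 = 1)
        rw [this, Subgroup.card_bot]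
      · obtain ⟨p, hp, m, rfl⟩ := Nat.exists_prime_and_dvd h1
        have hm0 : 0 < m := Nat.pos_of_ne_zero fun h => by simp [h] at hn
        have hmlt : m < p * m := by nlinarith [hp.two_le]
        let f : (powMonoidHom (p * m) : V →* V).ker →* (powMonoidHom p : V →* V).ker :=
          { toFun := fun x => ⟨(x : V) ^ m, by
              show ((x : V) ^ m) ^ p = 1
              rw [← pow_mul]; exact (congrArg ((x : V) ^ ·) (mul_comm m p)).trans x.2⟩
            map_one' := Subtype.ext (one_pow m)
            map_mul' := fun x y => Subtype.ext (mul_pow (x : V) y m) }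
        have h2 := f.ker.card_mul_index
        rw [Subgroup.index_ker] at h2
        have h3 : Nat.card f.ker ≤ m := by
          refine le_trans (Nat.card_le_card_of_injective
            (fun x : f.ker => (⟨((x : (powMonoidHom (p * m) : V →* V).ker) : V),
              congrArg Subtype.val x.2⟩ : (powMonoidHom m : V →* V).ker)) fun x y h => ?_)
            (ih m hmlt hm0)
          exact Subtype.ext (Subtype.ext (congrArg Subtype.val h :))
        have h4 : Nat.card f.range ≤ p :=
          (Nat.card_le_card_of_injective _ Subtype.val_injective).trans (hker p hp)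
        rw [← h2]
        exact (Nat.mul_le_mul h3 h4).trans (by rw [mul_comm])
  refine isCyclic_of_card_pow_eq_one_le fun n hn => ?_
  refine le_trans (le_of_eq ?_) (hle n hn)
  rw [Nat.card_eq_fintype_card, ← Fintype.card_subtype]
  exact Fintype.card_congr (Equiv.refl _)

end Cfsg.Agent.ZassNormal
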