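import Cfsg.Agent.Lib.Zassenhaus.Normal

/-!
Finite Zassenhaus groups of odd degree are simple.
-/

set_option autoImplicit false

namespace Cfsg.Agent.ZassNormal

open MulAction
open Cfsg.Agent.CharDeep

variable {G Ω : Type*} [Group G] [MulAction G Ω] [Finite G] [Fintype Ω]

/-- An even two-point stabiliser forces even degree. -/
theorem even_card_of_even_two (hZ : Cfsg.IsZassenhausGroup G Ω) {a b : Ω} (hab : a ≠ b)
    (heven : Even (Nat.card ↥(Zass.two G a b))) : Even (Fintype.card Ω) := by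
  classical
  have := Fintype.ofFinite G
  obtain ⟨x, hx⟩ := exists_prime_orderOf_dvd_card' 2 (even_iff_two_dvd.1 heven)
  have hx2 : (x : G) * x = 1 := by
    rw [← pow_two, ← hx, ← Subgroup.orderOf_coe, pow_orderOf_eq_one]
  have hx1 : (x : G) ≠ 1 := fun h => by
    rw [show x = 1 from Subtype.ext h, orderOf_one] at hx; omega
  have h2 : Zass.nfix Ω (x : G) = 2 := by
    refine le_antisymm (Zass.nfix_le_two hZ hx1) ?_
    exact Finset.one_lt_card.2
      ⟨a, by simpa using (Zass.mem_two.1 x.2).1, b, by simpa using (Zass.mem_two.1 x.2).2, hab⟩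
  have h := Zass.nfix_parity (Ω := Ω) hx2
  rw [h2] at h
  have h3 := Zass.three_le_card hZ hab
  rw [Nat.even_sub (by omega)] at h
  exact h.2 even_two

theorem odd_two_of_odd_degree (hZ : Cfsg.IsZassenhausGroup G Ω) (hn : Odd (Fintype.card Ω))
    {a b : Ω} (hab : a ≠ b) : Odd (Nat.card ↥(Zass.two G a b)) := by
  by_contra h
  exact Nat.not_even_iff_odd.2 hn (even_card_of_even_two hZ hab (Nat.not_odd_iff_even.1 h))

/-- **A Zassenhaus group of odd degree is simple.** -/
theorem isSimpleGroup_of_odd (hZ : Cfsg.IsZassenhausGroup G Ω) (hn : Odd (Fintype.card Ω)) :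
    IsSimpleGroup G := by
  classical
  have := Fintype.ofFinite G
  obtain ⟨g, hg, a₀, b₀, hab₀, -⟩ := hZ.2.2.2.1
  have : Nontrivial G := ⟨⟨g, 1, hg⟩⟩
  refine ⟨fun N hN => or_iff_not_imp_left.2 fun hbot => ?_⟩
  -- `N` contains all involutions
  have hinv : ∀ x ∈ Zass.invs G, x ∈ N := by
    intro x hx
    have hodd0 := odd_two_of_odd_degree hZ hn hab₀
    have h1 := (Zass.inv_nfix hZ hab₀ hodd0 hx).trans (if_pos hn)
    obtain ⟨c, hc⟩ := Finset.card_eq_one.1 h1
    have hxc : x • c = c := by simpa using Finset.ext_iff.1 hc c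
    have := nontrivial hZ
    obtain ⟨d, hd⟩ := exists_ne c
    obtain ⟨H, hH⟩ := Zass.exists_kernel hZ hd.symm
    exact kernel_le hZ N hbot hH (Zass.invAt_subset_kernel hZ hd.symm
      (odd_two_of_odd_degree hZ hn hd.symm) hH (Finset.mem_filter.2 ⟨hx, hxc⟩))
  -- hence all two-point stabilisers
  have htwo : ∀ a b : Ω, a ≠ b → Zass.two G a b ≤ N := by
    intro a b hab x hx
    have hodd := odd_two_of_odd_degree hZ hn hab
    obtain ⟨v, hv⟩ := Zass.invSwap_nonempty hZ hab hodd
    set S := (Finset.univ.filter fun g : G => g ∈ Zass.two G a b).image (fun y => y * v)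
    have hsub : Zass.invSwap G a b ⊆ S := by
      intro s hs
      simp only [S, Finset.mem_image, Finset.mem_filter, Finset.mem_univ, true_and]
      refine ⟨s * v, Zass.swap_mul_mem (Zass.mem_invSwap.1 hs).2 (Zass.mem_invSwap.1 hv).2, ?_⟩
      rw [mul_assoc, (Zass.mem_invs.1 (Zass.mem_invSwap.1 hv).1).2, mul_one]
    have heq := Finset.eq_of_subset_of_card_le hsub (by
      rw [Zass.card_invSwap_of_odd hZ hab hodd hn, Nat.card_eq_fintype_card, Fintype.card_subtype]
      exact Finset.card_image_le)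
    have hxv : x * v ∈ Zass.invSwap G a b := by
      rw [heq]
      simp only [S, Finset.mem_image, Finset.mem_filter, Finset.mem_univ, true_and]
      exact ⟨x, hx, rfl⟩
    have h2 := N.mul_mem (hinv _ (Zass.mem_invSwap.1 hxv).1) (hinv _ (Zass.mem_invSwap.1 hv).1)
    rwa [mul_assoc, (Zass.mem_invs.1 (Zass.mem_invSwap.1 hv).1).2, mul_one] at h2
  rw [eq_top_iff]
  intro x _
  have hT := pretransitive_normal hZ N hbot
  obtain ⟨H, hH⟩ := Zass.exists_kernel hZ hab₀
  obtain ⟨k, hk⟩ := exists_smul_eq N a₀ (x • a₀)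
  have hk' : ((k : G)⁻¹ * x) • a₀ = a₀ := by
    rw [mul_smul, inv_smul_eq_iff]
    exact hk.symm
  obtain ⟨u, hu, y, hy, he⟩ := Zass.exists_kernel_mul hZ hab₀ hH hk'
  rw [show x = (k : G) * (u * y) by rw [← he]; group]
  exact N.mul_mem k.2 (N.mul_mem (kernel_le hZ N hbot hH hu) (htwo _ _ hab₀ hy))

end Cfsg.Agent.ZassNormal
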