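import Cfsg.Agent.Lib.Zassenhaus.SharpThree
import Cfsg.Agent.Lib.Zassenhaus.OddDegree
import Cfsg.Agent.Lib.Zassenhaus.Cyclic
import Cfsg.Agent.Lib.Frobenius.Involution

/-!
Simple Zassenhaus groups with two-point stabilisers of even order: these have order
`(|Ω| - 2) / 2`, are cyclic and inverted by every element interchanging the two points.
-/

set_option autoImplicit false

namespace Cfsg.Agent.ZassNormal

open MulAction
open Cfsg.Agent.CharDeep

variable {G Ω : Type*} [Group G] [Fintype G] [DecidableEq G] [MulAction G Ω] [Fintype Ω]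
  [DecidableEq Ω] (hZ : Cfsg.IsZassenhausGroup G Ω) {a b : Ω} (hab : a ≠ b) {U : Subgroup G}
  (hU : Zass.IsKernel a U)

include hZ hab hU

omit [DecidableEq G] [DecidableEq Ω] in
theorem two_dvd_card_kernel_sub_one : Nat.card ↥(Zass.two G a b) ∣ Fintype.card Ω - 2 := by
  have h := Frobenius.card_dvd_index_sub_one (Zass.isFrobeniusComplement_two hZ hab)
  have hc := ((Zass.two G a b).subgroupOf (stabilizer G a)).card_mul_index
  rw [Nat.card_congr (Subgroup.subgroupOfEquivOfLe inf_le_left).toEquiv] at h hc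
  rw [Zass.card_stabilizer hZ hab, mul_comm (Fintype.card Ω - 1)] at hc
  rw [Nat.eq_of_mul_eq_mul_left Nat.card_pos hc] at h
  exact (show Fintype.card Ω - 2 = Fintype.card Ω - 1 - 1 by omega) ▸ h

theorem isFPF_kernel : Frobenius.IsFPF (Zass.two G a b) U := by
  refine ⟨fun x hx => ?_, fun x hx hx1 => ?_⟩
  · rw [Zass.normalizer_kernel hZ hU]; exact hx.1
  · rw [Subgroup.eq_bot_iff_forall]
    rintro u ⟨hu, huc⟩
    exact Zass.kernel_fpf hZ hab hU hx hx1 hu
      (mul_inv_eq_iff_eq_mul.2 (Subgroup.mem_centralizer_singleton_iff.1 huc).symm)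

variable (heven : Even (Nat.card ↥(Zass.two G a b)))

include heven

/-- The two-point stabiliser has a unique involution, and it inverts the kernel, which is
abelian. -/
theorem unique_involution :
    (∃ t ∈ Zass.two G a b, orderOf t = 2 ∧ (∀ x ∈ Zass.two G a b, orderOf x = 2 → x = t) ∧
      ∀ u ∈ U, t * u * t⁻¹ = u⁻¹) ∧ IsMulCommutative U :=
  (isFPF_kernel hZ hab hU).unique_involution (fun h => by
    obtain ⟨u, hu, hu1⟩ := Zass.kernel_ne_bot hZ hU
    rw [h, Subgroup.mem_bot] at hu
    exact hu1 hu) (even_iff_two_dvd.1 heven)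

omit hab hU heven in
/-- The involutions fixing exactly two points. -/
theorem mem_two_inv {x : G} {c d : Ω} (hcd : c ≠ d) (hx : x ∈ Zass.invs G) (hc : x • c = c)
    (hd : x • d = d) : Zass.nfix Ω x = 2 :=
  le_antisymm (Zass.nfix_le_two hZ (Zass.mem_invs.1 hx).1)
    (Finset.one_lt_card.2 ⟨c, by simpa using hc, d, by simpa using hd, hcd⟩)

/-- A pair of points is interchanged by exactly `(|Ω| - 2) / 2` involutions fixing two points. -/
theorem card_swap_two :
    ((Zass.invSwap G a b).filter fun x => Zass.nfix Ω x = 2).card * 2 = Fintype.card Ω - 2 := by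
  classical
  set I2 := (Zass.invs G).filter fun x => Zass.nfix Ω x = 2 with hI2
  set k := ((Zass.invSwap G a b).filter fun x => Zass.nfix Ω x = 2).card
  have h3 := Zass.three_le_card hZ hab
  obtain ⟨⟨t, ht, hto, htu, -⟩, -⟩ := unique_involution hZ hab hU heven
  -- each pair is fixed by a unique member of `I2`
  have hone : ∀ c d : Ω, c ≠ d → (I2.filter fun x => x • c = c ∧ x • d = d).card = 1 := by
    intro c d hcd
    obtain ⟨g, rfl, rfl⟩ := Zass.exists_pair hZ hab hcd
    rw [Finset.card_eq_one]
    refine ⟨g * t * g⁻¹, Finset.eq_singleton_iff_unique_mem.2 ⟨?_, fun x hx => ?_⟩⟩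
    · have h1 := (Zass.conj_mem_two (g := g)).2 ht
      have h2 : g * t * g⁻¹ ∈ Zass.invs G :=
        Zass.conj_mem_invs g (Zass.mem_invs_iff_orderOf.2 hto)
      simp only [hI2, Finset.mem_filter]
      exact ⟨⟨h2, mem_two_inv hZ hcd h2 h1.1 h1.2⟩, h1.1, h1.2⟩
    · simp only [hI2, Finset.mem_filter] at hx
      have hx2 : g⁻¹ * x * g ∈ Zass.two G a b :=
        (Zass.conj_mem_two (g := g)).1 (by simpa [mul_assoc] using
          (show x ∈ Zass.two G (g • a) (g • b) from ⟨hx.2.1, hx.2.2⟩))
      have hxo : orderOf (g⁻¹ * x * g) = 2 :=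
        Zass.mem_invs_iff_orderOf.1 (by simpa using Zass.conj_mem_invs g⁻¹ hx.1.1)
      rw [← htu _ hx2 hxo]
      group
  -- each pair is interchanged by equally many members of `I2`
  have hswap : ∀ c d : Ω, c ≠ d → (I2.filter fun x => x • c = d).card = k := by
    intro c d hcd
    obtain ⟨g, rfl, rfl⟩ := Zass.exists_pair hZ hab hcd
    refine (Finset.card_bij' (fun x _ => g * x * g⁻¹) (fun x _ => g⁻¹ * x * g) ?_ ?_ ?_ ?_).symm
    · intro x hx
      simp only [hI2, Finset.mem_filter, Zass.invSwap] at hx ⊢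
      exact ⟨⟨Zass.conj_mem_invs g hx.1.1, by rw [Zass.nfix_conj]; exact hx.2⟩,
        by rw [mul_smul, mul_smul, inv_smul_smul, hx.1.2]⟩
    · intro x hx
      simp only [hI2, Finset.mem_filter, Zass.invSwap] at hx ⊢
      refine ⟨⟨by simpa using Zass.conj_mem_invs g⁻¹ hx.1.1, ?_⟩, ?_⟩
      · rw [mul_smul, mul_smul, hx.2, inv_smul_smul]
      · have := Zass.nfix_conj (Ω := Ω) g⁻¹ x
        rw [inv_inv] at this
        rw [this]; exact hx.1.2
    · intro x _; group
    · intro x _; group
  -- count incidences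
  have hfix : ∀ c : Ω, (I2.filter fun x => x • c = c).card = Fintype.card Ω - 1 := by
    intro c
    have : I2.filter (fun x => x • c = c) =
        (Finset.univ.erase c).biUnion fun d => I2.filter fun x => x • c = c ∧ x • d = d := by
      ext x
      simp only [Finset.mem_biUnion, Finset.mem_erase, Finset.mem_filter, Finset.mem_univ,
        and_true]
      refine ⟨fun ⟨hx, hc⟩ => ?_, fun ⟨d, _, hx, hc, _⟩ => ⟨hx, hc⟩⟩
      have h2 : Zass.nfix Ω x = 2 := (Finset.mem_filter.1 hx).2
      obtain ⟨d, hd, hdc⟩ := Finset.exists_mem_ne (s := Finset.univ.filter fun e : Ω => x • e = e)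
        (by rw [Zass.nfix] at h2; omega) c
      exact ⟨d, hdc, hx, hc, by simpa using hd⟩
    rw [this, Finset.card_biUnion, Finset.sum_congr rfl fun d hd =>
      hone c d (Ne.symm (Finset.ne_of_mem_erase hd)), Finset.sum_const, smul_eq_mul, mul_one,
      Finset.card_erase_of_mem (Finset.mem_univ c), Finset.card_univ]
    intro d hd d' hd' hdd'
    rw [Function.onFun, Finset.disjoint_left]
    intro x hx hx'
    simp only [hI2, Finset.mem_filter] at hx hx'
    simp only [Finset.coe_erase, Set.mem_diff, Set.mem_singleton_iff] at hd hd'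
    exact (Zass.mem_invs.1 hx.1.1).1
      (Zass.eq_one_of_three hZ (Ne.symm hd.2) hdd' (Ne.symm hd'.2) hx.2.1 hx.2.2 hx'.2.2)
  have hmove : ∀ c : Ω, (I2.filter fun x => ¬ x • c = c).card = (Fintype.card Ω - 1) * k := by
    intro c
    have : I2.filter (fun x => ¬ x • c = c) =
        (Finset.univ.erase c).biUnion fun d => I2.filter fun x => x • c = d := by
      ext x
      simp only [Finset.mem_biUnion, Finset.mem_erase, Finset.mem_filter, Finset.mem_univ,
        and_true]
      exact ⟨fun h => ⟨x • c, h.2, h.1, rfl⟩, fun ⟨d, hd, hx, hxd⟩ => ⟨hx, hxd ▸ hd⟩⟩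
    rw [this, Finset.card_biUnion, Finset.sum_congr rfl fun d hd =>
      hswap c d (Ne.symm (Finset.ne_of_mem_erase hd)), Finset.sum_const, smul_eq_mul,
      Finset.card_erase_of_mem (Finset.mem_univ c), Finset.card_univ]
    intro d _ d' _ hdd'
    rw [Function.onFun, Finset.disjoint_left]
    intro x hx hx'
    exact hdd' ((Finset.mem_filter.1 hx).2.symm.trans (Finset.mem_filter.1 hx').2)
  have e1 : I2.card * 2 = Fintype.card Ω * (Fintype.card Ω - 1) := by
    rw [← Finset.sum_const_nat (f := fun x => Zass.nfix Ω x) fun x hx => (Finset.mem_filter.1 hx).2,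
      Zass.sum_nfix, Finset.sum_congr rfl fun c _ => hfix c, Finset.sum_const, Finset.card_univ,
      smul_eq_mul]
  have e2 : I2.card * (Fintype.card Ω - 2) = Fintype.card Ω * ((Fintype.card Ω - 1) * k) := by
    have hm : ∀ x ∈ I2, (Finset.univ.filter fun c : Ω => ¬ x • c = c).card
        = Fintype.card Ω - 2 := by
      intro x hx
      have h2 : Zass.nfix Ω x = 2 := (Finset.mem_filter.1 hx).2
      rw [Zass.nfix] at h2
      have := Finset.card_filter_add_card_filter_not (s := (Finset.univ : Finset Ω))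
        (fun c : Ω => x • c = c)
      rw [Finset.card_univ] at this
      omega
    rw [← Finset.sum_const_nat hm]
    simp only [Finset.card_filter]
    rw [Finset.sum_comm]
    simp only [← Finset.card_filter]
    rw [Finset.sum_congr rfl fun c _ => hmove c, Finset.sum_const, Finset.card_univ, smul_eq_mul]
  have hpos : 0 < Fintype.card Ω * (Fintype.card Ω - 1) := Nat.mul_pos (by omega) (by omega)
  refine (Nat.eq_of_mul_eq_mul_left hpos ?_).symm
  calc Fintype.card Ω * (Fintype.card Ω - 1) * (Fintype.card Ω - 2)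
      = I2.card * 2 * (Fintype.card Ω - 2) := by rw [e1]
    _ = 2 * (I2.card * (Fintype.card Ω - 2)) := by ring
    _ = _ := by rw [e2]; ring

variable [IsSimpleGroup G]

/-- The two-point stabiliser has order `(|Ω| - 2) / 2`. -/
theorem card_two_mul_two : Nat.card ↥(Zass.two G a b) * 2 = Fintype.card Ω - 2 := by
  have hk := card_swap_two hZ hab hU heven
  have hle : ((Zass.invSwap G a b).filter fun x => Zass.nfix Ω x = 2).card
      ≤ Nat.card ↥(Zass.two G a b) :=
    (Finset.card_filter_le _ _).trans (Zass.card_invSwap_le hZ hab)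
  obtain ⟨m, hm⟩ := two_dvd_card_kernel_sub_one hZ hab hU
  have hpos : 0 < Nat.card ↥(Zass.two G a b) := Nat.card_pos
  have h3 := Zass.three_le_card hZ hab
  rcases Nat.lt_or_ge m 3 with h | h
  · interval_cases m
    · omega
    · exact (false_of_sharp hZ hab hU (by omega) heven).elim
    · omega
  · nlinarith

/-- Every element interchanging the two points is an involution. -/
theorem swap_sq_of_even {g : G} (hg : g • a = b ∧ g • b = a) : g * g = 1 := by
  classical
  obtain ⟨w, hw⟩ := Zass.exists_swap hZ hab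
  set S := (Finset.univ.filter fun x : G => x ∈ Zass.two G a b).image (fun x => x * w)
  have hsub : ((Zass.invSwap G a b).filter fun x => Zass.nfix Ω x = 2) ⊆ S := by
    intro s hs
    have hs' := (Zass.mem_invSwap.1 (Finset.mem_filter.1 hs).1).2
    simp only [S, Finset.mem_image, Finset.mem_filter, Finset.mem_univ, true_and]
    refine ⟨s * w⁻¹, Zass.swap_mul_mem hs' ?_, by group⟩
    constructor <;> rw [inv_smul_eq_iff]
    · exact hw.2.symm
    · exact hw.1.symm
  have heq := Finset.eq_of_subset_of_card_le hsub (by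
    refine Finset.card_image_le.trans ?_
    rw [← Fintype.card_subtype, ← Nat.card_eq_fintype_card]
    have h1 := card_swap_two hZ hab hU heven
    have h2 := card_two_mul_two hZ hab hU heven
    omega)
  have hgS : g ∈ S := by
    simp only [S, Finset.mem_image, Finset.mem_filter, Finset.mem_univ, true_and]
    refine ⟨g * w⁻¹, Zass.swap_mul_mem hg ?_, by group⟩
    constructor <;> rw [inv_smul_eq_iff]
    · exact hw.2.symm
    · exact hw.1.symm
  rw [← heq] at hgS
  exact (Zass.mem_invs.1 (Zass.mem_invSwap.1 (Finset.mem_filter.1 hgS).1).1).2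

theorem inverts_of_even {w : G} (hw : w • a = b ∧ w • b = a) {x : G}
    (hx : x ∈ Zass.two G a b) : w * x * w⁻¹ = x⁻¹ := by
  have h1 := swap_sq_of_even hZ hab hU heven hw
  have h2 := swap_sq_of_even hZ hab hU heven (g := w * x)
    ⟨by rw [mul_smul, hx.1, hw.1], by rw [mul_smul, hx.2, hw.2]⟩
  rw [inv_eq_of_mul_eq_one_right h1, eq_comm, inv_eq_iff_mul_eq_one, ← h2]
  calc x * (w * x * w) = w * w * (x * (w * x * w)) := by rw [h1, one_mul]
    _ = w * (w * x) * (w * x) * w := by simp only [mul_assoc]
    _ = w * ((w * x) * (w * x)) * w := by simp only [mul_assoc]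
    _ = w * 1 * w := by rw [h2]
    _ = (w * x) * (w * x) := by rw [h2, mul_one, h1]

theorem isCyclic_of_even : IsCyclic ↥(Zass.two G a b) := by
  obtain ⟨w, hw⟩ := Zass.exists_swap hZ hab
  have hcomm : ∀ x y : Zass.two G a b, x * y = y * x := by
    intro x y
    apply Subtype.ext
    have h := fun z : G => fun hz : z ∈ Zass.two G a b => inverts_of_even hZ hab hU heven hw hz
    have h1 := h _ ((Zass.two G a b).mul_mem x.2 y.2)
    rw [show w * ((x : G) * y) * w⁻¹ = (w * x * w⁻¹) * (w * y * w⁻¹) by group, h _ x.2, h _ y.2,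
      mul_inv_rev] at h1
    have h2 := congrArg Inv.inv h1
    simp only [mul_inv_rev, inv_inv] at h2
    exact h2.symm
  obtain ⟨-, hUc⟩ := unique_involution hZ hab hU heven
  letI : CommGroup U :=
    { (inferInstance : Group U) with mul_comm := fun x y => hUc.is_comm.comm x y }
  letI := Zass.twoAct (b := b) hZ hU
  obtain ⟨u, hu, hu1⟩ := Zass.kernel_ne_bot hZ hU
  have : Nontrivial U := ⟨⟨⟨u, hu⟩, 1, fun h => hu1 (congrArg Subtype.val h)⟩⟩
  refine isCyclic_of_fpf_comm (M := U) hcomm (Zass.kernel_coprime hZ hab hU) fun x hx1 v hv => ?_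
  exact Subtype.ext (Zass.kernel_fpf hZ hab hU x.2 (fun h => hx1 (Subtype.ext h)) v.2
    (congrArg Subtype.val hv))

end Cfsg.Agent.ZassNormal
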