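import Cfsg.Agent.Lib.Zassenhaus.CuspGram
import Cfsg.Agent.Lib.Zassenhaus.GramCoherence
import Cfsg.Agent.Lib.Zassenhaus.NilKernel
import Cfsg.Agent.Lib.Zassenhaus.TwoPointEven
import Cfsg.Agent.Lib.Frobenius.Nilpotent

/-!
The kernel of a point stabiliser of a simple Zassenhaus group with odd two-point stabilisers has
prime power order.
-/

set_option autoImplicit false

namespace Cfsg.Agent.ZassNormal

open MulAction
open Cfsg.Agent.CharDeep

variable {G Ω : Type*} [Group G] [Fintype G] [DecidableEq G] [MulAction G Ω] [Fintype Ω]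
  [DecidableEq Ω] (hZ : Cfsg.IsZassenhausGroup G Ω) {a b : Ω} (hab : a ≠ b) {U : Subgroup G}
  (hU : Zass.IsKernel a U)

include hZ hab hU

/-- The kernel is nilpotent. -/
theorem kernel_isNilpotent : Group.IsNilpotent U := by
  have he := Zass.two_card_gt_one hZ hab
  obtain ⟨r, hr, hrd⟩ := Nat.exists_prime_and_dvd (n := Nat.card ↥(Zass.two G a b)) (by omega)
  have := Fact.mk hr
  obtain ⟨x, hx⟩ := exists_prime_orderOf_dvd_card' (G := Zass.two G a b) r hrd
  have hx1 : (x : G) ≠ 1 := fun h => hr.ne_one (by rw [← hx, show x = 1 from Subtype.ext h, orderOf_one])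
  set φ : U ≃* U := conjKer hZ hU (x : G) x.2.1 with hφ
  refine Frobenius.isNilpotent_of_fixedPointFree U φ (fun u hu => ?_) hr ?_
  · exact Subtype.ext (Zass.kernel_fpf hZ hab hU x.2 hx1 u.2 (congrArg Subtype.val hu))
  · have key : ∀ n : ℕ, ∀ u : U, (((φ ^ n) u : U) : G) = (x : G) ^ n * u * ((x : G) ^ n)⁻¹ := by
      intro n
      induction n with
      | zero => intro u; simp
      | succ n ih =>
        intro u
        rw [pow_succ', MulAut.mul_apply]
        show (x : G) * ((φ ^ n) u : U) * (x : G)⁻¹ = _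
        rw [ih, pow_succ']
        group
    refine MulEquiv.ext fun u => Subtype.ext ?_
    rw [key, ← Subgroup.coe_pow, ← hx, pow_orderOf_eq_one]
    simp

theorem dvd_card_char_sub_one (W : Subgroup U) (hW : W.Characteristic) :
    Nat.card ↥(Zass.two G a b) ∣ Nat.card W - 1 := by
  rw [← Subgroup.card_map_of_injective (f := U.subtype) U.subtype_injective]
  refine ((isFPF_kernel hZ hab hU).mono_right (Subgroup.map_subtype_le W) fun x hx => ?_)
    |>.card_dvd_card_sub_one
  have hxa : x • a = a := hx.1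
  rw [Subgroup.mem_normalizer_iff]
  intro g
  constructor
  · rintro ⟨u, hu, rfl⟩
    exact ⟨_, NilKernel.apply_mem hW (conjKer hZ hU x hxa) hu, rfl⟩
  · rintro ⟨u, hu, he⟩
    refine ⟨_, NilKernel.apply_mem hW (conjKer hZ hU x hxa).symm hu, ?_⟩
    show x⁻¹ * (u : G) * x = g
    rw [show (u : G) = x * g * x⁻¹ from he]
    group

variable [IsSimpleGroup G] (hodd : Odd (Nat.card ↥(Zass.two G a b)))

include hodd

/-- **The kernel has prime power order.** -/
theorem isPrimePow_kernel : IsPrimePow (Nat.card U) := by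
  classical
  by_contra hpp
  have := Fintype.ofFinite U
  have := Fintype.ofFinite (Zass.two G a b)
  have h3 := Zass.three_le_card hZ hab
  have hq := card_U_pos hZ hab hU
  have he := Zass.two_card_gt_one hZ hab
  obtain ⟨c, hc⟩ : ∃ c, Nat.card ↥(Zass.two G a b) = 2 * c + 1 := id hodd
  set e := Nat.card ↥(Zass.two G a b) with he'
  have hnil := kernel_isNilpotent hZ hab hU
  have hdvd := dvd_card_char_sub_one hZ hab hU
  have hV : 1 < Nat.card U := by omega
  choose dg hdg using fun θ : Cfsg.IrrCharacter U =>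
    CharCore.IsCharacter.exists_degree (CharCore.irr_isCharacter θ)
  let Θ := {θ : Cfsg.IrrCharacter U // θ ≠ oneIrr U}
  let R := {χ : Cfsg.IrrCharacter G // umult χ (oneIrr U) = 0}
  let M : R → Θ → ℕ := fun χ θ => umult χ.1 θ.1
  let N : Θ → Θ → ℕ := fun θ θ' =>
    (Finset.univ.filter fun x : Zass.two G a b => tconj hZ hU x θ.1 = θ'.1).card
  let d : Θ → ℕ := fun θ => dg θ.1
  have hgram : ∀ θ θ', ∑ r, M r θ * M r θ' = N θ θ' + c * d θ * d θ' := fun θ θ' =>
    gram_cusp hZ hab hU hodd hc θ.1 θ'.1 θ.2 θ'.2 (hdg θ.1) (hdg θ'.1)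
  have hcomp : ∀ (x y : Zass.two G a b) (θ : Cfsg.IrrCharacter U),
      tconj hZ hU x (tconj hZ hU y θ) = tconj hZ hU (y * x) θ := fun x y θ =>
    Subtype.ext (funext fun u => congrArg (θ : U → ℂ) (Subtype.ext (by
      show (y : G) * ((x : G) * u * (x : G)⁻¹) * (y : G)⁻¹
        = ((y : G) * x) * u * ((y : G) * x)⁻¹
      group)))
  have hone : ∀ θ : Cfsg.IrrCharacter U, tconj hZ hU (1 : Zass.two G a b) θ = θ := fun θ =>
    Subtype.ext (funext fun u => congrArg (θ : U → ℂ) (Subtype.ext (by simp [conjKer])))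
  have hle : ∀ θ θ', N θ θ' ≤ 1 := fun θ θ' => Finset.card_le_one.2 fun x hx y hy => by
    simp only [Finset.mem_filter, Finset.mem_univ, true_and] at hx hy
    have h := tconj_free hZ hab hU θ.2 (x := x * y⁻¹) (by
      rw [← hcomp, hx, ← hy, hcomp, mul_inv_cancel, hone])
    exact mul_inv_eq_one.1 h
  have hself : ∀ θ, N θ θ = 1 := fun θ => le_antisymm (hle θ θ)
    (Finset.card_pos.2 ⟨1, by simp [hone]⟩)
  have hd : ∀ θ θ', N θ θ' = 1 → d θ = d θ' := by
    intro θ θ' h
    obtain ⟨x, hx⟩ := Finset.card_pos.1 (by omega : 0 < N θ θ')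
    simp only [Finset.mem_filter, Finset.mem_univ, true_and] at hx
    have h1 := hdg θ'.1
    rw [← hx, tconj_one, hdg θ.1] at h1
    show dg θ.1 = dg θ'.1
    rw [← hx]
    exact_mod_cast h1
  have horb : ∀ (s : Finset Θ) θ, (s.filter fun θ' => N θ θ' = 1).card ≤ e := by
    intro s θ
    calc (s.filter fun θ' => N θ θ' = 1).card
        ≤ ((Finset.univ : Finset (Zass.two G a b)).image fun x => tconj hZ hU x θ.1).card := by
          refine Finset.card_le_card_of_injOn (fun θ' => θ'.1) (fun θ' hθ' => ?_)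
            (fun _ _ _ _ h => Subtype.ext h)
          obtain ⟨x, hx⟩ := Finset.card_pos.1
            (by have := (Finset.mem_filter.1 hθ').2; omega : 0 < N θ θ')
          simp only [Finset.mem_filter, Finset.mem_univ, true_and] at hx
          exact Finset.mem_coe.2 (Finset.mem_image.2 ⟨x, Finset.mem_univ _, hx⟩)
      _ ≤ e := Finset.card_image_le.trans (by rw [Finset.card_univ, he', Nat.card_eq_fintype_card])
  -- the linear characters
  set L := Finset.univ.filter fun θ : Θ => d θ = 1 with hL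
  have hd1 : dg (oneIrr U) = 1 := by
    have h := hdg (oneIrr U)
    have h' : (oneIrr U : U → ℂ) 1 = 1 := rfl
    rw [h'] at h
    exact_mod_cast h.symm
  have hLcard : L.card + 1 = (commutator U).index := by
    rw [← CharCore.card_linearCharacters]
    have h1 : L.card = ((Finset.univ.filter fun θ : Cfsg.IrrCharacter U => dg θ = 1).erase
        (oneIrr U)).card := by
      refine Finset.card_bij (fun θ _ => θ.1) (fun θ hθ => ?_) (fun _ _ _ _ h => Subtype.ext h)
        fun θ hθ => ?_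
      · simp only [hL, Finset.mem_filter, Finset.mem_univ, true_and] at hθ
        simpa using ⟨θ.2, hθ⟩
      · simp only [Finset.mem_erase, Finset.mem_filter, Finset.mem_univ, true_and] at hθ
        exact ⟨⟨θ, hθ.1⟩, by simp [hL, d, hθ.2], rfl⟩
    rw [h1, Finset.card_erase_add_one (by simp [hd1]), Nat.card_eq_fintype_card,
      Fintype.card_subtype]
    congr 1
    ext θ
    simp only [Finset.mem_filter, Finset.mem_univ, true_and, hdg θ]
    exact Nat.cast_eq_one.symm
  have hm := NilKernel.commutator_index_ge hnil he ⟨c, hc⟩ hdvd hpp hV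
  have hc0 : 0 < c := by omega
  have hLbig : e * (c + 2) < L.card := by nlinarith
  obtain ⟨γ, hγ, hgood⟩ := Gram.exists_base hgram hle hself hd L
    (fun θ hθ => (Finset.mem_filter.1 hθ).2) (horb L) hLbig
  have hall : ∀ θ : Θ, Gram.Good M d γ θ := by
    have h := NilKernel.forall_of_step hnil he ⟨c, hc⟩ hdvd hpp hV (oneIrr U) (fun _ => rfl) dg hdg
      (fun θ => ∀ h : θ ≠ oneIrr U, Gram.Good M d γ ⟨θ, h⟩)
      (fun θ _ hθ1 h => hgood ⟨θ, h⟩ (by simp [hL, d, hθ1]))
      (fun S θ₀ _ hS hbig h0 => by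
        refine Gram.good_step hgram hle hself hd hc0 hγ (S.subtype fun θ => θ ≠ oneIrr U)
          (fun θ hθ => (hS θ.1 (Finset.mem_subtype.1 hθ)).2 θ.2) (horb _) ⟨θ₀, h0⟩ ?_
        rw [Finset.sum_subtype_of_mem (fun θ => dg θ * dg θ) fun θ hθ => (hS θ hθ).1]
        exact hbig)
    exact fun θ => h θ.1 θ.2 θ.2
  -- a cuspidal character of degree `e`
  obtain ⟨θ₀, hθ₀⟩ := Finset.card_pos.1 (show 0 < L.card by omega)
  have hθ₀d : d θ₀ = 1 := (Finset.mem_filter.1 hθ₀).2
  obtain ⟨x₀, hx₀, hv₀⟩ := hall θ₀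
  have hrow : ∀ θ, M x₀ θ = N θ₀ θ := by
    intro θ
    obtain ⟨x, hx, hv⟩ := hall θ
    rw [Gram.Good.rel hgram hγ hx₀ hx hv₀ hv, hv x₀, hx₀, mul_zero, zero_add]
  have hχ1 : x₀.1 ≠ oneIrr G := fun h => by
    have h1 := x₀.2
    rw [h, umult_oneIrr, if_pos rfl] at h1
    exact one_ne_zero h1
  obtain ⟨D, hD⟩ := CharCore.IsCharacter.exists_degree (CharCore.irr_isCharacter x₀.1)
  have hres := CharCore.isCharacter_restrict (CharCore.irr_isCharacter x₀.1) U
  have hdec := congrFun (CharCore.IsCharacter.eq_sum_classInner hres) 1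
  simp only [Finset.sum_apply, Pi.smul_apply, smul_eq_mul, umult_spec, hdg, OneMemClass.coe_one,
    hD] at hdec
  have hDe : D = ∑ θ, umult x₀.1 θ * dg θ := by exact_mod_cast hdec
  rw [← Finset.add_sum_erase _ _ (Finset.mem_univ (oneIrr U)), x₀.2, zero_mul, zero_add,
    Finset.sum_subtype (p := fun θ => θ ≠ oneIrr U) _ (fun θ => by simp)] at hDe
  have hDe' : D = e := by
    have h2 : ∀ θ : Θ, umult x₀.1 θ.1 * dg θ.1 = N θ₀ θ := by
      intro θ
      show M x₀ θ * d θ = _
      rw [hrow θ]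
      rcases Nat.le_one_iff_eq_zero_or_eq_one.1 (hle θ₀ θ) with h | h
      · rw [h, zero_mul]
      · rw [h, ← hd θ₀ θ h, hθ₀d]
    rw [hDe, Finset.sum_congr rfl fun θ _ => h2 θ, he', Nat.card_eq_fintype_card, ← Finset.card_univ]
    refine (Finset.card_eq_sum_card_fiberwise (f := fun x : Zass.two G a b => (⟨tconj hZ hU x θ₀.1,
      fun h => θ₀.2 ?_⟩ : Θ)) (t := Finset.univ) (fun _ _ => Finset.mem_univ _)).trans ?_ |>.symm
    · have h' := congrArg (tconj hZ hU x⁻¹) h
      rw [hcomp, mul_inv_cancel, hone] at h'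
      exact h'.trans (Subtype.ext (funext fun u => rfl))
    · refine Finset.sum_congr rfl fun θ _ => ?_
      congr 1
      ext x
      simp [Subtype.ext_iff]
  refine false_of_small_degree hZ hab hU hodd x₀.1 hχ1 hD ?_
  rw [hDe', ← hq.2]
  have := Nat.le_of_dvd Nat.card_pos (Subgroup.index_dvd_card (commutator U))
  nlinarith

end Cfsg.Agent.ZassNormal
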