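import Cfsg.Agent.Lib.Zassenhaus.GramStar
import Cfsg.Agent.Lib.Zassenhaus.KernelPrimePow

/-!
Feit's inequality for abelian kernels: `q - 1 ≤ 2 e`.
-/

set_option autoImplicit false

namespace Cfsg.Agent.ZassNormal

open MulAction
open Cfsg.Agent.CharDeep

variable {G Ω : Type*} [Group G] [Fintype G] [DecidableEq G] [MulAction G Ω] [Fintype Ω]
  [DecidableEq Ω] (hZ : Cfsg.IsZassenhausGroup G Ω) {a b : Ω} (hab : a ≠ b) {U : Subgroup G}
  (hU : Zass.IsKernel a U)

/-- The arithmetic at the end: `c = k t² ± 2 t`, `P = k t ± 1` and `P ∣ q (q + 1)` with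
`q = k (2 c + 1) + 1` a prime power force `k ≤ 2`. -/
theorem le_two_of_arith {k c q P : ℕ} {ε t : ℤ} (hε : ε = 1 ∨ ε = -1) (ht : (c : ℤ) = k * t * t + 2 * ε * t)
    (hc : 0 < c) (hP : (P : ℤ) = k * t + ε) (hq : q = k * (2 * c + 1) + 1)
    (hdvd : P ∣ (q + 1) * q) (hpp : IsPrimePow q) : k ≤ 2 := by
  by_contra hk
  push Not at hk
  have ht1 : 1 ≤ t := by
    have hP0 : (0 : ℤ) ≤ P := Int.natCast_nonneg P
    rcases hε with h | h <;> subst h <;> by_contra htn <;> push Not at htn
    · rcases (show t = 0 ∨ t ≤ -1 by omega) with h | h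
      · subst h; simp at ht; omega
      · nlinarith
    · nlinarith
  have hPsq : (P : ℤ) * P = k * c + 1 := by
    rw [hP, ht]
    rcases hε with h | h <;> subst h <;> ring
  have hq' : (q : ℤ) = 2 * (P * P) + k - 1 := by
    rw [hq, hPsq]; push_cast; ring
  have hdvd' : (P : ℤ) ∣ (k : ℤ) * ((k : ℤ) - 1) := by
    obtain ⟨j, hj⟩ := (Int.natCast_dvd_natCast.2 hdvd : (P : ℤ) ∣ (((q + 1) * q : ℕ) : ℤ))
    refine ⟨j - 2 * P * (2 * (P * P) + 2 * k - 1), ?_⟩
    push_cast at hj
    rw [hq'] at hj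
    linear_combination hj
  have hcop : IsCoprime (P : ℤ) k := by
    rw [hP]
    exact ⟨ε, -(ε * t), by rcases hε with h | h <;> subst h <;> ring⟩
  have hdvd'' : (P : ℤ) ∣ (k : ℤ) - 1 := hcop.dvd_of_dvd_mul_left hdvd'
  have hle : (P : ℤ) ≤ (k : ℤ) - 1 := Int.le_of_dvd (by omega) hdvd''
  -- only `ε = -1`, `t = 1` remains
  obtain ⟨rfl, rfl⟩ : ε = -1 ∧ t = 1 := by
    rcases hε with h | h
    · exfalso; subst h; nlinarith
    · exact ⟨h, by subst h; nlinarith⟩
  have hc' : c + 2 = k := by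
    have : (c : ℤ) + 2 = k := by rw [ht]; ring
    exact_mod_cast this
  obtain ⟨p, n, hp, hn, hpn⟩ := (isPrimePow_def _).1 hpp
  have hfac : q = (2 * c + 3) * (c + 1) := by rw [hq, ← hc']; ring
  have h1 : (2 * c + 3).Coprime (c + 1) := by
    rw [show 2 * c + 3 = 1 + 2 * (c + 1) by ring, Nat.coprime_add_mul_right_left]
    exact Nat.coprime_one_left _
  have hp' : p.Prime := Nat.prime_iff.2 hp
  obtain ⟨i, -, hi⟩ := (Nat.dvd_prime_pow hp').1 (hpn ▸ hfac ▸ dvd_mul_right _ _ :
    2 * c + 3 ∣ p ^ n)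
  obtain ⟨j, -, hj⟩ := (Nat.dvd_prime_pow hp').1 (hpn ▸ hfac ▸ dvd_mul_left _ _ : c + 1 ∣ p ^ n)
  rcases i with _ | i
  · simp at hi
  rcases j with _ | j
  · simp at hj; omega
  rw [hi, hj] at h1
  exact hp'.ne_one (Nat.eq_one_of_dvd_coprimes h1 (dvd_pow_self p i.succ_ne_zero)
    (dvd_pow_self p j.succ_ne_zero))

include hZ hab hU

variable [IsSimpleGroup G] (hodd : Odd (Nat.card ↥(Zass.two G a b)))

include hodd

/-- **Feit's bound for an abelian kernel.** -/
theorem abelian_bound (hcomm : ∀ u v : U, u * v = v * u) :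
    Fintype.card Ω - 2 ≤ 2 * Nat.card ↥(Zass.two G a b) := by
  classical
  by_contra hlt
  push Not at hlt
  have := Fintype.ofFinite U
  have := Fintype.ofFinite (Zass.two G a b)
  have h3 := Zass.three_le_card hZ hab
  have hq := card_U_pos hZ hab hU
  have he := Zass.two_card_gt_one hZ hab
  have hpp := isPrimePow_kernel hZ hab hU hodd
  obtain ⟨c, hc⟩ : ∃ c, Nat.card ↥(Zass.two G a b) = 2 * c + 1 := id hodd
  set e := Nat.card ↥(Zass.two G a b) with he'
  -- all characters of the kernel are linear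
  have hlin : ∀ θ : Cfsg.IrrCharacter U, (θ : U → ℂ) 1 = ((1 : ℕ) : ℂ) := by
    intro θ
    obtain ⟨d, -, hd, hd1⟩ := CharClifford.exists_degree_dvd_index_center θ.2
    have htop : Subgroup.center U = ⊤ := by
      rw [eq_top_iff]
      exact fun x _ => Subgroup.mem_center_iff.2 fun y => hcomm y x
    rw [htop, Subgroup.index_top, Nat.dvd_one] at hd
    rw [hd1, hd]
  let Θ := {θ : Cfsg.IrrCharacter U // θ ≠ oneIrr U}
  let R := {χ : Cfsg.IrrCharacter G // umult χ (oneIrr U) = 0}
  let M : R → Θ → ℕ := fun χ θ => umult χ.1 θ.1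
  let N : Θ → Θ → ℕ := fun θ θ' =>
    (Finset.univ.filter fun x : Zass.two G a b => tconj hZ hU x θ.1 = θ'.1).card
  have hgram : ∀ θ θ', ∑ r, M r θ * M r θ' = N θ θ' + c * 1 * 1 := fun θ θ' =>
    gram_cusp hZ hab hU hodd hc θ.1 θ'.1 θ.2 θ'.2 (hlin θ.1) (hlin θ'.1)
  have hcomp : ∀ (x y : Zass.two G a b) (θ : Cfsg.IrrCharacter U),
      tconj hZ hU x (tconj hZ hU y θ) = tconj hZ hU (y * x) θ := fun x y θ =>
    Subtype.ext (funext fun u => congrArg (θ : U → ℂ) (Subtype.ext (by
      show (y : G) * ((x : G) * u * (x : G)⁻¹) * (y : G)⁻¹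
        = ((y : G) * x) * u * ((y : G) * x)⁻¹
      group)))
  have hone : ∀ θ : Cfsg.IrrCharacter U, tconj hZ hU (1 : Zass.two G a b) θ = θ := fun θ =>
    Subtype.ext (funext fun u => congrArg (θ : U → ℂ) (Subtype.ext (by simp [conjKer])))
  have hinjT : ∀ θ : Θ, Function.Injective fun x : Zass.two G a b => tconj hZ hU x θ.1 := by
    intro θ x y h
    have h' := tconj_free hZ hab hU θ.2 (x := x * y⁻¹) (by
      rw [← hcomp, show tconj hZ hU x θ.1 = tconj hZ hU y θ.1 from h, hcomp, mul_inv_cancel, hone])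
    exact mul_inv_eq_one.1 h'
  have hle : ∀ θ θ', N θ θ' ≤ 1 := fun θ θ' => Finset.card_le_one.2 fun x hx y hy =>
    hinjT θ ((Finset.mem_filter.1 hx).2.trans (Finset.mem_filter.1 hy).2.symm)
  have hself : ∀ θ, N θ θ = 1 := fun θ => le_antisymm (hle θ θ)
    (Finset.card_pos.2 ⟨1, by simp [hone]⟩)
  set col : Θ → (R → ℕ) := fun θ r => M r θ with hcol
  have hcol1 : ∀ θ θ', col θ = col θ' ↔ N θ θ' = 1 := by
    intro θ θ'
    constructor
    · intro h
      have h1 := hgram θ θ
      have h2 := hgram θ θ'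
      rw [Finset.sum_congr rfl fun r _ => by rw [← show M r θ = M r θ' from congrFun h r],
        h1, hself] at h2
      omega
    · exact fun h => funext fun r => Gram.col_eq hgram hself (fun _ _ _ => rfl) h r
  set V := (Finset.univ : Finset Θ).image col with hV
  have hfib : ∀ v ∈ V, (Finset.univ.filter fun θ : Θ => col θ = v).card = e := by
    intro v hv
    obtain ⟨θ, -, rfl⟩ := Finset.mem_image.1 hv
    have hmem : ∀ x : Zass.two G a b, tconj hZ hU x θ.1 ≠ oneIrr U := fun x h => θ.2 (by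
      have h' := congrArg (tconj hZ hU x⁻¹) h
      rw [hcomp, mul_inv_cancel, hone] at h'
      exact h'.trans (Subtype.ext (funext fun u => rfl)))
    rw [he', Nat.card_eq_fintype_card, ← Finset.card_univ]
    refine (Finset.card_bij (fun x _ => (⟨tconj hZ hU x θ.1, hmem x⟩ : Θ)) (fun x _ => ?_)
      (fun x _ y _ h => hinjT θ (congrArg Subtype.val h)) fun θ' hθ' => ?_).symm
    · refine Finset.mem_filter.2 ⟨Finset.mem_univ _, ((hcol1 θ _).2 ?_).symm⟩
      exact le_antisymm (hle θ _) (Finset.card_pos.2 ⟨x, by simp⟩)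
    · obtain ⟨x, hx⟩ := Finset.card_pos.1
        (show 0 < N θ θ' by rw [(hcol1 θ θ').1 (Finset.mem_filter.1 hθ').2.symm]; exact one_pos)
      exact ⟨x, Finset.mem_univ _, Subtype.ext (Finset.mem_filter.1 hx).2⟩
  set k := V.card with hk
  have hΘ : Fintype.card Θ + 1 = Nat.card U := by
    have h1 := CharCore.card_linearCharacters (G := U)
    have hbot : commutator U = ⊥ := by
      rw [commutator_eq_bot_iff_center_eq_top, eq_top_iff]
      exact fun x _ => Subgroup.mem_center_iff.2 fun y => hcomm y x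
    rw [hbot, Subgroup.index_bot] at h1
    rw [← h1, Nat.card_congr (Equiv.subtypeUnivEquiv
      (p := fun θ : Cfsg.IrrCharacter U => (θ : U → ℂ) 1 = 1) fun θ => by rw [hlin θ, Nat.cast_one]),
      Nat.card_eq_fintype_card]
    show Fintype.card {θ : Cfsg.IrrCharacter U // θ ≠ oneIrr U} + 1 = _
    rw [Fintype.card_subtype_compl, Fintype.card_subtype_eq]
    have : 0 < Fintype.card (Cfsg.IrrCharacter U) := Fintype.card_pos_iff.2 ⟨oneIrr U⟩
    omega
  have hqk : Nat.card U = k * e + 1 := by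
    rw [← hΘ, ← Finset.card_univ, Finset.card_eq_sum_card_image col, Finset.sum_congr rfl hfib,
      Finset.sum_const, smul_eq_mul]
  have hk3 : 3 ≤ k := by
    by_contra h
    have : k * e ≤ 2 * e := Nat.mul_le_mul_right e (by omega)
    omega
  obtain ⟨ε, γ, t, X, hε, hXinj, hγX, hγ, hrep⟩ := Gram.exists_signed_vector V (c := c)
    (fun v hv => by
      obtain ⟨θ, -, rfl⟩ := Finset.mem_image.1 hv
      show ∑ r, M r θ * M r θ = 1 + c
      rw [hgram, hself, mul_one, mul_one])
    (fun v hv w hw hvw => by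
      obtain ⟨θ, -, rfl⟩ := Finset.mem_image.1 hv
      obtain ⟨θ', -, rfl⟩ := Finset.mem_image.1 hw
      show ∑ r, M r θ * M r θ' = c
      have h0 : N θ θ' = 0 := by
        rcases Nat.le_one_iff_eq_zero_or_eq_one.1 (hle θ θ') with h | h
        · exact h
        · exact absurd ((hcol1 θ θ').2 h) hvw
      rw [hgram, h0, zero_add, mul_one, mul_one]) (by omega)
  -- degrees
  choose deg hdeg hdvd using fun χ : Cfsg.IrrCharacter G =>
    show ∃ d : ℕ, (χ : G → ℂ) 1 = d ∧ (0 < d ∧ d ∣ Nat.card G) from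
      (CharClifford.exists_degree_dvd_card χ.2).imp fun d hd => ⟨hd.2.2, hd.1, hd.2.1⟩
  have hDeg : ∀ r : R, (deg r.1 : ℤ) =
      e * (k * γ r + if r ∈ V.image X then ε else 0) := by
    intro r
    have hdec := congrFun (CharCore.IsCharacter.eq_sum_classInner
      (CharCore.isCharacter_restrict (CharCore.irr_isCharacter r.1) U)) 1
    simp only [Finset.sum_apply, Pi.smul_apply, smul_eq_mul, umult_spec, hlin, OneMemClass.coe_one,
      hdeg, Nat.cast_one, mul_one] at hdec
    have hD : deg r.1 = ∑ θ : Cfsg.IrrCharacter U, umult r.1 θ := by exact_mod_cast hdec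
    rw [← Finset.add_sum_erase _ _ (Finset.mem_univ (oneIrr U)), r.2, zero_add,
      Finset.sum_subtype (p := fun θ => θ ≠ oneIrr U) _ (fun θ => by simp),
      ← Finset.sum_fiberwise_of_maps_to (g := col) (t := V)
        (fun θ _ => Finset.mem_image_of_mem col (Finset.mem_univ θ))] at hD
    rw [hD, Finset.sum_congr rfl (g := fun v => e * v r) fun v hv => by
      rw [Finset.sum_congr rfl fun θ hθ =>
        show umult r.1 θ.1 = v r from congrFun (Finset.mem_filter.1 hθ).2 r,
        Finset.sum_const, smul_eq_mul, hfib v hv], ← Finset.mul_sum]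
    push_cast
    congr 1
    rw [Finset.sum_congr rfl fun v hv => hrep v hv r, Finset.sum_add_distrib, Finset.sum_const,
      nsmul_eq_mul]
    congr 1
    by_cases hr : r ∈ V.image X
    · rw [if_pos hr]
      obtain ⟨v, hv, rfl⟩ := Finset.mem_image.1 hr
      rw [Finset.sum_eq_single v (fun w hw hne => if_neg fun h => hne (hXinj hw hv h.symm))
        (fun h => absurd hv h), if_pos rfl]
    · rw [if_neg hr, Finset.sum_eq_zero]
      intro v hv
      rw [if_neg]
      rintro rfl
      exact hr (Finset.mem_image_of_mem X hv)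
  have hGcard : Nat.card G = (Nat.card U + 1) * (Nat.card U * e) := by
    rw [Zass.card_group hZ hab, ← hq.2, ← hU.card]
  have hrows : ∀ r : R, r ∈ V.image X := by
    intro r
    by_contra hr
    have h1 := hDeg r
    rw [if_neg hr, add_zero] at h1
    have hγ0 : 0 < γ r := by
      have : (0 : ℤ) < deg r.1 := by exact_mod_cast (hdvd r.1).1
      rw [h1, ← mul_assoc] at this
      exact pos_of_mul_pos_right this (by positivity)
    have h2 : deg r.1 = k * e * (γ r).toNat := by
      have h2' : (deg r.1 : ℤ) = ((k * e * (γ r).toNat : ℕ) : ℤ) := by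
        push_cast [Int.toNat_of_nonneg hγ0.le]
        linear_combination h1
      exact_mod_cast h2'
    have h4 : k * e ∣ (Nat.card U + 1) * Nat.card U * e := by
      rw [mul_assoc, ← hGcard]
      exact (Dvd.intro _ h2.symm).trans (hdvd r.1).2
    have h5 := Nat.dvd_of_mul_dvd_mul_right (show 0 < e by omega) h4
    rw [hqk, show (k * e + 1 + 1) * (k * e + 1) = k * (k * e * e + 3 * e) + 2 by ring,
      ← Nat.dvd_add_iff_right (dvd_mul_right k _)] at h5
    have := Nat.le_of_dvd (by norm_num) h5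
    omega
  have hsum : ∑ r, γ r * γ r = (k : ℤ) * (t * t) := by
    rw [show (Finset.univ : Finset R) = V.image X from
      (Finset.eq_univ_iff_forall.2 hrows).symm, Finset.sum_image hXinj,
      Finset.sum_congr rfl fun v hv => by rw [hγX v hv], Finset.sum_const, nsmul_eq_mul]
  obtain ⟨v₀, hv₀⟩ := Finset.card_pos.1 (show 0 < V.card by omega)
  set r₀ := X v₀
  have hr₀ := hDeg r₀
  rw [if_pos (Finset.mem_image_of_mem X hv₀), hγX v₀ hv₀] at hr₀
  have hdiv : e ∣ deg r₀.1 := by
    rw [← Int.natCast_dvd_natCast, hr₀]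
    exact dvd_mul_right _ _
  obtain ⟨P, hP⟩ := hdiv
  have hPval : (P : ℤ) = k * t + ε := by
    rw [hP, Nat.cast_mul] at hr₀
    exact mul_left_cancel₀ (Nat.cast_ne_zero.2 (by omega)) hr₀
  have hPd : P ∣ (Nat.card U + 1) * Nat.card U := by
    have h4 : e * P ∣ e * ((Nat.card U + 1) * Nat.card U) := by
      rw [← hP, show e * ((Nat.card U + 1) * Nat.card U) = Nat.card G by rw [hGcard]; ring]
      exact (hdvd _).2
    exact Nat.dvd_of_mul_dvd_mul_left (by omega) h4
  have := le_two_of_arith (k := k) (c := c) (q := Nat.card U) hε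
    (by rw [← hγ, hsum]; ring) (by omega) hPval (by rw [hqk, hc]) hPd hpp
  omega

end Cfsg.Agent.ZassNormal
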