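import Cfsg.Agent.CharDeep.ZassFrobenius

/-!
Normal subgroups of finite Zassenhaus groups: a non-trivial normal subgroup is again a Zassenhaus
group on the same points and contains all the Frobenius kernels of the point stabilisers.
-/

set_option autoImplicit false

namespace Cfsg.Agent.ZassNormal

open MulAction
open scoped Pointwise
open Cfsg.Agent.CharDeep

section Regular

variable {N Ω : Type*} [Group N] [MulAction N Ω] {M : Subgroup N} [M.Normal]

/-- A point is moved by every non-identity element of a semiregular subgroup. -/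
theorem eq_one_of_fix (hreg : ∀ c : Ω, stabilizer M c = ⊥) {m : N} (hm : m ∈ M) {c : Ω}
    (hc : m • c = c) : m = 1 := by
  have h : (⟨m, hm⟩ : M) ∈ stabilizer M c := hc
  rw [hreg c, Subgroup.mem_bot] at h
  exact congrArg Subtype.val h

theorem eq_of_smul (hreg : ∀ c : Ω, stabilizer M c = ⊥) {m m' : N} (hm : m ∈ M) (hm' : m' ∈ M)
    {c : Ω} (hc : m • c = m' • c) : m = m' := by
  have := eq_one_of_fix hreg (M.mul_mem (M.inv_mem hm') hm) (c := c)
    (by rw [mul_smul, hc, inv_smul_smul])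
  exact (inv_mul_eq_one.1 this).symm

/-- In a two-transitive group the stabiliser conjugates the regular normal subgroup
transitively. -/
theorem conj_transitive (h2 : IsMultiplyPretransitive N Ω 2)
    (hreg : ∀ c : Ω, stabilizer M c = ⊥) (a : Ω) {m m' : N} (hm : m ∈ M) (hm' : m' ∈ M)
    (h1 : m ≠ 1) (h1' : m' ≠ 1) : ∃ g : N, g • a = a ∧ g * m * g⁻¹ = m' := by
  have ha : ∀ k ∈ M, k ≠ 1 → k • a ≠ a := fun k hk hk1 h => hk1 (eq_one_of_fix hreg hk h)
  obtain ⟨g, hga, hgm⟩ := is_two_pretransitive_iff.1 h2 (ha m hm h1).symm (ha m' hm' h1').symm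
  refine ⟨g, hga, eq_of_smul hreg (Subgroup.Normal.conj_mem inferInstance _ hm _) hm' (c := a) ?_⟩
  rw [mul_smul, mul_smul, inv_smul_eq_iff.2 hga.symm, hgm]

/-- A finite regular normal subgroup of a two-transitive group has prime power order. -/
theorem exists_isPGroup [Finite N] (h2 : IsMultiplyPretransitive N Ω 2) [Nonempty Ω]
    (hreg : ∀ c : Ω, stabilizer M c = ⊥) :
    ∃ p : ℕ, p.Prime ∧ IsPGroup p M := by
  obtain ⟨a⟩ := ‹Nonempty Ω›
  by_cases hM : Nat.card M = 1
  · exact ⟨2, Nat.prime_two, IsPGroup.of_card (n := 0) (by rw [hM, pow_zero])⟩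
  obtain ⟨p, hp, hdvd⟩ := Nat.exists_prime_and_dvd hM
  have : Fact p.Prime := ⟨hp⟩
  obtain ⟨x, hx⟩ := exists_prime_orderOf_dvd_card' p hdvd
  refine ⟨p, hp, fun y => ?_⟩
  by_cases hy : (y : N) = 1
  · exact ⟨0, by simpa using Subtype.ext hy⟩
  refine ⟨1, ?_⟩
  have hx1 : (x : N) ≠ 1 := fun h => hp.ne_one (by
    rw [← hx, show x = 1 from Subtype.ext h, orderOf_one])
  obtain ⟨g, -, hg⟩ := conj_transitive h2 hreg a x.2 y.2 hx1 hy
  apply Subtype.ext
  rw [pow_one, Subgroup.coe_pow, OneMemClass.coe_one, ← hg, conj_pow,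
    show (x : N) ^ p = 1 by rw [← Subgroup.coe_pow, ← hx, pow_orderOf_eq_one, OneMemClass.coe_one]]
  group

/-- Two regular normal subgroups of a two-transitive group coincide. -/
theorem regular_unique [Finite N] (h2 : IsMultiplyPretransitive N Ω 2)
    [FaithfulSMul N Ω] [Nontrivial Ω]
    [IsPretransitive M Ω] (hreg : ∀ c : Ω, stabilizer M c = ⊥)
    (M' : Subgroup N) [M'.Normal] [IsPretransitive M' Ω] (hreg' : ∀ c : Ω, stabilizer M' c = ⊥) :
    M' = M := by
  obtain ⟨a⟩ : Nonempty Ω := inferInstance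
  have hne : ∀ (K : Subgroup N) [IsPretransitive K Ω], ∃ k ∈ K, k ≠ 1 := by
    intro K _
    obtain ⟨b, hb⟩ := exists_ne a
    obtain ⟨k, hk⟩ := exists_smul_eq K a b
    refine ⟨k, k.2, fun h => hb ?_⟩
    rw [← hk, Subgroup.smul_def, h, one_smul]
  by_cases hbot : M ⊓ M' = ⊥
  · -- the two commute, and `M'` is the centralizer of `M`
    exfalso
    have hcomm : ∀ m ∈ M, ∀ m' ∈ M', m * m' = m' * m := fun m hm m' hm' =>
      Subgroup.commute_of_normal_of_disjoint M M' inferInstance inferInstance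
        (disjoint_iff.2 hbot) m m' hm hm'
    obtain ⟨p, hp, hP⟩ := exists_isPGroup h2 hreg
    have : Fact p.Prime := ⟨hp⟩
    have : Nontrivial M := by
      obtain ⟨k, hk, hk1⟩ := hne M
      exact ⟨⟨⟨k, hk⟩, 1, fun h => hk1 (congrArg Subtype.val h)⟩⟩
    have hc := hP.center_nontrivial
    obtain ⟨z, hz⟩ := exists_ne (1 : Subgroup.center M)
    obtain ⟨m', hm'⟩ := exists_smul_eq M' a ((z : N) • a)
    -- `z⁻¹ * m'` centralises `M` and fixes `a`
    have key : (z : N)⁻¹ * m' = 1 := by
      refine eq_of_smul_eq_smul fun c : Ω => ?_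
      obtain ⟨m, rfl⟩ := exists_smul_eq M a c
      rw [one_smul, Subgroup.smul_def, ← mul_smul]
      have e : (z : N)⁻¹ * m' * m = m * ((z : N)⁻¹ * m') := by
        have h1 : (m : N) * (z : M) = (z : M) * m :=
          congrArg Subtype.val (Subgroup.mem_center_iff.1 z.2 m)
        rw [mul_assoc, ← hcomm m m.2 m' m'.2, ← mul_assoc, ← mul_assoc]
        congr 1
        rw [inv_mul_eq_iff_eq_mul, ← mul_assoc, ← h1]
        group
      rw [e, mul_smul, mul_smul, show ((m' : M') : N) • a = ((z : M) : N) • a from hm',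
        inv_smul_smul]
    have hzM' : ((z : M) : N) ∈ M' := by
      rw [inv_mul_eq_one.1 key]; exact m'.2
    have : ((z : M) : N) ∈ M ⊓ M' := Subgroup.mem_inf.2 ⟨(z : M).2, hzM'⟩
    rw [hbot, Subgroup.mem_bot] at this
    exact hz (Subtype.ext (Subtype.ext this))
  · rw [Subgroup.eq_bot_iff_forall] at hbot
    push Not at hbot
    obtain ⟨k, ⟨hkM, hkM'⟩, hk1⟩ := hbot
    have hle : M ≤ M' := by
      intro m hm
      by_cases hm1 : m = 1
      · rw [hm1]; exact M'.one_mem
      obtain ⟨g, -, hg⟩ := conj_transitive h2 hreg a hkM hm hk1 hm1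
      rw [← hg]
      exact Subgroup.Normal.conj_mem inferInstance _ hkM' _
    refine (le_antisymm hle fun m' hm' => ?_).symm
    obtain ⟨m, hm⟩ := exists_smul_eq M a (m' • a)
    rw [← eq_of_smul hreg' (hle m.2) hm' hm]
    exact m.2

end Regular

section Zass

variable {G Ω : Type*} [Group G] [MulAction G Ω] (hZ : Cfsg.IsZassenhausGroup G Ω)
  (N : Subgroup G) [N.Normal]

include hZ

theorem nonempty : Nonempty Ω := by
  obtain ⟨-, -, c, -⟩ := hZ.2.2.2.1
  exact ⟨c⟩

theorem nontrivial : Nontrivial Ω := by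
  obtain ⟨-, -, c, d, hcd, -⟩ := hZ.2.2.2.1
  exact ⟨c, d, hcd⟩

/-- A non-trivial normal subgroup is transitive. -/
theorem pretransitive_normal (hN : N ≠ ⊥) : IsPretransitive N Ω := by
  have := isPreprimitive_of_is_two_pretransitive hZ.2.1
  refine IsQuasiPreprimitive.isPretransitive_of_normal fun h => hN ?_
  rw [Subgroup.eq_bot_iff_forall]
  intro n hn
  have := hZ.1
  refine eq_of_smul_eq_smul fun c : Ω => ?_
  have hc : c ∈ fixedPoints N Ω := h ▸ Set.mem_univ c
  rw [one_smul]
  exact hc ⟨n, hn⟩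

/-- A non-trivial normal subgroup has non-trivial point stabilisers. -/
theorem stabilizer_nontrivial (hN : N ≠ ⊥) (a : Ω) : ∃ x ∈ N, x • a = a ∧ x ≠ 1 := by
  have hT := pretransitive_normal hZ N hN
  obtain ⟨c, hc⟩ := hZ.2.2.2.2 N inferInstance hT
  rw [ne_eq, Subgroup.eq_bot_iff_forall] at hc
  push Not at hc
  obtain ⟨x, hx, hx1⟩ := hc
  obtain ⟨k, hk⟩ := exists_smul_eq N c a
  refine ⟨k * x * (k : G)⁻¹, N.mul_mem (N.mul_mem k.2 x.2) (N.inv_mem k.2), ?_, ?_⟩
  · have hx' : (x : G) • c = c := hx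
    rw [mul_smul, mul_smul, inv_smul_eq_iff.2 (show a = (k : G) • c from hk.symm), hx']
    exact hk
  · intro h
    exact hx1 (Subtype.ext (conj_eq_one_iff.1 h))

variable [Finite G] [Finite Ω]

/-- A non-trivial normal subgroup contains an element fixing exactly two given points. -/
theorem exists_two (hN : N ≠ ⊥) {a b : Ω} (hab : a ≠ b) :
    ∃ x ∈ N, x ∈ Zass.two G a b ∧ x ≠ 1 := by
  by_contra hcon
  push Not at hcon
  -- then every element of `N` fixing two points is trivial
  have h0 : ∀ x ∈ N, ∀ c d : Ω, c ≠ d → x • c = c → x • d = d → x = 1 := by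
    intro x hx c d hcd hc hd
    obtain ⟨g, rfl, rfl⟩ := Zass.exists_pair hZ hab hcd
    have h := hcon (g⁻¹ * x * g) (Subgroup.Normal.conj_mem' inferInstance x hx g)
      ((Zass.conj_mem_two (g := g)).1 (by simpa [mul_assoc] using
        (show x ∈ Zass.two G (g • a) (g • b) from ⟨hc, hd⟩)))
    exact conj_eq_one_iff.1 (by simpa using h : g⁻¹ * x * g⁻¹⁻¹ = 1)
  have hT := pretransitive_normal hZ N hN
  obtain ⟨x, hxN, hxa, hx1⟩ := stabilizer_nontrivial hZ N hN a
  have hA : Cfsg.IsFrobeniusComplement (stabilizer N a) := by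
    refine ⟨fun h => ?_, fun h => ?_, fun g hg => ?_⟩
    · have : (⟨x, hxN⟩ : N) ∈ stabilizer N a := hxa
      rw [h, Subgroup.mem_bot] at this
      exact hx1 (congrArg Subtype.val this)
    · obtain ⟨k, hk⟩ := exists_smul_eq N a b
      have : k ∈ stabilizer N a := by rw [h]; exact Subgroup.mem_top _
      exact hab ((this : k • a = a).symm.trans hk)
    · rw [Subgroup.eq_bot_iff_forall]
      intro y hy
      obtain ⟨hy1, hy2⟩ := hy
      replace hy2 : y ∈ MulAut.conj g • stabilizer N a := hy2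
      rw [Subgroup.mem_pointwise_smul_iff_inv_smul_mem, MulAut.smul_def,
        MulAut.conj_inv_apply] at hy2
      refine Subtype.ext (h0 y y.2 a (g • a) (fun h => hg h.symm) hy1 ?_)
      have h2 : (g⁻¹ * y * g) • a = a := hy2
      rwa [mul_smul, mul_smul, inv_smul_eq_iff] at h2
  obtain ⟨K, hK, hKn, hKc⟩ := Cfsg.Agent.Frobenius.exists_frobeniusKernel_subgroup hA
  -- `K` consists of the identity and the fixed-point-free elements of `N`
  have hKmem : ∀ k : N, k ∈ K ↔ (k = 1 ∨ ∀ c : Ω, k • c ≠ c) := by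
    intro k
    rw [← SetLike.mem_coe, hK]
    refine or_congr_right ⟨fun h c hc => ?_, fun h g hg => ?_⟩
    · obtain ⟨g, rfl⟩ := exists_smul_eq N a c
      apply h g
      rw [Subgroup.mem_pointwise_smul_iff_inv_smul_mem, MulAut.smul_def, MulAut.conj_inv_apply,
        mem_stabilizer_iff, mul_smul, mul_smul, hc, inv_smul_smul]
    · rw [Subgroup.mem_pointwise_smul_iff_inv_smul_mem, MulAut.smul_def, MulAut.conj_inv_apply,
        mem_stabilizer_iff, mul_smul, mul_smul, inv_smul_eq_iff] at hg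
      exact h _ hg
  set K' := K.map N.subtype with hK'
  have hK'n : K'.Normal := by
    refine ⟨fun k hk' g => ?_⟩
    obtain ⟨k, hk, rfl⟩ := Subgroup.mem_map.1 hk'
    refine Subgroup.mem_map.2 ⟨⟨g * k * g⁻¹, Subgroup.Normal.conj_mem inferInstance _ k.2 g⟩,
      ?_, rfl⟩
    rw [hKmem] at hk ⊢
    rcases hk with rfl | hk
    · left; ext; simp
    · right
      intro c hc
      apply hk (g⁻¹ • c)
      have hc' : (g * (k : G) * g⁻¹) • c = c := hc
      rw [mul_smul, mul_smul] at hc'
      exact eq_inv_smul_iff.2 hc'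
  have hK't : IsPretransitive K' Ω := by
    refine ⟨fun c d => ?_⟩
    -- every element of `N` is a product of an element of `K` and one fixing `c`
    obtain ⟨g, hg⟩ := exists_smul_eq N a c
    obtain ⟨g', hg'⟩ := exists_smul_eq N a d
    obtain ⟨⟨⟨k, hk⟩, ⟨s, hs⟩⟩, hks⟩ := hKc.2 (g⁻¹ * g')
    have hks' : k * s = g⁻¹ * g' := hks
    refine ⟨⟨((g * k * g⁻¹ : N) : G), Subgroup.mem_map.2
      ⟨g * k * g⁻¹, hKn.conj_mem k hk g, rfl⟩⟩, ?_⟩
    change (g * k * g⁻¹) • c = d
    have hs' : s • a = a := hs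
    rw [← hg, mul_smul, mul_smul, inv_smul_smul, ← hg', show g' = g * (k * s) by rw [hks']; group,
      mul_smul, mul_smul, hs']
  obtain ⟨c, hc⟩ := hZ.2.2.2.2 K' hK'n hK't
  apply hc
  rw [Subgroup.eq_bot_iff_forall]
  intro k hk
  obtain ⟨k', hk', hkk⟩ := Subgroup.mem_map.1 k.2
  apply Subtype.ext
  rw [← hkk]
  rcases (hKmem k').1 hk' with h | h
  · simp [h]
  · exact absurd (show k' • c = c by
      have : (k : G) • c = c := hk
      rw [← hkk] at this; exact this) (h c)

/-- A non-trivial normal subgroup contains all the Frobenius kernels. -/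
theorem kernel_le (hN : N ≠ ⊥) [Fintype Ω] {a : Ω} {H : Subgroup G} (hH : Zass.IsKernel a H) :
    H ≤ N := by
  classical
  have := Fintype.ofFinite G
  have := nontrivial hZ
  obtain ⟨b, hb⟩ := exists_ne a
  obtain ⟨x, hxN, hx, hx1⟩ := exists_two hZ N hN hb.symm
  let f : H → H := fun u => ⟨u * x * (u : G)⁻¹ * x⁻¹, by
    have h1 := Zass.kernel_normal hZ hH (g := x) hx.1 (H.inv_mem u.2)
    have := H.mul_mem u.2 h1
    simpa [mul_assoc] using this⟩
  have hf : Function.Injective f := by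
    intro u v huv
    have h1 : (u : G) * x * (u : G)⁻¹ * x⁻¹ = v * x * (v : G)⁻¹ * x⁻¹ := congrArg Subtype.val huv
    have h2 : x * ((u : G)⁻¹ * v) * x⁻¹ = (u : G)⁻¹ * v := by
      have h3 : x * (u : G)⁻¹ * (v : G) = (u : G)⁻¹ * v * x := by
        have := congrArg (fun z => (u : G)⁻¹ * z * x * (v : G)) h1
        simpa [mul_assoc] using this
      calc x * ((u : G)⁻¹ * v) * x⁻¹ = x * (u : G)⁻¹ * v * x⁻¹ := by group
        _ = (u : G)⁻¹ * v := by rw [h3]; group
    have h4 := Zass.kernel_fpf hZ hb.symm hH hx hx1 (H.mul_mem (H.inv_mem u.2) v.2) h2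
    exact Subtype.ext (inv_mul_eq_one.1 h4)
  intro h hh
  obtain ⟨u, hu⟩ := (Finite.injective_iff_surjective.1 hf) ⟨h, hh⟩
  have h1 : (u : G) * x * (u : G)⁻¹ * x⁻¹ = h := congrArg Subtype.val hu
  rw [← h1]
  exact N.mul_mem (Subgroup.Normal.conj_mem inferInstance _ hxN _) (N.inv_mem hxN)

/-- A non-trivial normal subgroup is two-transitive. -/
theorem two_pretransitive_normal (hN : N ≠ ⊥) : IsMultiplyPretransitive N Ω 2 := by
  classical
  have := Fintype.ofFinite G
  have := Fintype.ofFinite Ω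
  have hT := pretransitive_normal hZ N hN
  rw [is_two_pretransitive_iff]
  intro a b c d hab hcd
  obtain ⟨k, hk⟩ := exists_smul_eq N a c
  obtain ⟨H, hH⟩ := Zass.exists_kernel hZ hcd
  have hkb : (k : G) • b ≠ c := fun h => hab
    (MulAction.injective (k : G) (show (k : G) • a = (k : G) • b by
      rw [h]; exact hk))
  obtain ⟨u, hu, hud⟩ := Zass.kernel_regular hZ hkb.symm hH (Ne.symm hcd)
  refine ⟨⟨u, kernel_le hZ N hN hH hu⟩ * k, ?_, ?_⟩
  · rw [mul_smul, hk]
    exact hH.le hu
  · rw [mul_smul]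
    exact hud

/-- **A non-trivial normal subgroup of a Zassenhaus group is a Zassenhaus group.** -/
theorem isZassenhaus_normal (hN : N ≠ ⊥) : Cfsg.IsZassenhausGroup N Ω := by
  have := hZ.1
  refine ⟨inferInstance, two_pretransitive_normal hZ N hN, fun g a b c hab hbc hac ha hb hc =>
    Subtype.ext (hZ.2.2.1 g a b c hab hbc hac ha hb hc), ?_, ?_⟩
  · obtain ⟨-, -, a, b, hab, -⟩ := hZ.2.2.2.1
    obtain ⟨x, hxN, hx, hx1⟩ := exists_two hZ N hN hab
    exact ⟨⟨x, hxN⟩, fun h => hx1 (congrArg Subtype.val h), a, b, hab, hx.1, hx.2⟩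
  · intro M hM hMt
    by_contra hcon
    push Not at hcon
    have := nontrivial hZ
    have h2 := two_pretransitive_normal hZ N hN
    set M' := M.map N.subtype with hM'
    have hconj : ∀ g : G, M.comap (MulEquiv.toMonoidHom
        (MulAut.conjNormal (H := N) g)) = M := by
      intro g
      set e : N ≃* N := MulAut.conjNormal g with he
      have hn : (M.comap e.toMonoidHom).Normal := Subgroup.Normal.comap hM _
      have ht : IsPretransitive (M.comap e.toMonoidHom) Ω := by
        refine ⟨fun c d => ?_⟩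
        obtain ⟨m, hm⟩ := exists_smul_eq M (g • c) (g • d)
        refine ⟨⟨e.symm m, by simp [Subgroup.mem_comap]⟩, ?_⟩
        change ((e.symm (m : N) : N) : G) • c = d
        have hes : ((e.symm (m : N) : N) : G) = g⁻¹ * (m : N) * g := by
          rw [he, MulAut.conjNormal_symm_apply]
        rw [hes, mul_smul, mul_smul, show ((m : N) : G) • g • c = g • d from hm, inv_smul_smul]
      refine regular_unique (M := M) h2 hcon _ ?_
      intro c
      rw [Subgroup.eq_bot_iff_forall]
      intro m hm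
      have hm' : e (m : N) ∈ M := m.2
      have h1 := eq_one_of_fix hcon hm' (c := g • c) (by
        change ((e (m : N) : N) : G) • g • c = g • c
        rw [show ((e (m : N) : N) : G) = g * ((m : N) : G) * g⁻¹ from MulAut.conjNormal_apply g _,
          mul_smul, mul_smul, inv_smul_smul]
        exact congrArg (g • ·) hm)
      exact Subtype.ext (e.injective (h1.trans (map_one e).symm))
    have hM'n : M'.Normal := by
      refine ⟨fun k hk' g => ?_⟩
      obtain ⟨k, hk, rfl⟩ := Subgroup.mem_map.1 hk'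
      refine Subgroup.mem_map.2 ⟨MulAut.conjNormal g k, ?_, MulAut.conjNormal_apply g k⟩
      rw [← hconj g] at hk
      exact hk
    have hM't : IsPretransitive M' Ω := by
      refine ⟨fun c d => ?_⟩
      obtain ⟨m, hm⟩ := exists_smul_eq M c d
      exact ⟨⟨_, Subgroup.mem_map.2 ⟨m, m.2, rfl⟩⟩, hm⟩
    obtain ⟨c, hc⟩ := hZ.2.2.2.2 M' hM'n hM't
    apply hc
    rw [Subgroup.eq_bot_iff_forall]
    intro k hk
    obtain ⟨k', hk', hkk⟩ := Subgroup.mem_map.1 k.2
    apply Subtype.ext
    rw [← hkk, eq_one_of_fix hcon hk' (c := c) (by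
      change (k' : G) • c = c
      have : (k : G) • c = c := hk
      rw [← hkk] at this; exact this)]
    simp

end Zass

end Cfsg.Agent.ZassNormal
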