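import Cfsg.Agent.Lib.Zassenhaus.GramCoherence

/-!
Natural vectors of squared length `c + 1` having inner product at least `c` with a fixed vector of
signs vanishing wherever the vector and its mirror image differ.
-/

set_option autoImplicit false

namespace Cfsg.Agent.ZassNormal.Gram

variable {R : Type*} [Fintype R] [DecidableEq R]

/-- The shape of a pair of mirror vectors. -/
theorem mirror_shape {v v' : R → ℕ} {ν : R → ℤ} {c : ℕ} (hν : ∀ r, ν r ≤ 1)
    (hdiff : ∀ r, v r ≠ v' r → ν r = 0) (h : ∑ r, v r * v r = 1 + c)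
    (h' : ∑ r, v' r * v' r = 1 + c) (hvv : ∑ r, v r * v' r = c)
    (hνv : (c : ℤ) ≤ ∑ r, ν r * v r) :
    ∃ (X X' : R) (S : Finset R), X ≠ X' ∧ X ∉ S ∧ X' ∉ S ∧ ν X = 0 ∧ ν X' = 0 ∧
      S.card = c ∧ (∀ r ∈ S, ν r = 1) ∧
      (∀ r, v r = if r ∈ insert X S then 1 else 0) ∧
      ∀ r, v' r = if r ∈ insert X' S then 1 else 0 := by
  obtain ⟨X, X', e1, e2, e0, e3⟩ := diff_two h h' hvv
  have hX : ν X = 0 := hdiff X (by omega)
  have hX' : ν X' = 0 := hdiff X' (by omega)
  set O := (Finset.univ.erase X).erase X' with hO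
  have hsum : ∀ (α : Type) [AddCommMonoid α] (f : R → α),
      ∑ r, f r = f X + (f X' + ∑ r ∈ O, f r) := fun α _ f => by
    rw [hO, Finset.add_sum_erase _ f (Finset.mem_erase.2 ⟨e0.symm, Finset.mem_univ X'⟩),
      Finset.add_sum_erase _ f (Finset.mem_univ X)]
  rw [hsum ℕ] at h
  rw [hsum ℤ, hX, hX', zero_mul, zero_mul, zero_add, zero_add] at hνv
  have hpt : ∀ r ∈ O, ν r * (v r : ℤ) ≤ ((v r * v r : ℕ) : ℤ) := fun r _ => by
    push_cast
    rcases Nat.eq_zero_or_pos (v r) with h0 | h0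
    · simp [h0]
    · exact mul_le_mul_of_nonneg_right ((hν r).trans (by exact_mod_cast h0)) (by positivity)
  have hle := hνv.trans (Finset.sum_le_sum hpt)
  rw [← Nat.cast_sum] at hle
  have hle' : c ≤ ∑ r ∈ O, v r * v r := by exact_mod_cast hle
  have hX1 : 1 ≤ v X := by omega
  have hXX : v X ≤ v X * v X := Nat.le_mul_self _
  have hX'X : v X' ≤ v X' * v X' := Nat.le_mul_self _
  have hvX : v X = 1 := by omega
  have hvX' : v X' = 0 := by omega
  have hOsum : ∑ r ∈ O, v r * v r = c := by omega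
  have heq := (Finset.sum_eq_sum_iff_of_le hpt).1
    (le_antisymm (Finset.sum_le_sum hpt) (by rw [← Nat.cast_sum, hOsum]; exact hνv))
  have hpr : ∀ r ∈ O, v r = 0 ∨ (v r = 1 ∧ ν r = 1) := fun r hr => by
    rcases Nat.eq_zero_or_pos (v r) with h0 | h0
    · exact Or.inl h0
    · right
      have h1 := heq r hr
      push_cast at h1
      have h2 : ν r = (v r : ℤ) := mul_right_cancel₀ (by omega) h1
      have := hν r
      omega
  refine ⟨X, X', O.filter fun r => v r = 1, e0, by simp [hO], by simp [hO], hX, hX', ?_,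
    fun r hr => ?_, fun r => ?_, fun r => ?_⟩
  · rw [← hOsum, Finset.card_filter]
    refine Finset.sum_congr rfl fun r hr => ?_
    rcases hpr r hr with h0 | ⟨h0, -⟩ <;> simp [h0]
  · obtain ⟨hr, hr1⟩ := Finset.mem_filter.1 hr
    rcases hpr r hr with h0 | ⟨-, h0⟩
    · omega
    · exact h0
  · by_cases hr : r = X
    · simp [hr, hvX]
    by_cases hr' : r = X'
    · subst hr'; simp [hvX', hO, hr]
    rcases hpr r (by simp [hO, hr, hr']) with h0 | ⟨h0, -⟩ <;> simp [hO, hr, hr', h0]
  · by_cases hr : r = X'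
    · simp [hr]; omega
    by_cases hr' : r = X
    · subst hr'; simp [hO, hr]; omega
    rw [← e3 r hr' hr]
    rcases hpr r (by simp [hO, hr, hr']) with h0 | ⟨h0, -⟩ <;> simp [hO, hr, hr', h0]

/-- All such pairs have the same common part. -/
theorem mirror_common {v v' u : R → ℕ} {ν : R → ℤ} {c : ℕ} {X X' Z : R} {S T : Finset R}
    (hS : S.card = c) (hT : T.card = c) (hXS : X ∉ S) (hX'S : X' ∉ S) (hZT : Z ∉ T)
    (hX : ν X = 0) (hX' : ν X' = 0) (hZ : ν Z = 0) (hXX : X ≠ X') (hS1 : ∀ r ∈ S, ν r = 1)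
    (hT1 : ∀ r ∈ T, ν r = 1) (hv : ∀ r, v r = if r ∈ insert X S then 1 else 0)
    (hv' : ∀ r, v' r = if r ∈ insert X' S then 1 else 0)
    (hu : ∀ r, u r = if r ∈ insert Z T then 1 else 0) (h : ∑ r, v r * u r = c)
    (h' : ∑ r, v' r * u r = c) : S = T := by
  have key : ∀ {w : R → ℕ} {Y : R}, Y ∉ S → ν Y = 0 → (∀ r, w r = if r ∈ insert Y S then 1 else 0) →
      ∑ r, w r * u r = (if Y = Z then 1 else 0) + (S ∩ T).card := by
    intro w Y hYS hY hw
    simp only [hw, hu, ite_mul, one_mul, zero_mul]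
    rw [Finset.sum_ite_mem, Finset.univ_inter, Finset.sum_insert hYS, Finset.sum_ite_mem,
      Finset.sum_const, smul_eq_mul, mul_one]
    congr 1
    · by_cases hYZ : Y = Z
      · simp [hYZ]
      · rw [if_neg hYZ, if_neg]
        simp only [Finset.mem_insert, hYZ, false_or]
        exact fun hYT => by have := hT1 Y hYT; omega
    · congr 1
      ext r
      simp only [Finset.mem_inter, Finset.mem_insert]
      refine ⟨fun hr => ⟨hr.1, hr.2.resolve_left ?_⟩, fun hr => ⟨hr.1, Or.inr hr.2⟩⟩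
      rintro rfl
      have := hS1 r hr.1
      omega
  rw [key hXS hX hv] at h
  rw [key hX'S hX' hv'] at h'
  have hint : (S ∩ T).card = c := by
    by_cases hXZ : X = Z
    · rw [if_neg (fun h0 : X' = Z => hXX (hXZ.trans h0.symm))] at h'
      omega
    · rw [if_neg hXZ] at h
      omega
  exact (Finset.eq_of_subset_of_card_le Finset.inter_subset_left (by omega)).symm.trans
    (Finset.eq_of_subset_of_card_le Finset.inter_subset_right (by omega))

/-- A further vector of square length `1 + c d²` having inner products `c d` with both mirror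
vectors is at least `d / 4` on the common part. -/
theorem four_mul_ge {v v' w : R → ℕ} {c d : ℕ} {X X' : R} {S : Finset R} (hXX : X ≠ X')
    (hXS : X ∉ S) (hX'S : X' ∉ S) (hcard : S.card = c)
    (hv : ∀ r, v r = if r ∈ insert X S then 1 else 0)
    (hv' : ∀ r, v' r = if r ∈ insert X' S then 1 else 0)
    (h : ∑ r, v r * w r = c * d) (h' : ∑ r, v' r * w r = c * d)
    (hw : ∑ r, w r * w r = 1 + c * d * d) (hd : 3 ≤ d) {Y : R} (hY : Y ∈ S) :
    d ≤ 4 * w Y := by
  simp only [hv, hv', ite_mul, one_mul, zero_mul] at h h'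
  rw [Finset.sum_ite_mem, Finset.univ_inter, Finset.sum_insert hXS] at h
  rw [Finset.sum_ite_mem, Finset.univ_inter, Finset.sum_insert hX'S] at h'
  set O := insert X (insert X' S)
  have hsub : ∑ r ∈ O, w r * w r ≤ 1 + c * d * d :=
    hw ▸ Finset.sum_le_sum_of_subset (Finset.subset_univ O)
  rw [Finset.sum_insert (by simp [hXX, hXS]), Finset.sum_insert hX'S] at hsub
  have hss : w X = w X' := by omega
  zify at h hsub hcard
  have hdev : ∑ r ∈ S, ((d : ℤ) - w r) ^ 2 ≤ 1 + 2 * d * w X - 2 * w X * w X := by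
    have hexp : ∑ r ∈ S, ((d : ℤ) - w r) ^ 2 = (S.card : ℤ) * ((d : ℤ) * d)
        - 2 * d * ∑ r ∈ S, (w r : ℤ) + ∑ r ∈ S, (w r : ℤ) * w r := by
      rw [Finset.mul_sum, ← nsmul_eq_mul, ← Finset.sum_const, ← Finset.sum_sub_distrib,
        ← Finset.sum_add_distrib]
      exact Finset.sum_congr rfl fun r _ => by ring
    rw [hexp, hcard]
    rw [← hss] at hsub
    nlinarith
  have hone := (Finset.single_le_sum (f := fun r => ((d : ℤ) - w r) ^ 2)
    (fun r _ => sq_nonneg _) hY).trans hdev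
  by_contra hlt
  push Not at hlt
  zify at hlt hd
  nlinarith [sq_nonneg ((d : ℤ) - 2 * w X)]

end Cfsg.Agent.ZassNormal.Gram
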