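import Cfsg.Agent.Lib.Zassenhaus.OddKernelTools
import Cfsg.Agent.Lib.Zassenhaus.GramReal
import Cfsg.Agent.Lib.Zassenhaus.KernelPrimePow
import Cfsg.Agent.S0158

/-!
A kernel of odd order in a simple Zassenhaus group with two-point stabilisers of odd order is
abelian (Itô): with `v`, `v'` the multiplicity vectors of a linear character of the kernel and of its
conjugate, the Frobenius-Schur indicators force `v` and `v'` to be a unit vector plus a common sum
of `c` unit vectors; the class multiplication coefficient of two involutions and an element of the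
kernel then forces a cuspidal character of degree one.
-/

set_option autoImplicit false

namespace Cfsg.Agent.ZassNormal

open MulAction
open Cfsg.Agent.CharDeep
open scoped ComplexConjugate

variable {G Ω : Type*} [Group G] [Fintype G] [DecidableEq G] [MulAction G Ω] [Fintype Ω]
  [DecidableEq Ω] (hZ : Cfsg.IsZassenhausGroup G Ω) {a b : Ω} (hab : a ≠ b) {U : Subgroup G}
  (hU : Zass.IsKernel a U) [IsSimpleGroup G] (hodd : Odd (Nat.card ↥(Zass.two G a b)))
  (hUodd : Odd (Nat.card U))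

include hZ hab hU hodd hUodd

/-- **A kernel of odd order is commutative.** -/
theorem comm_of_odd_kernel : ∀ u v : U, u * v = v * u := by
  classical
  by_contra hna
  have := Fintype.ofFinite U
  have := Fintype.ofFinite (Zass.two G a b)
  have h3 := Zass.three_le_card hZ hab
  have hq := card_U_pos hZ hab hU
  have he := Zass.two_card_gt_one hZ hab
  have hn : Even (Fintype.card Ω) := by
    rw [← hU.card]; exact hUodd.add_one
  obtain ⟨c, hc⟩ : ∃ c, Nat.card ↥(Zass.two G a b) = 2 * c + 1 := id hodd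
  obtain ⟨p, n, hp, -, hpn⟩ := (isPrimePow_def _).1 (isPrimePow_kernel hZ hab hU hodd)
  have hp' : p.Prime := Nat.prime_iff.2 hp
  set e := Nat.card ↥(Zass.two G a b) with he'
  -- orders
  set m := (commutator U).index with hm
  have hmW : Nat.card ↥(commutator U) * m = Nat.card U := (commutator U).card_mul_index
  have hcom1 : commutator U ≠ ⊥ := by
    intro h
    refine hna fun u v => ?_
    have h' := (commutator_eq_bot_iff_center_eq_top U).1 h
    exact (Subgroup.mem_center_iff.1 (show v ∈ Subgroup.center U by rw [h']; trivial) u)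
  have hW2 : 2 * e + 1 ≤ Nat.card ↥(commutator U) := by
    have hd := dvd_card_char_sub_one hZ hab hU (commutator U) inferInstance
    rw [← he'] at hd
    have h1 := (Subgroup.one_lt_card_iff_ne_bot _).2 hcom1
    obtain ⟨j, hj⟩ := hd
    have hWodd : Odd (Nat.card ↥(commutator U)) :=
      (Nat.odd_mul.1 (show Odd (Nat.card ↥(commutator U) * m) by rw [hmW]; exact hUodd)).1
    obtain ⟨i, hi⟩ := hWodd
    rcases j with _ | _ | j
    · omega
    · omega
    · have : e * 2 ≤ e * (j + 1 + 1) := Nat.mul_le_mul_left _ (by omega)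
      omega
  have hm1 : 1 < m := by
    have hnil := kernel_isNilpotent hZ hab hU
    have h0 : m ≠ 0 := fun h => by rw [h, mul_zero] at hmW; omega
    by_contra hle
    have htop : commutator U = ⊤ := Subgroup.index_eq_one.1 (show m = 1 by omega)
    have : Nontrivial U := Finite.one_lt_card_iff_nontrivial.1 (by omega)
    have hlt := Group.IsSolvable.commutator_lt_top_of_nontrivial U
    exact hlt.ne htop
  have hm2 : 2 * e + 1 ≤ m := by
    have hd := two_dvd_card_kernel_sub_one hZ hab hU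
    have hdW := dvd_card_char_sub_one hZ hab hU (commutator U) inferInstance
    rw [← he'] at hd hdW
    have hq1 : Nat.card U - 1 = Fintype.card Ω - 2 := by omega
    rw [← hq1, ← Nat.modEq_iff_dvd' (by omega)] at hd
    rw [← Nat.modEq_iff_dvd' Nat.card_pos] at hdW
    have hme : 1 ≡ m [MOD e] := by
      have h : 1 * m ≡ Nat.card ↥(commutator U) * m [MOD e] := hdW.mul_right m
      rw [one_mul, hmW] at h
      exact hd.trans h.symm
    obtain ⟨j, hj⟩ := (Nat.modEq_iff_dvd' (by omega : 1 ≤ m)).1 hme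
    have hmodd : Odd m :=
      (Nat.odd_mul.1 (show Odd (Nat.card ↥(commutator U) * m) by rw [hmW]; exact hUodd)).2
    obtain ⟨i, hi⟩ := hmodd
    rcases j with _ | _ | j
    · omega
    · omega
    · have : e * 2 ≤ e * (j + 1 + 1) := Nat.mul_le_mul_left _ (by omega)
      omega
  have hbig : (2 * e + 1) * (2 * e + 1) ≤ Nat.card U := hmW ▸ Nat.mul_le_mul hW2 hm2
  -- an involution
  obtain ⟨t, ht⟩ := Zass.invSwap_nonempty hZ hab hodd
  have htI := (Zass.mem_invSwap.1 ht).1
  have htfix := Zass.not_fix_of_even hZ hab hodd hn htI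
  have ht2 := (Zass.mem_invs.1 htI).2
  have htconj : ∀ {g : G}, IsConj t g → ∀ x : Ω, g • x ≠ x := by
    intro g hg
    obtain ⟨k, rfl⟩ := isConj_iff.1 hg
    exact Zass.not_fix_of_even hZ hab hodd hn (Zass.conj_mem_invs k htI)
  have hUt : ∀ u : U, ¬ IsConj t (u : G) := fun u h =>
    htconj h a (mem_stabilizer_iff.1 (hU.le u.2))
  have hclass : Nat.card {x : G // IsConj t x} = e * Nat.card U := by
    have h := Zass.card_invs hZ hab hodd
    rw [if_neg (Nat.not_odd_iff_even.2 hn), ← hq.2, ← he'] at h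
    rw [← h, Nat.card_eq_fintype_card, Fintype.card_subtype]
    congr 1
    ext x
    simp only [Finset.mem_filter, Finset.mem_univ, true_and]
    refine ⟨fun hx => ?_, fun hx => Zass.invs_conj hZ hab hodd htI hx⟩
    obtain ⟨k, rfl⟩ := isConj_iff.1 hx
    exact Zass.conj_mem_invs k htI
  choose τ hτ using fun χ : Cfsg.IrrCharacter G => exists_int_invol χ ht2
  have hconj_t : ∀ χ : Cfsg.IrrCharacter G, conj ((χ : G → ℂ) t) = (χ : G → ℂ) t := fun χ => by
    rw [hτ, ← Complex.ofReal_intCast, Complex.conj_ofReal]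
  choose deg hdeg using fun χ : Cfsg.IrrCharacter G =>
    CharCore.IsCharacter.exists_degree (CharCore.irr_isCharacter χ)
  have hdeg0 : ∀ χ, (deg χ : ℂ) ≠ 0 := fun χ => by
    rw [← hdeg]; exact CharCore.irr_apply_one_ne_zero χ
  have hU0 : (Nat.card U : ℂ) ≠ 0 := Nat.cast_ne_zero.2 Nat.card_pos.ne'
  -- the three column sums on the kernel
  have hcol1 : ∀ u : U, ∑ χ : Cfsg.IrrCharacter G, (χ : G → ℂ) t * (χ : G → ℂ) u = 0 := by
    intro u
    have h := sum_irr_mul_conj t (u : G)
    rw [BlocksCore.classInd_apply_of_not_isConj (hUt u), mul_zero, mul_eq_zero,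
      or_iff_right (class_card_ne_zero _)] at h
    have h' := congrArg conj h
    simp only [map_sum, map_mul, Complex.conj_conj, hconj_t, map_zero] at h'
    exact h'
  have hnorm : ∑ χ : Cfsg.IrrCharacter G, (χ : G → ℂ) t * (χ : G → ℂ) t
      = (Fintype.card Ω : ℂ) := by
    have h := sum_irr_mul_conj t t
    rw [BlocksCore.classInd_apply_of_isConj (IsConj.refl t), hclass, Zass.card_group hZ hab,
      ← hq.2, ← he'] at h
    simp only [hconj_t] at h
    push_cast at h
    refine mul_left_cancel₀ (mul_ne_zero (Nat.cast_ne_zero.2 (by omega : e ≠ 0)) hU0) ?_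
    rw [h]; ring
  have hcol2 : ∀ u : U, ∑ χ : Cfsg.IrrCharacter G,
      (χ : G → ℂ) t * (χ : G → ℂ) t / (χ : G → ℂ) 1 * (χ : G → ℂ) u
        = if u = 1 then (Fintype.card Ω : ℂ) else 0 := by
    intro u
    by_cases hu : u = 1
    · subst hu
      rw [if_pos rfl, ← hnorm]
      refine Finset.sum_congr rfl fun χ _ => ?_
      rw [OneMemClass.coe_one, div_mul_cancel₀ _ (CharCore.irr_apply_one_ne_zero χ)]
    rw [if_neg hu]
    have h := classFun_eq_sum (BlocksCore.isClassFunction_conv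
      (BlocksCore.isClassFunction_classInd t) (BlocksCore.isClassFunction_classInd t)) (u : G)
    rw [conv_classInd_apply] at h
    simp only [sum_conv_mul] at h
    have h0 : IsEmpty {p : G × G // IsConj t p.1 ∧ IsConj t p.2 ∧ p.1 * p.2 = u} := by
      refine ⟨fun ⟨⟨x, y⟩, hx, hy, hxy⟩ => ?_⟩
      simp only at hx hy hxy
      have hx2 : x * x = 1 := by
        obtain ⟨k, rfl⟩ := isConj_iff.1 hx
        exact (Zass.mem_invs.1 (Zass.conj_mem_invs k htI)).2
      have hy2 : y * y = 1 := by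
        obtain ⟨k, rfl⟩ := isConj_iff.1 hy
        exact (Zass.mem_invs.1 (Zass.conj_mem_invs k htI)).2
      -- `x` inverts `u`, so it permutes the fixed points of `u`
      have hy' : y = x * u := by rw [← hxy, ← mul_assoc, hx2, one_mul]
      have hua : (u : G) • a = a := mem_stabilizer_iff.1 (hU.le u.2)
      have hinv : (u : G) * x = x * (u : G)⁻¹ := by
        rw [hy'] at hy2
        calc (u : G) * x = (x * x) * ((u : G) * x) * ((u : G) * (u : G)⁻¹) := by
              rw [hx2, one_mul, mul_inv_cancel, mul_one]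
          _ = x * ((x * u) * (x * u)) * (u : G)⁻¹ := by group
          _ = x * (u : G)⁻¹ := by rw [hy2, mul_one]
      refine htconj hx a (hU.fix (u : G) u.2 (fun h1 => hu (Subtype.ext h1)) _ ?_)
      rw [← mul_smul, hinv, mul_smul, inv_smul_eq_iff.2 hua.symm]
    rw [Nat.card_of_isEmpty, Nat.cast_zero, Finset.sum_congr rfl
      (g := fun χ : Cfsg.IrrCharacter G => ((Nat.card G : ℂ)⁻¹ *
        ((Nat.card {x : G // IsConj t x} : ℂ) * (Nat.card {x : G // IsConj t x} : ℂ))) *
          ((χ : G → ℂ) t * (χ : G → ℂ) t / (χ : G → ℂ) 1 * conj ((χ : G → ℂ) u)))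
      (fun χ _ => by ring), ← Finset.mul_sum, eq_comm, mul_eq_zero, or_iff_right] at h
    · have h' := congrArg conj h
      simp only [map_sum, map_mul, map_div₀, Complex.conj_conj, hconj_t, map_zero] at h'
      rw [← h']
      refine Finset.sum_congr rfl fun χ _ => ?_
      rw [hdeg χ, Complex.conj_natCast]
    · exact mul_ne_zero (inv_ne_zero (Nat.cast_ne_zero.2 Nat.card_pos.ne'))
        (mul_ne_zero (class_card_ne_zero _) (class_card_ne_zero _))
  -- Frobenius-Schur indicators
  have hind : ∀ χ : Cfsg.IrrCharacter G, ∃ ν : ℤ, ν ≤ 1 ∧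
      ∑ g : G, (χ : G → ℂ) (g * g) = (ν : ℂ) * Nat.card G ∧
      ((∃ g, conj ((χ : G → ℂ) g) ≠ (χ : G → ℂ) g) → ν = 0) := by
    intro χ
    obtain ⟨k, ρ, hρ, hk⟩ := χ.2
    have := hρ
    have hne : (Nat.card G : ℂ) ≠ 0 := Nat.cast_ne_zero.2 Nat.card_pos.ne'
    obtain ⟨h, h0⟩ := Cfsg.Agent.S0158.result ρ
    rw [← hk]
    by_cases hnr : ∃ g, (ρ.character g).im ≠ 0
    · have h1 := h0.2 hnr
      rw [inv_mul_eq_iff_eq_mul₀ hne, mul_zero] at h1
      exact ⟨0, zero_le_one, by rw [h1]; simp, fun _ => rfl⟩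
    · have habs : ¬ ∃ g, conj (ρ.character g) ≠ ρ.character g := fun ⟨g, hg⟩ =>
        hnr ⟨g, fun h => hg (Complex.conj_eq_iff_im.2 h)⟩
      rcases h with h | h | h <;> rw [inv_mul_eq_iff_eq_mul₀ hne] at h
      · exact ⟨0, zero_le_one, by rw [h]; simp, fun h1 => absurd h1 habs⟩
      · exact ⟨1, le_rfl, by rw [h]; simp, fun h1 => absurd h1 habs⟩
      · exact ⟨-1, by norm_num, by rw [h]; simp, fun h1 => absurd h1 habs⟩
  choose ν hν1 hνsum hν0 using hind
  have hcol0 : ∀ u : U, ∑ χ : Cfsg.IrrCharacter G, (ν χ : ℂ) * (χ : G → ℂ) u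
      = if u = 1 then ((e * Nat.card U + 1 : ℕ) : ℂ) else 1 := by
    intro u
    let f : G → ℂ := fun g => ((Finset.univ.filter fun x : G => x * x = g).card : ℂ)
    have hf : Cfsg.IsClassFunction G f := fun g k => by
      simp only [f]
      congr 1
      refine Finset.card_equiv (MulAut.conj k⁻¹).toEquiv fun x => ?_
      simp only [Finset.mem_filter, Finset.mem_univ, true_and, MulEquiv.toEquiv_eq_coe,
        EquivLike.coe_coe, MulAut.conj_apply, inv_inv]
      rw [show k⁻¹ * x * k * (k⁻¹ * x * k) = k⁻¹ * (x * x) * k by group]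
      exact ⟨fun h => by rw [h]; group, fun h => by rw [← h]; group⟩
    have h := classFun_eq_sum hf (u : G)
    have hsum : ∀ χ : Cfsg.IrrCharacter G, ∑ x, f x * (χ : G → ℂ) x = (ν χ : ℂ) * Nat.card G := by
      intro χ
      rw [← hνsum, ← Finset.sum_fiberwise Finset.univ (fun x : G => x * x)
        (fun x : G => (χ : G → ℂ) (x * x))]
      refine Finset.sum_congr rfl fun g _ => ?_
      rw [Finset.sum_congr rfl (s₁ := Finset.univ.filter fun x : G => x * x = g)
        (g := fun _ : G => (χ : G → ℂ) g) fun x hx =>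
        congrArg (χ : G → ℂ) (Finset.mem_filter.1 hx).2, Finset.sum_const, nsmul_eq_mul]
    simp only [hsum] at h
    have hGne : (Nat.card G : ℂ) ≠ 0 := Nat.cast_ne_zero.2 Nat.card_pos.ne'
    rw [Finset.sum_congr rfl fun χ _ => by
      rw [← mul_assoc, mul_comm _ (ν χ : ℂ), mul_assoc (ν χ : ℂ), inv_mul_cancel₀ hGne,
        mul_one]] at h
    have h' := congrArg conj h
    simp only [map_sum, map_mul, Complex.conj_conj, map_intCast, f, Complex.conj_natCast] at h'
    rw [← h']
    by_cases hu : u = 1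
    · subst hu
      rw [if_pos rfl, Nat.cast_inj]
      have hI := Zass.card_invs hZ hab hodd
      rw [if_neg (Nat.not_odd_iff_even.2 hn), ← hq.2, ← he'] at hI
      rw [← hI, show (Finset.univ.filter fun x : G => x * x = ((1 : U) : G))
          = insert 1 (Zass.invs G) by
        ext x
        simp only [Finset.mem_filter, Finset.mem_univ, true_and, Finset.mem_insert, Zass.mem_invs,
          OneMemClass.coe_one]
        by_cases hx : x = 1 <;> simp [hx]]
      rw [Finset.card_insert_of_notMem (fun h => (Zass.mem_invs.1 h).1 rfl)]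
    · rw [if_neg hu, Nat.cast_eq_one]
      have hu1 : (u : G) ≠ 1 := fun h => hu (Subtype.ext h)
      have hua : (u : G) • a = a := mem_stabilizer_iff.1 (hU.le u.2)
      have hB : ∀ x : G, x * x = u → x • a = a := fun x hx => hU.fix (u : G) u.2 hu1 _ (by
        rw [← mul_smul, ← hx, mul_assoc, mul_smul, hx, hua])
      -- squaring is bijective on the point stabiliser
      have hcop : (Nat.card ↥(stabilizer G a)).Coprime 2 := by
        rw [Nat.coprime_two_right, Zass.card_stabilizer hZ hab, ← hq.2]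
        exact hUodd.mul hodd
      obtain ⟨⟨x, hxa⟩, hx⟩ := (powCoprime hcop).surjective ⟨u, hU.le u.2⟩
      have hx' : x * x = u := by rw [← pow_two]; exact congrArg Subtype.val hx
      refine Finset.card_eq_one.2 ⟨x, Finset.eq_singleton_iff_unique_mem.2 ⟨by simpa using hx',
        fun y hy => ?_⟩⟩
      simp only [Finset.mem_filter, Finset.mem_univ, true_and] at hy
      have := (powCoprime hcop).injective
        (a₁ := ⟨y, mem_stabilizer_iff.2 (hB y hy)⟩) (a₂ := ⟨x, hxa⟩)
        (Subtype.ext (show y ^ 2 = x ^ 2 by rw [pow_two, pow_two, hy, hx']))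
      exact congrArg Subtype.val this
  -- cuspidal parts of the sums
  choose dg hdg using fun θ : Cfsg.IrrCharacter U =>
    CharCore.IsCharacter.exists_degree (CharCore.irr_isCharacter θ)
  let R := {χ : Cfsg.IrrCharacter G // umult χ (oneIrr U) = 0}
  obtain ⟨z, hz⟩ : ∃ z : U, z ≠ 1 := by
    obtain ⟨u, hu, hu1⟩ := Zass.kernel_ne_bot hZ hU
    exact ⟨⟨u, hu⟩, fun h => hu1 (congrArg Subtype.val h)⟩
  set N := (Finset.univ.filter fun χ : Cfsg.IrrCharacter G => umult χ (oneIrr U) ≠ 0).erase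
    (oneIrr G) with hN
  have hsplit : ∀ (θ : Cfsg.IrrCharacter U), θ ≠ oneIrr U → ∀ α : Cfsg.IrrCharacter G → ℂ,
      ∑ χ, α χ * (umult χ θ : ℂ)
        = ∑ r : R, α r.1 * (umult r.1 θ : ℂ) + (dg θ : ℂ) * ∑ χ ∈ N, α χ := by
    intro θ hθ α
    rw [← Finset.sum_filter_not_add_sum_filter (s := Finset.univ)
      (p := fun χ : Cfsg.IrrCharacter G => umult χ (oneIrr U) ≠ 0)]
    congr 1
    · exact Finset.sum_subtype _ (fun χ => by simp) (fun χ => α χ * (umult χ θ : ℂ))
    · rw [← Finset.add_sum_erase _ _ (show oneIrr G ∈ Finset.univ.filter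
        (fun χ : Cfsg.IrrCharacter G => umult χ (oneIrr U) ≠ 0) by simp [umult_oneIrr]),
        umult_oneIrr, if_neg hθ, Nat.cast_zero, mul_zero, zero_add, ← hN, Finset.mul_sum]
      refine Finset.sum_congr rfl fun χ hχ => ?_
      rw [hN, Finset.mem_erase, Finset.mem_filter] at hχ
      rw [umult_noncusp hZ hab hU hodd χ hχ.1 hχ.2.2 θ hθ (hdg θ), mul_comm]
  have hNmem : ∀ χ ∈ N, χ ≠ oneIrr G ∧ umult χ (oneIrr U) ≠ 0 := fun χ hχ => by
    rw [hN, Finset.mem_erase, Finset.mem_filter] at hχ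
    exact ⟨hχ.1, hχ.2.2⟩
  have hNt : ∀ χ ∈ N, (χ : G → ℂ) t = (χ : G → ℂ) z - 1 := fun χ hχ =>
    noncusp_fpf hZ hab hU hodd χ (hNmem χ hχ).1 (hNmem χ hχ).2 htfix hz
  have hΩU : (Fintype.card Ω : ℂ) = Nat.card U + 1 := by rw [← hU.card]; push_cast; ring
  have hsum1 : ∀ θ : Cfsg.IrrCharacter U, θ ≠ oneIrr U →
      ∑ r : R, (r.1 : G → ℂ) t * (umult r.1 θ : ℂ) = dg θ := by
    intro θ hθ
    have h := hsplit θ hθ fun χ => (χ : G → ℂ) t
    rw [sum_umult θ _ (fun _ => 0) hcol1, Finset.sum_congr rfl hNt,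
      TwoKer.noncusp_sum hZ hab hU hodd hc hz (fun _ y => y - 1),
      classInner_const_off (α := 0) (β := 0) (fun _ : U => (0 : ℂ)) rfl (fun _ _ => rfl) θ hθ (hdg θ)] at h
    simp only [sub_self, zero_mul, zero_div, mul_zero, add_zero, zero_sub, mul_neg, mul_one] at h
    linear_combination -h
  have hsum2 : ∀ θ : Cfsg.IrrCharacter U, θ ≠ oneIrr U →
      ∑ r : R, (r.1 : G → ℂ) t * (r.1 : G → ℂ) t / (r.1 : G → ℂ) 1 * (umult r.1 θ : ℂ) = dg θ := by
    intro θ hθ
    have h := hsplit θ hθ fun χ => (χ : G → ℂ) t * (χ : G → ℂ) t / (χ : G → ℂ) 1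
    rw [sum_umult θ _ _ hcol2, Finset.sum_congr rfl (s₁ := N)
        (g := fun χ : Cfsg.IrrCharacter G =>
          ((χ : G → ℂ) z - 1) * ((χ : G → ℂ) z - 1) / (χ : G → ℂ) 1)
        (fun χ hχ => by rw [hNt χ hχ]),
      TwoKer.noncusp_sum hZ hab hU hodd hc hz (fun x y => (y - 1) * (y - 1) / x),
      classInner_const_off (α := (Fintype.card Ω : ℂ)) (β := 0)
        (fun u : U => if u = 1 then (Fintype.card Ω : ℂ) else 0) (if_pos rfl)
        (fun _ hu => if_neg hu) θ hθ (hdg θ), ← hq.2, hΩU] at h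
    simp only [sub_self, sub_zero, zero_sub, mul_zero, zero_mul, zero_div, add_zero, neg_mul,
      mul_neg, neg_neg, mul_one, one_mul] at h
    have key : ((Nat.card U : ℂ) + 1) * (dg θ : ℂ) / (Nat.card U : ℂ)
        = dg θ + (dg θ : ℂ) * (1 / (Nat.card U : ℂ)) := by field_simp
    linear_combination key - h
  have hsum0 : ∀ θ : Cfsg.IrrCharacter U, θ ≠ oneIrr U →
      ((c * dg θ : ℕ) : ℤ) ≤ ∑ r : R, ν r.1 * (umult r.1 θ : ℤ) := by
    intro θ hθ
    have h := hsplit θ hθ fun χ => (ν χ : ℂ)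
    rw [sum_umult θ _ _ hcol0, classInner_const_off (α := ((e * Nat.card U + 1 : ℕ) : ℂ)) (β := 1)
      (fun u : U => if u = 1 then ((e * Nat.card U + 1 : ℕ) : ℂ) else 1) (if_pos rfl) (fun _ hu => if_neg hu) θ hθ (hdg θ)] at h
    have hNcard : (N.card : ℂ) = c + 1 := by
      have h' := TwoKer.noncusp_sum hZ hab hU hodd hc hz (fun _ _ => (1 : ℂ))
      simp only [Finset.sum_const, nsmul_eq_mul, mul_one] at h'
      rw [hN, h']; ring
    have hNcard' : N.card = c + 1 := by exact_mod_cast hNcard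
    have h' : (e : ℤ) * dg θ
        = ∑ r : R, ν r.1 * (umult r.1 θ : ℤ) + (dg θ : ℤ) * ∑ χ ∈ N, ν χ := by
      have h1 : ((((e : ℤ) * dg θ) : ℤ) : ℂ)
          = ((∑ r : R, ν r.1 * (umult r.1 θ : ℤ) + (dg θ : ℤ) * ∑ χ ∈ N, ν χ : ℤ) : ℂ) := by
        push_cast
        rw [← h]
        field_simp
        push_cast
        ring
      exact_mod_cast h1
    have hle : ∑ χ ∈ N, ν χ ≤ (c + 1 : ℤ) := by
      refine (Finset.sum_le_card_nsmul N ν 1 fun χ _ => hν1 χ).trans ?_
      rw [hNcard']; simp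
    have := mul_le_mul_of_nonneg_left hle (Int.natCast_nonneg (dg θ))
    rw [hc] at h'
    push_cast at h' ⊢
    linarith
  -- the Gram matrix
  let Θ := {θ : Cfsg.IrrCharacter U // θ ≠ oneIrr U}
  let M : R → Θ → ℕ := fun χ θ => umult χ.1 θ.1
  let K : Θ → Θ → ℕ := fun θ θ' =>
    (Finset.univ.filter fun x : Zass.two G a b => tconj hZ hU x θ.1 = θ'.1).card
  let d : Θ → ℕ := fun θ => dg θ.1
  have hgram : ∀ θ θ', ∑ r, M r θ * M r θ' = K θ θ' + c * d θ * d θ' := fun θ θ' =>
    gram_cusp hZ hab hU hodd hc θ.1 θ'.1 θ.2 θ'.2 (hdg θ.1) (hdg θ'.1)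
  have hcomp : ∀ (x y : Zass.two G a b) (θ : Cfsg.IrrCharacter U),
      tconj hZ hU x (tconj hZ hU y θ) = tconj hZ hU (y * x) θ := fun x y θ =>
    Subtype.ext (funext fun u => congrArg (θ : U → ℂ) (Subtype.ext (by
      show (y : G) * ((x : G) * u * (x : G)⁻¹) * (y : G)⁻¹
        = ((y : G) * x) * u * ((y : G) * x)⁻¹
      group)))
  have hone : ∀ θ : Cfsg.IrrCharacter U, tconj hZ hU (1 : Zass.two G a b) θ = θ := fun θ =>
    Subtype.ext (funext fun u => congrArg (θ : U → ℂ) (Subtype.ext (by simp [conjKer])))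
  have hle : ∀ θ θ', K θ θ' ≤ 1 := fun θ θ' => Finset.card_le_one.2 fun x hx y hy => by
    simp only [Finset.mem_filter, Finset.mem_univ, true_and] at hx hy
    have h := tconj_free hZ hab hU θ.2 (x := x * y⁻¹) (by
      rw [← hcomp, hx, ← hy, hcomp, mul_inv_cancel, hone])
    exact mul_inv_eq_one.1 h
  have hself : ∀ θ, K θ θ = 1 := fun θ => le_antisymm (hle θ θ)
    (Finset.card_pos.2 ⟨1, by simp [hone]⟩)
  have hd : ∀ θ θ', K θ θ' = 1 → d θ = d θ' := by
    intro θ θ' h
    obtain ⟨x, hx⟩ := Finset.card_pos.1 (by omega : 0 < K θ θ')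
    simp only [Finset.mem_filter, Finset.mem_univ, true_and] at hx
    have h1 := hdg θ'.1
    rw [← hx, tconj_one, hdg θ.1] at h1
    show dg θ.1 = dg θ'.1
    rw [← hx]
    exact_mod_cast h1
  -- conjugate pairs of linear characters
  have hshape : ∀ θ : Θ, d θ = 1 → ∃ θ' : Θ, d θ' = 1 ∧ K θ θ' = 0 ∧
      ∀ r : R, M r θ ≠ M r θ' → ν r.1 = 0 := by
    intro θ hd1
    let θ' : Cfsg.IrrCharacter U :=
      ⟨fun u => conj ((θ.1 : U → ℂ) u), CharCore.isIrrCharacter_star θ.1.2⟩
    have hθ' : θ' ≠ oneIrr U := fun h => θ.2 (Subtype.ext (funext fun u => by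
      have h' := congrArg conj (congrFun (congrArg Subtype.val h) u)
      simpa [θ', oneIrr] using h'))
    have hd' : dg θ' = 1 := by
      have h := hdg θ'
      rw [show (θ' : U → ℂ) 1 = conj ((θ.1 : U → ℂ) 1) from rfl, hdg, Complex.conj_natCast,
        show dg θ.1 = 1 from hd1] at h
      exact_mod_cast h.symm
    refine ⟨⟨θ', hθ'⟩, hd', ?_, fun r hr => hν0 r.1 ?_⟩
    · by_contra hne
      obtain ⟨x, hx⟩ := Finset.card_pos.1 (Nat.pos_of_ne_zero hne)
      simp only [Finset.mem_filter, Finset.mem_univ, true_and] at hx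
      have hxx : tconj hZ hU (x * x) θ.1 = θ.1 := by
        rw [← hcomp, hx]
        refine Subtype.ext (funext fun u => ?_)
        rw [tconj_apply]
        show conj ((θ.1 : U → ℂ) (conjKer hZ hU (x : G) x.2.1 u)) = _
        rw [← tconj_apply, hx]
        exact Complex.conj_conj _
      have hx2 := tconj_free hZ hab hU θ.2 hxx
      have hx1 : x = 1 := Subtype.ext (Zass.eq_one_of_sq hZ hab hodd x.2 (congrArg Subtype.val hx2))
      rw [hx1, hone] at hx
      -- a real linear character of a group of odd order is principal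
      obtain ⟨f, hf⟩ := CharCore.IsCharacter.exists_hom_of_degree_one (CharCore.irr_isCharacter θ.1)
        (by rw [hdg θ.1, show dg θ.1 = 1 from hd1, Nat.cast_one])
      refine θ.2 (Subtype.ext (funext fun u => ?_))
      have hr := congrFun (congrArg Subtype.val hx) u
      simp only [θ'] at hr
      rw [congrFun hf] at hr ⊢
      have hsq : f u * f u = 1 := by
        apply Units.ext
        rw [Units.val_mul, Units.val_one]
        nth_rewrite 2 [hr]
        rw [Complex.mul_conj, Complex.normSq_eq_norm_sq,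
          Complex.norm_eq_one_of_pow_eq_one (n := Nat.card U) (by
            rw [← Units.val_pow_eq_pow_val, ← map_pow, pow_card_eq_one', map_one, Units.val_one])
            Nat.card_pos.ne']
        norm_num
      have h2 : orderOf (f u) ∣ 2 := orderOf_dvd_of_pow_eq_one (by rw [pow_two]; exact hsq)
      have h3 : orderOf (f u) ∣ Nat.card U :=
        orderOf_dvd_of_pow_eq_one (by rw [← map_pow, pow_card_eq_one', map_one])
      have := Nat.eq_one_of_dvd_coprimes (Nat.coprime_two_right.2 hUodd) h3 h2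
      rw [orderOf_eq_one_iff.1 this]
      rfl
    · by_contra hreal
      push Not at hreal
      apply hr
      have h1 : (M r θ : ℂ) = conj (M r ⟨θ', hθ'⟩ : ℂ) := by
        rw [← umult_spec, ← umult_spec, CharCore.classInner_def, CharCore.classInner_def, map_mul,
          map_inv₀, Complex.conj_natCast, map_sum]
        congr 1
        refine Finset.sum_congr rfl fun u _ => ?_
        rw [map_mul, hreal, Complex.conj_conj]
      rw [Complex.conj_natCast] at h1
      exact_mod_cast h1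
  have hmirror : ∀ θ : Θ, d θ = 1 → ∃ (θ' : Θ) (X X' : R) (S : Finset R), d θ' = 1 ∧
      X ≠ X' ∧ X ∉ S ∧ X' ∉ S ∧ ν X.1 = 0 ∧ ν X'.1 = 0 ∧ S.card = c ∧ (∀ r ∈ S, ν r.1 = 1) ∧
      (∀ r, M r θ = if r ∈ insert X S then 1 else 0) ∧
      ∀ r, M r θ' = if r ∈ insert X' S then 1 else 0 := by
    intro θ hd1
    obtain ⟨θ', hd1', hK, hdiff⟩ := hshape θ hd1
    obtain ⟨X, X', S, h⟩ := Gram.mirror_shape (v := fun r => M r θ) (v' := fun r => M r θ')
      (ν := fun r => ν r.1) (c := c) (fun r => hν1 r.1) hdiff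
      (by simp only [hgram, hself, hd1, mul_one]) (by simp only [hgram, hself, hd1', mul_one])
      (by simp only [hgram, hK, hd1, hd1', mul_one, zero_add])
      (by have := hsum0 θ.1 θ.2; rwa [show dg θ.1 = 1 from hd1, mul_one] at this)
    exact ⟨θ', X, X', S, hd1', h⟩
  -- the linear characters
  have hlin : Nat.card {θ : Cfsg.IrrCharacter U // (θ : U → ℂ) 1 = 1} = m :=
    CharCore.card_linearCharacters
  have hlin' : (Finset.univ.filter fun θ : Cfsg.IrrCharacter U => dg θ = 1).card = m := by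
    rw [← hlin, Nat.card_eq_fintype_card, Fintype.card_subtype]
    congr 1
    ext θ
    simp only [Finset.mem_filter, Finset.mem_univ, true_and, hdg θ, Nat.cast_eq_one]
  have hd1 : dg (oneIrr U) = 1 := by
    have h := hdg (oneIrr U)
    rw [show (oneIrr U : U → ℂ) 1 = 1 from rfl] at h
    exact_mod_cast h.symm
  obtain ⟨θ₀, hθ₀⟩ : ∃ θ₀ : Θ, d θ₀ = 1 := by
    obtain ⟨θ, hθ, hθ1⟩ := Finset.exists_mem_ne
      (s := Finset.univ.filter fun θ : Cfsg.IrrCharacter U => dg θ = 1) (by omega) (oneIrr U)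
    exact ⟨⟨θ, hθ1⟩, (Finset.mem_filter.1 hθ).2⟩
  obtain ⟨θ₁, X, X', S, hθ₁, hXX, hXS, hX'S, hνX, hνX', hScard, hS1, hv, hv'⟩ := hmirror θ₀ hθ₀
  -- degrees of characters of the kernel
  have hpU : ∀ θ : Cfsg.IrrCharacter U, dg θ = 1 ∨ p ∣ dg θ ∧ 3 ≤ dg θ := by
    intro θ
    obtain ⟨D, -, hD, hD1⟩ := CharClifford.exists_degree_dvd_card θ.2
    have hDd : dg θ = D := by rw [hdg] at hD1; exact_mod_cast hD1
    rw [← hpn] at hD
    obtain ⟨i, -, hi⟩ := (Nat.dvd_prime_pow hp').1 hD
    rcases i with _ | i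
    · left; rw [hDd, hi, pow_zero]
    · right
      rw [hDd, hi]
      refine ⟨dvd_pow_self p i.succ_ne_zero, le_trans ?_ (Nat.le_self_pow i.succ_ne_zero p)⟩
      have hp2 := hp'.two_le
      rcases Nat.eq_or_lt_of_le hp2 with h | h
      · exfalso
        rw [← hpn, ← h] at hUodd
        have := (Nat.odd_iff.1 hUodd)
        rcases n with _ | n
        · rw [pow_zero] at hpn; have := hq.2; omega
        · rw [pow_succ, Nat.mul_mod] at this; simp at this
      · exact h
  -- the common characters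
  have hY : ∀ Y ∈ S, (∀ θ : Θ, d θ = 1 → M Y θ = 1) ∧ ∀ θ : Θ, d θ ≤ 4 * M Y θ := by
    intro Y hYS
    have hlinY : ∀ θ : Θ, d θ = 1 → M Y θ = 1 := by
      intro θ hdθ
      by_cases h0 : K θ₀ θ = 1
      · have h1 := Gram.col_eq hgram hself hd h0 Y
        rw [← h1, hv, if_pos (Finset.mem_insert_of_mem hYS)]
      by_cases h0' : K θ₁ θ = 1
      · have h1 := Gram.col_eq hgram hself hd h0' Y
        rw [← h1, hv', if_pos (Finset.mem_insert_of_mem hYS)]
      obtain ⟨-, Z, -, T, -, -, hZT, -, hνZ, -, hTcard, hT1, hu, -⟩ := hmirror θ hdθ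
      have hK0 : K θ₀ θ = 0 := by have := hle θ₀ θ; omega
      have hK1 : K θ₁ θ = 0 := by have := hle θ₁ θ; omega
      have hST := Gram.mirror_common (v := fun r => M r θ₀) (v' := fun r => M r θ₁)
        (u := fun r => M r θ) (ν := fun r => ν r.1) hScard hTcard hXS hX'S hZT hνX hνX' hνZ hXX
        hS1 hT1 hv hv' hu (by rw [hgram, hK0, hθ₀, hdθ]; ring) (by rw [hgram, hK1, hθ₁, hdθ]; ring)
      rw [hu, if_pos (Finset.mem_insert_of_mem (hST ▸ hYS))]
    refine ⟨hlinY, fun θ => ?_⟩
    rcases hpU θ.1 with h | ⟨-, h⟩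
    · rw [hlinY θ h, show d θ = 1 from h]; norm_num
    · have hK0 : ∀ θ' : Θ, d θ' = 1 → K θ' θ = 0 := fun θ' h' => by
        by_contra hne
        have := hd θ' θ (by have := hle θ' θ; omega)
        have : 3 ≤ d θ := h
        omega
      exact Gram.four_mul_ge (v := fun r => M r θ₀) (v' := fun r => M r θ₁) (w := fun r => M r θ)
        hXX hXS hX'S hScard hv hv' (by rw [hgram, hK0 θ₀ hθ₀, hθ₀]; ring)
        (by rw [hgram, hK0 θ₁ hθ₁, hθ₁]; ring) (by rw [hgram, hself]) h hYS
  -- their degrees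
  have hDeg : ∀ r : R, deg r.1 = ∑ θ : Cfsg.IrrCharacter U, umult r.1 θ * dg θ := by
    intro r
    have hdec := congrFun (CharCore.IsCharacter.eq_sum_classInner
      (CharCore.isCharacter_restrict (CharCore.irr_isCharacter r.1) U)) 1
    simp only [Finset.sum_apply, Pi.smul_apply, smul_eq_mul, umult_spec, OneMemClass.coe_one,
      hdeg, hdg] at hdec
    exact_mod_cast hdec
  have hYdeg : ∀ Y ∈ S, Nat.card U ≤ 4 * deg Y.1 + 1 ∧ ¬ p ∣ deg Y.1 := by
    intro Y hYS
    obtain ⟨h1, h4⟩ := hY Y hYS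
    constructor
    · have hsq : ∑ θ : Cfsg.IrrCharacter U, dg θ * dg θ = Nat.card U := by
        have h := CharCore.sum_degree_sq (G := U)
        simp only [hdg, pow_two] at h
        exact_mod_cast h
      rw [← hsq, ← Finset.add_sum_erase _ _ (Finset.mem_univ (oneIrr U)), hd1, hDeg, add_comm,
        ← Finset.add_sum_erase (f := fun θ => umult Y.1 θ * dg θ) _ (Finset.mem_univ (oneIrr U)),
        Y.2, zero_mul, zero_add, Finset.mul_sum]
      refine Nat.add_le_add_right (Finset.sum_le_sum fun θ hθ => ?_) _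
      rw [← mul_assoc]
      exact Nat.mul_le_mul_right _ (h4 ⟨θ, Finset.ne_of_mem_erase hθ⟩)
    · intro hdvd
      have hpm : p ∣ m := by
        obtain ⟨i, -, hi⟩ := (Nat.dvd_prime_pow hp').1 (hpn ▸ hmW ▸ dvd_mul_left m _ : m ∣ p ^ n)
        rcases i with _ | i
        · rw [pow_zero] at hi; omega
        · rw [hi]; exact dvd_pow_self p i.succ_ne_zero
      -- modulo `p` only the linear characters count
      have hdiv : p ∣ deg Y.1 + 1 := by
        have hsum : deg Y.1 + 1 = ∑ θ : Cfsg.IrrCharacter U,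
            (umult Y.1 θ * dg θ + if θ = oneIrr U then 1 else 0) := by
          rw [Finset.sum_add_distrib, ← hDeg, Finset.sum_ite_eq' Finset.univ (oneIrr U),
            if_pos (Finset.mem_univ _)]
        rw [hsum, ← Finset.sum_filter_add_sum_filter_not Finset.univ (fun θ => dg θ = 1)]
        refine Nat.dvd_add ?_ (Finset.dvd_sum fun θ hθ => ?_)
        · rw [Finset.sum_congr rfl (g := fun _ => 1) fun θ hθ => ?_]
          · rwa [← Finset.card_eq_sum_ones, hlin']
          · have hθ1 := (Finset.mem_filter.1 hθ).2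
            by_cases hθ0 : θ = oneIrr U
            · rw [if_pos hθ0, hθ0, Y.2, zero_mul, zero_add]
            · rw [if_neg hθ0, add_zero, hθ1, mul_one]
              exact h1 ⟨θ, hθ0⟩ hθ1
        · have hθ1 := (Finset.mem_filter.1 hθ).2
          rw [if_neg (fun h => hθ1 (by rw [h]; exact hd1)), add_zero]
          exact ((hpU θ).resolve_left hθ1).1.mul_left _
      have := (Nat.dvd_add_right hdvd).1 hdiv
      exact hp'.one_lt.ne' (Nat.dvd_one.1 this)
  -- the two sums at the involution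
  have hvals : ∀ α : R → ℂ, ∑ r : R, α r * (umult r.1 θ₀.1 : ℂ) = α X + ∑ r ∈ S, α r := by
    intro α
    rw [← Finset.sum_insert hXS]
    simp only [show ∀ r : R, umult r.1 θ₀.1 = if r ∈ insert X S then 1 else 0 from hv,
      Nat.cast_ite, Nat.cast_one, Nat.cast_zero, mul_ite, mul_one, mul_zero]
    rw [Finset.sum_ite_mem, Finset.univ_inter]
  have e1 := hsum1 θ₀.1 θ₀.2
  have e2 := hsum2 θ₀.1 θ₀.2
  rw [hvals, show dg θ₀.1 = 1 from hθ₀, Nat.cast_one] at e1 e2
  simp only [hτ, hdeg] at e1 e2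
  have hterm : ∀ r : R, (τ r.1 : ℂ) * (τ r.1 : ℂ) / (deg r.1 : ℂ)
      = (((τ r.1 : ℝ) * (τ r.1 : ℝ) / (deg r.1 : ℝ) : ℝ) : ℂ) := fun r => by push_cast; ring
  have hle1 : ∀ r ∈ S, τ r.1 * τ r.1 ≤ (deg r.1 : ℤ) := by
    intro r hr
    have h2 : (τ X.1 : ℝ) * τ X.1 / deg X.1 + ∑ r ∈ S, (τ r.1 : ℝ) * τ r.1 / deg r.1 = 1 := by
      simp only [hterm] at e2
      exact_mod_cast e2
    have hnn : ∀ r : R, 0 ≤ (τ r.1 : ℝ) * τ r.1 / deg r.1 := fun r =>
      div_nonneg (mul_self_nonneg _) (Nat.cast_nonneg _)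
    have h4 := Finset.single_le_sum (f := fun r : R => (τ r.1 : ℝ) * τ r.1 / deg r.1)
      (fun r _ => hnn r) hr
    have h5 : (τ r.1 : ℝ) * τ r.1 / deg r.1 ≤ 1 := by linarith [hnn X]
    have hpos : (0 : ℝ) < deg r.1 := Nat.cast_pos.2
      (Nat.pos_of_ne_zero fun h => hdeg0 r.1 (by rw [h, Nat.cast_zero]))
    rw [div_le_one hpos] at h5
    exact_mod_cast h5
  have hS0 : ∀ r ∈ S, τ r.1 = 0 := by
    intro r hr
    by_contra hne
    obtain ⟨hbigD, hpD⟩ := hYdeg r hr
    have hint := CharClifford.isIntegral_class_mul_div r.1.2 t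
    replace hint : IsIntegral ℤ ((((e * Nat.card U : ℕ) : ℚ) * τ r.1 / deg r.1 : ℚ) : ℂ) := by
      convert hint using 1
      push_cast
      rw [hτ, hdeg, ← Nat.cast_mul, ← hclass, Nat.card_eq_fintype_card, Fintype.card_subtype]
      congr 4
      ext x
      simp only [Finset.mem_filter, Finset.mem_univ, true_and, ConjClasses.mk_eq_mk_iff_isConj]
      exact isConj_comm
    obtain ⟨j, hj⟩ := CharClifford.exists_int_of_isIntegral_rat hint
    have hD0 : deg r.1 ≠ 0 := fun h => hdeg0 r.1 (by rw [h, Nat.cast_zero])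
    rw [div_eq_iff (Nat.cast_ne_zero.2 hD0)] at hj
    have hj' : ((e * Nat.card U : ℕ) : ℤ) * τ r.1 = j * deg r.1 := by exact_mod_cast hj
    have hd' : deg r.1 ∣ Nat.card U * (e * (τ r.1).natAbs) := by
      refine Int.natCast_dvd_natCast.1 ?_
      have h0 : ((deg r.1 : ℕ) : ℤ) ∣ ((e * Nat.card U : ℕ) : ℤ) * τ r.1 :=
        ⟨j, by rw [hj', mul_comm]⟩
      rw [Int.natCast_dvd] at h0 ⊢
      rw [Int.natAbs_mul, Int.natAbs_natCast] at h0
      rwa [Int.natAbs_natCast, mul_left_comm, ← mul_assoc]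
    have hd'' : deg r.1 ∣ e * (τ r.1).natAbs := by
      refine Nat.Coprime.dvd_of_dvd_mul_left ?_ hd'
      rw [← hpn]
      exact Nat.Coprime.pow_right _ ((hp'.coprime_iff_not_dvd.2 hpD).symm)
    have h1 := Nat.le_of_dvd (Nat.mul_pos (by omega) (Int.natAbs_pos.2 hne)) hd''
    have h2 := hle1 r hr
    rw [← Int.natAbs_mul_self' (τ r.1)] at h2
    have h2' : (τ r.1).natAbs * (τ r.1).natAbs ≤ deg r.1 := by exact_mod_cast h2
    have hae : (τ r.1).natAbs ≤ e :=
      Nat.le_of_mul_le_mul_right (h2'.trans h1) (Int.natAbs_pos.2 hne)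
    have : deg r.1 ≤ e * e := h1.trans (Nat.mul_le_mul_left e hae)
    nlinarith
  rw [Finset.sum_eq_zero fun r hr => by rw [hS0 r hr, Int.cast_zero], add_zero] at e1
  rw [Finset.sum_eq_zero fun r hr => by rw [hS0 r hr, Int.cast_zero, zero_mul, zero_div],
    add_zero, e1, mul_one, div_eq_one_iff_eq (hdeg0 X.1)] at e2
  have hdvd := two_dvd_degree hZ hab hU hodd X.1 X.2 (hdeg X.1)
  rw [← Nat.cast_one, Nat.cast_inj] at e2
  rw [← e2, Nat.dvd_one] at hdvd
  omega

end Cfsg.Agent.ZassNormal
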