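import Cfsg.Agent.Lib.Zassenhaus.Normal
import Cfsg.Agent.Lib.Zassenhaus.AbelianBound
import Cfsg.Agent.Lib.Zassenhaus.OddKernel
import Cfsg.Agent.Lib.Zassenhaus.TwoKernelMain

/-!
Feit's inequality for Zassenhaus groups with two-point stabilisers of odd order, by descent to a
simple normal subgroup.
-/

set_option autoImplicit false

namespace Cfsg.Agent.ZassNormal

open MulAction
open Cfsg.Agent.CharDeep

universe u

variable {Ω : Type*} [Fintype Ω]

/-- The simple case. -/
theorem feit_simple {G : Type u} [Group G] [Finite G] [IsSimpleGroup G] [MulAction G Ω]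
    (hZ : Cfsg.IsZassenhausGroup G Ω) {a b : Ω} (hab : a ≠ b) {H : Subgroup G}
    (hH : Zass.IsKernel a H) (hodd : Odd (Nat.card ↥(Zass.two G a b))) :
    Fintype.card Ω - 2 ≤ 2 * Nat.card ↥(Zass.two G a b) ∨ (IsPGroup 2 H ∧
      (∃ u v : H, u * v ≠ v * u) ∧
      (commutator H).index ≤ 4 * Nat.card ↥(Zass.two G a b) ^ 2 + 1) := by
  classical
  have := Fintype.ofFinite G
  by_cases hcomm : ∀ u v : H, u * v = v * u
  · exact Or.inl (abelian_bound hZ hab hH hodd hcomm)
  right
  rcases Nat.even_or_odd (Nat.card H) with he | ho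
  swap
  · exact absurd (comm_of_odd_kernel hZ hab hH hodd ho) hcomm
  obtain ⟨p, n, hp, hn, hpn⟩ := (isPrimePow_def _).1 (isPrimePow_kernel hZ hab hH hodd)
  rw [← hpn, Nat.even_pow] at he
  have hp2 : p = 2 := ((Nat.prime_iff.2 hp).eq_one_or_self_of_dvd 2
    (even_iff_two_dvd.1 he.1)).resolve_left (by norm_num) |>.symm
  have h2 : IsPGroup 2 H := IsPGroup.of_card (n := n) (by rw [← hpn, hp2])
  push Not at hcomm
  refine ⟨h2, hcomm, ?_⟩
  have hsq := TwoKer.card_kernel_sq hZ hab hH h2 hcomm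
  have hle : (commutator H).index ≤ Nat.card H :=
    Nat.le_of_dvd Nat.card_pos (commutator H).index_dvd_card
  have := Zass.two_card_gt_one hZ hab
  rw [hsq] at hle
  nlinarith

/-- **Feit's inequality.** -/
theorem feit_inequality (n : ℕ) : ∀ {G : Type u} [Group G] [Finite G] [MulAction G Ω],
    Nat.card G = n → Cfsg.IsZassenhausGroup G Ω → ∀ {a b : Ω}, a ≠ b → ∀ {H : Subgroup G},
    Zass.IsKernel a H → Odd (Nat.card ↥(Zass.two G a b)) →
    Fintype.card Ω - 2 ≤ 2 * Nat.card ↥(Zass.two G a b) ∨ (IsPGroup 2 H ∧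
      (∃ u v : H, u * v ≠ v * u) ∧
      (commutator H).index ≤ 4 * Nat.card ↥(Zass.two G a b) ^ 2 + 1) := by
  induction n using Nat.strong_induction_on with
  | _ n ih =>
  intro G _ _ _ hG hZ a b hab H hH hodd
  classical
  by_cases hs : IsSimpleGroup G
  · exact feit_simple hZ hab hH hodd
  obtain ⟨x, hx, hx1⟩ := Zass.exists_ne_one_two hZ hab
  have : Nontrivial G := ⟨⟨x, 1, hx1⟩⟩
  obtain ⟨N, hNn, hN0, hN1⟩ : ∃ N : Subgroup G, N.Normal ∧ N ≠ ⊥ ∧ N ≠ ⊤ := by
    by_contra hcon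
    push Not at hcon
    exact hs ⟨fun N hN => (em (N = ⊥)).imp_right (hcon N hN)⟩
  have hHN := kernel_le hZ N hN0 hH
  have hlt : Nat.card N < n := hG ▸ lt_of_le_of_ne (Subgroup.card_le_card_group N)
    (fun h => hN1 ((Subgroup.card_eq_iff_eq_top N).1 h))
  let H' := H.subgroupOf N
  have eH : H' ≃* H := Subgroup.subgroupOfEquivOfLe hHN
  have hH' : Zass.IsKernel a H' :=
    { le := fun u hu => hH.le hu
      card := by rw [Nat.card_congr eH.toEquiv]; exact hH.card
      fix := fun u hu hu1 c hc => hH.fix u hu (fun h => hu1 (Subtype.ext h)) c hc }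
  have hTdvd : Nat.card ↥(Zass.two N a b) ∣ Nat.card ↥(Zass.two G a b) := by
    rw [← Subgroup.card_map_of_injective (f := N.subtype) N.subtype_injective]
    exact Subgroup.card_dvd_of_le (by rintro _ ⟨y, hy, rfl⟩; exact hy)
  have hTle := Nat.le_of_dvd Nat.card_pos hTdvd
  rcases ih _ hlt rfl (isZassenhaus_normal hZ N hN0) hab hH' (hodd.of_dvd_nat hTdvd) with
    h | ⟨h2, ⟨u, v, huv⟩, hidx⟩
  · left; omega
  · refine Or.inr ⟨h2.of_equiv eH, ⟨eH u, eH v, fun h => huv (eH.injective (by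
      rw [map_mul, map_mul, h]))⟩, ?_⟩
    have hcongr : (commutator H').index = (commutator H).index :=
      Nat.card_congr eH.abelianizationCongr.toEquiv
    rw [← hcongr]
    exact hidx.trans (by gcongr)

end Cfsg.Agent.ZassNormal
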