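import Cfsg.Agent.CharDeep.ZassInduced
import Cfsg.Agent.CharDeep.ZassFrobenius
import Cfsg.Agent.CharDeep.Ext.Avg
import Cfsg.Agent.CharDeep.Expand
import Cfsg.Agent.Lib.CharClifford.Central

/-!
Multiplicities of the irreducible characters of a simple Zassenhaus group with odd two-point
stabilisers on the Frobenius kernel of a point stabiliser.
-/

set_option autoImplicit false

namespace Cfsg.Agent.ZassNormal

open MulAction
open Cfsg.Agent.CharDeep
open scoped ComplexConjugate

variable {G Ω : Type*} [Group G] [Fintype G] [DecidableEq G] [MulAction G Ω] [Fintype Ω]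
  [DecidableEq Ω]

/-- The multiplicity of an irreducible character of a subgroup in a restricted character. -/
noncomputable def umult {U : Subgroup G} [Fintype U] (χ : Cfsg.IrrCharacter G)
    (θ : Cfsg.IrrCharacter U) : ℕ :=
  Classical.choose (CharCore.IsCharacter.exists_classInner_irr_eq_natCast
    (CharCore.isCharacter_restrict (CharCore.irr_isCharacter χ) U) θ)

theorem umult_spec {U : Subgroup G} [Fintype U] (χ : Cfsg.IrrCharacter G)
    (θ : Cfsg.IrrCharacter U) :
    Cfsg.classInner (fun u : U => (χ : G → ℂ) u) θ = (umult χ θ : ℂ) :=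
  Classical.choose_spec (CharCore.IsCharacter.exists_classInner_irr_eq_natCast
    (CharCore.isCharacter_restrict (CharCore.irr_isCharacter χ) U) θ)

/-- The principal character. -/
noncomputable def oneIrr (H : Type*) [Group H] [Finite H] : Cfsg.IrrCharacter H :=
  ⟨1, CharCore.isIrrCharacter_one⟩

/-- Conjugation of the kernel by an element of the point stabiliser. -/
def conjKer (hZ : Cfsg.IsZassenhausGroup G Ω) {a : Ω} {U : Subgroup G}
    (hU : Zass.IsKernel a U) (x : G) (hx : x • a = a) : U ≃* U where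
  toFun u := ⟨x * u * x⁻¹, Zass.kernel_normal hZ hU hx u.2⟩
  invFun u := ⟨x⁻¹ * u * x, by
    simpa using Zass.kernel_normal hZ hU (g := x⁻¹) (inv_smul_eq_iff.2 hx.symm) u.2⟩
  left_inv u := Subtype.ext (by simp [mul_assoc])
  right_inv u := Subtype.ext (by simp [mul_assoc])
  map_mul' u v := Subtype.ext (by simp [mul_assoc])

variable (hZ : Cfsg.IsZassenhausGroup G Ω) {a b : Ω} (hab : a ≠ b) {U : Subgroup G}
  (hU : Zass.IsKernel a U)

/-- The conjugate of an irreducible character of the kernel by an element of the two-point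
stabiliser. -/
noncomputable def tconj (x : Zass.two G a b) (θ : Cfsg.IrrCharacter U) : Cfsg.IrrCharacter U :=
  ⟨fun u => (θ : U → ℂ) (conjKer hZ hU x x.2.1 u),
    CharCore.isIrrCharacter_comp_surjective θ.2 (conjKer hZ hU x x.2.1).toMonoidHom
      (conjKer hZ hU x x.2.1).surjective⟩

theorem tconj_apply (x : Zass.two G a b) (θ : Cfsg.IrrCharacter U) (u : U) :
    (tconj hZ hU x θ : U → ℂ) u = (θ : U → ℂ) (conjKer hZ hU x x.2.1 u) := rfl

theorem tconj_one (x : Zass.two G a b) (θ : Cfsg.IrrCharacter U) :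
    (tconj hZ hU x θ : U → ℂ) 1 = (θ : U → ℂ) 1 := by rw [tconj_apply, map_one]

include hab hZ hU

/-- The point stabiliser as a product. -/
theorem stab_bijective : Function.Bijective (fun p : U × Zass.two G a b =>
    (⟨(p.1 : G) * p.2, (stabilizer G a).mul_mem (hU.le p.1.2) p.2.2.1⟩ : stabilizer G a)) := by
  constructor
  · rintro ⟨u, x⟩ ⟨v, y⟩ h
    have h' : (u : G) * x = v * y := congrArg Subtype.val h
    have h1 : (v : G)⁻¹ * u = (y : G) * (x : G)⁻¹ := by
      rw [eq_mul_inv_iff_mul_eq, mul_assoc, h', inv_mul_cancel_left]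
    have h2 : (v : G)⁻¹ * u = 1 := Zass.kernel_inf_two hZ hab hU (U.mul_mem (U.inv_mem v.2) u.2)
      (by rw [h1]; exact ((Zass.two G a b).mul_mem y.2 ((Zass.two G a b).inv_mem x.2)).2)
    rw [h2] at h1
    exact Prod.ext (Subtype.ext (inv_mul_eq_one.1 h2).symm)
      (Subtype.ext (mul_inv_eq_one.1 h1.symm).symm)
  · rintro ⟨g, hg⟩
    obtain ⟨u, hu, x, hx, rfl⟩ := Zass.exists_kernel_mul hZ hab hU hg
    exact ⟨(⟨u, hu⟩, ⟨x, hx⟩), rfl⟩

/-- Sums over the point stabiliser. -/
theorem sum_stab [Fintype U] [Fintype (Zass.two G a b)] [Fintype (stabilizer G a)] {M : Type*}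
    [AddCommMonoid M] (F : stabilizer G a → M) :
    ∑ g, F g = ∑ u : U, ∑ x : Zass.two G a b,
      F ⟨(u : G) * x, (stabilizer G a).mul_mem (hU.le u.2) x.2.1⟩ := by
  rw [← Fintype.sum_prod_type']
  exact (Fintype.sum_bijective _ (stab_bijective hZ hab hU) _ _ fun p => rfl).symm

theorem card_U_pos : 0 < Fintype.card Ω - 1 ∧ Nat.card U = Fintype.card Ω - 1 := by
  have := hU.card
  have := Zass.three_le_card hZ hab
  omega

theorem index_kernel : U.index = Fintype.card Ω * Nat.card ↥(Zass.two G a b) := by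
  have h := U.index_mul_card
  rw [Zass.card_group hZ hab, (card_U_pos hZ hab hU).2] at h
  refine Nat.eq_of_mul_eq_mul_right (card_U_pos hZ hab hU).1 ?_
  rw [h]; ring

/-- The induced character on the kernel. -/
theorem indFun_kernel [Fintype U] [Fintype (Zass.two G a b)] (θ : Cfsg.IrrCharacter U) (u : U) :
    Cfsg.indFun U (θ : U → ℂ) u = (∑ x : Zass.two G a b, (tconj hZ hU x θ : U → ℂ) u) +
      if u = 1 then ((Fintype.card Ω - 1 : ℕ) : ℂ) * Nat.card ↥(Zass.two G a b) * (θ : U → ℂ) 1
      else 0 := by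
  classical
  have hθ := CharCore.irr_isClassFunction θ
  split_ifs with hu
  · subst hu
    simp only [tconj_one, Finset.sum_const, Finset.card_univ, nsmul_eq_mul]
    rw [OneMemClass.coe_one, CharInd.indFun_apply_one, index_kernel hZ hab hU,
      ← Nat.card_eq_fintype_card (α := Zass.two G a b)]
    obtain ⟨k, hk⟩ := Nat.exists_eq_add_of_le (show 1 ≤ Fintype.card Ω by
      have := Zass.three_le_card hZ hab; omega)
    rw [hk, Nat.add_sub_cancel_left]
    push_cast
    ring
  · rw [add_zero, CharInd.indFun_apply]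
    have hu1 : (u : G) ≠ 1 := fun h => hu (Subtype.ext h)
    have hout : ∀ x : G, x ∉ stabilizer G a → Cfsg.extendByZero U (θ : U → ℂ) (x⁻¹ * u * x) = 0 := by
      intro x hx
      refine CharInd.extendByZero_notMem _ fun h => hu1 ?_
      have h' := Zass.kernel_conj_eq_one hZ hU (g := x⁻¹)
        (fun h' => hx (by simpa using (stabilizer G a).inv_mem h')) u.2 (by simpa using h)
      exact h'
    rw [← Finset.sum_subset (Finset.subset_univ (Finset.univ.filter fun x => x ∈ stabilizer G a))
      (fun x _ hx => hout x (by simpa using hx)),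
      Finset.sum_subtype _ (p := fun x => x ∈ stabilizer G a) (fun x => by simp), sum_stab hZ hab hU,
      Finset.sum_comm, Finset.mul_sum]
    -- replace `x` by `x⁻¹`
    refine Fintype.sum_equiv (Equiv.inv (Zass.two G a b)) _ _ fun x => ?_
    have key : ∀ v : U, Cfsg.extendByZero U (θ : U → ℂ) (((v : G) * x)⁻¹ * u * ((v : G) * x))
        = (θ : U → ℂ) (conjKer hZ hU _ (x⁻¹).2.1 u) := by
      intro v
      rw [show ((v : G) * x)⁻¹ * u * ((v : G) * x)
        = ((conjKer hZ hU _ (x⁻¹).2.1 (v⁻¹ * u * v) : U) : G) by simp [conjKer, mul_assoc],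
        CharInd.extendByZero_coe, map_mul, map_mul, map_inv]
      simpa using hθ (conjKer hZ hU _ (x⁻¹).2.1 u) (conjKer hZ hU _ (x⁻¹).2.1 v)⁻¹
    rw [Finset.sum_congr rfl fun v _ => key v, Finset.sum_const, Finset.card_univ, nsmul_eq_mul,
      ← Nat.card_eq_fintype_card, ← mul_assoc, inv_mul_cancel₀ (CharInd.natCard_subgroup_ne_zero U),
      one_mul]
    rfl

/-- **The Gram matrix of the multiplicities.** -/
theorem gram [Fintype U] [Fintype (Zass.two G a b)] [DecidableEq (Cfsg.IrrCharacter U)]
    (θ θ' : Cfsg.IrrCharacter U) {d d' : ℕ} (hd : (θ : U → ℂ) 1 = d) (hd' : (θ' : U → ℂ) 1 = d') :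
    ∑ χ : Cfsg.IrrCharacter G, umult χ θ * umult χ θ' =
      (Finset.univ.filter fun x : Zass.two G a b => tconj hZ hU x θ = θ').card
        + Nat.card ↥(Zass.two G a b) * d * d' := by
  classical
  have hch : ∀ η : Cfsg.IrrCharacter U, Cfsg.IsCharacter G (Cfsg.indFun U (η : U → ℂ)) :=
    fun η => CharInd.isCharacter_indFun U (CharCore.irr_isCharacter η)
  have hcoef : ∀ (η : Cfsg.IrrCharacter U) (χ : Cfsg.IrrCharacter G),
      Cfsg.classInner (Cfsg.indFun U (η : U → ℂ)) χ = (umult χ η : ℂ) := by
    intro η χ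
    rw [CharInd.classInner_indFun_left U _ (CharCore.irr_isClassFunction χ),
      ← CharCore.conj_classInner, umult_spec, Complex.conj_natCast]
  have h1 : Cfsg.classInner (Cfsg.indFun U (θ : U → ℂ)) (Cfsg.indFun U (θ' : U → ℂ))
      = ((∑ χ : Cfsg.IrrCharacter G, umult χ θ * umult χ θ' : ℕ) : ℂ) := by
    conv_lhs => rw [CharCore.IsCharacter.eq_sum_classInner (hch θ),
      CharCore.IsCharacter.eq_sum_classInner (hch θ'), CharCore.classInner_sum_sum]
    simp only [hcoef, Complex.conj_natCast]
    push_cast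
    rfl
  have h2 : Cfsg.classInner (Cfsg.indFun U (θ : U → ℂ)) (Cfsg.indFun U (θ' : U → ℂ)) =
      (((Finset.univ.filter fun x : Zass.two G a b => tconj hZ hU x θ = θ').card
        + Nat.card ↥(Zass.two G a b) * d * d' : ℕ) : ℂ) := by
    rw [CharInd.classInner_indFun_right U _
      (CharCore.IsCharacter.isClassFunction (hch θ)), CharCore.classInner_def]
    simp only [indFun_kernel hZ hab hU, add_mul, Finset.sum_add_distrib, mul_add, Finset.sum_mul,
      ite_mul, zero_mul, Finset.sum_ite_eq', Finset.mem_univ, if_true]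
    rw [Finset.sum_comm, Finset.mul_sum,
      Finset.sum_congr rfl fun x _ => (CharCore.classInner_def (tconj hZ hU x θ : U → ℂ)
        (θ' : U → ℂ)).symm.trans (CharCore.classInner_irr _ _), Finset.sum_boole, hd, hd',
      Complex.conj_natCast, (card_U_pos hZ hab hU).2, Nat.cast_add, Nat.cast_mul, Nat.cast_mul]
    have hq : ((Fintype.card Ω - 1 : ℕ) : ℂ) ≠ 0 :=
      Nat.cast_ne_zero.2 (card_U_pos hZ hab hU).1.ne'
    field_simp
  exact_mod_cast h1.symm.trans h2

/-- An element of the point stabiliser centralising a non-identity element of the kernel lies in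
the kernel. -/
theorem centralizer_kernel {g : G} (hg : g • a = a) {u : G} (hu : u ∈ U) (hu1 : u ≠ 1)
    (hc : g * u = u * g) : g ∈ U := by
  classical
  by_contra hgU
  have hg1 : g ≠ 1 := fun h => hgU (h ▸ U.one_mem)
  obtain ⟨c, hgc, hca⟩ : ∃ c : Ω, g • c = c ∧ c ≠ a := by
    by_contra h
    push Not at h
    exact hgU ((Zass.mem_kernel_iff hZ hU).2 (Or.inr ⟨hg, h⟩))
  have h' : g • (u • c) = u • c := by rw [← mul_smul, hc, mul_smul, hgc]
  rcases Zass.fixed_of_mem_two hZ hca.symm ⟨hg, hgc⟩ hg1 h' with h | h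
  · exact hca (MulAction.injective u (h.trans (mem_stabilizer_iff.1 (hU.le hu)).symm))
  · exact hca (hU.fix u hu hu1 c h)

/-- The two-point stabiliser acts freely on the non-principal characters of the kernel. -/
theorem tconj_free {θ : Cfsg.IrrCharacter U} (hθ : θ ≠ oneIrr U) {x : Zass.two G a b}
    (hfix : tconj hZ hU x θ = θ) : x = 1 := by
  classical
  have := Fintype.ofFinite U
  by_contra hx1
  set f := (conjKer hZ hU (x : G) x.2.1).toMonoidHom
  have hcard := CharDeep.card_fixed_irr_eq (fun χ => tconj hZ hU x χ) (ConjClasses.map f)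
    (fun χ g g' he => by
      obtain ⟨c, hc⟩ := isConj_iff.1 (ConjClasses.mk_eq_mk_iff_isConj.1 he)
      show (χ : U → ℂ) (f g) = (χ : U → ℂ) g'
      rw [← hc, CharCore.irr_isClassFunction χ])
  have : Finite (ConjClasses U) := Finite.of_surjective _ ConjClasses.mk_surjective
  have hsub : Subsingleton {C : ConjClasses U // ConjClasses.map f C = C} := by
    refine subsingleton_of_forall_eq ⟨ConjClasses.mk 1, ?_⟩ fun C => Subtype.ext ?_
    · show ConjClasses.mk (f 1) = _
      rw [map_one]
    obtain ⟨u, hu⟩ := ConjClasses.exists_rep C.1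
    rw [← hu]
    have hC := C.2
    rw [← hu] at hC
    obtain ⟨v, hv⟩ := isConj_iff.1 (ConjClasses.mk_eq_mk_iff_isConj.1 hC)
    by_contra hne
    have hu1 : (u : G) ≠ 1 := fun h => hne (by rw [show u = 1 from Subtype.ext h])
    have hv' : (v : G) * ((x : G) * u * (x : G)⁻¹) * (v : G)⁻¹ = u := congrArg Subtype.val hv
    have hg := centralizer_kernel hZ hab hU (g := (v : G) * x)
      (by rw [mul_smul, x.2.1, mem_stabilizer_iff.1 (hU.le v.2)]) u.2 hu1 (by
        calc (v : G) * x * u
            = (v : G) * ((x : G) * u * (x : G)⁻¹) * (v : G)⁻¹ * ((v : G) * x) := by group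
          _ = u * ((v : G) * x) := by rw [hv'])
    have hxU : (x : G) ∈ U := by
      have := U.mul_mem (U.inv_mem v.2) hg
      rwa [inv_mul_cancel_left] at this
    exact hx1 (Subtype.ext (Zass.kernel_inf_two hZ hab hU hxU x.2.2))
  have h1 : Nat.card {χ : Cfsg.IrrCharacter U // tconj hZ hU x χ = χ} ≤ 1 := by
    rw [hcard]; exact Finite.card_le_one_iff_subsingleton.2 hsub
  have h2 := Finite.card_le_one_iff_subsingleton.1 h1
  exact hθ (congrArg Subtype.val (@Subsingleton.elim _ h2 ⟨θ, hfix⟩
    ⟨oneIrr U, Subtype.ext (funext fun u => rfl)⟩))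

variable [IsSimpleGroup G] (hodd : Odd (Nat.card ↥(Zass.two G a b)))

include hodd

/-- Characters of the point stabiliser with a kernel-fixed vector are linear. -/
theorem exists_hom_of_avg [Fintype U] [Fintype (stabilizer G a)]
    (η : Cfsg.IrrCharacter (stabilizer G a))
    (h : ∑ u : U, (η : stabilizer G a → ℂ) (Subgroup.inclusion hU.le u) ≠ 0) :
    ∃ f : stabilizer G a →* ℂˣ, (∀ u : stabilizer G a, (u : G) ∈ U → f u = 1) ∧
      (η : stabilizer G a → ℂ) = fun g => (f g : ℂ) := by
  classical
  have := Fintype.ofFinite (Zass.two G a b)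
  set N := U.subgroupOf (stabilizer G a)
  have : N.Normal := ⟨fun u hu g => Zass.kernel_normal hZ hU g.2 hu⟩
  have := Fintype.ofFinite N
  have havg : CharDeep.Ext.avg N (η : stabilizer G a → ℂ) = η := by
    refine (CharDeep.Ext.avg_irr N η).resolve_right fun h0 => h ?_
    have h1 := congrFun h0 1
    simp only [CharDeep.Ext.avg_apply, mul_one, Pi.zero_apply, mul_eq_zero, inv_eq_zero] at h1
    refine Eq.trans ?_ (h1.resolve_left (CharDeep.Ext.natCard_ne N))
    exact Fintype.sum_equiv (Subgroup.subgroupOfEquivOfLe hU.le).symm.toEquiv _ _ fun u => rfl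
  have hinv : ∀ (u : U) (g : stabilizer G a),
      (η : stabilizer G a → ℂ) (Subgroup.inclusion hU.le u * g) = (η : stabilizer G a → ℂ) g := by
    intro u g
    have h1 := CharDeep.Ext.avg_mul_left N (η : stabilizer G a → ℂ)
      ⟨Subgroup.inclusion hU.le u, u.2⟩ g
    rwa [havg] at h1
  -- the restriction to the two-point stabiliser is irreducible
  set i : Zass.two G a b →* stabilizer G a := Subgroup.inclusion inf_le_left
  set φ : Zass.two G a b → ℂ := fun x => (η : stabilizer G a → ℂ) (i x)
  have hφ : Cfsg.IsIrrCharacter (Zass.two G a b) φ := by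
    refine CharCore.isIrrCharacter_iff.2
      ⟨CharCore.isCharacter_comp (CharCore.irr_isCharacter η) i, ?_⟩
    have h1 := CharCore.classInner_irr_self η
    rw [CharCore.classInner_def, sum_stab hZ hab hU] at h1
    rw [← h1, CharCore.classInner_def]
    have e1 : ∀ (u : U) (x : Zass.two G a b),
        (η : stabilizer G a → ℂ) ⟨(u : G) * x, (stabilizer G a).mul_mem (hU.le u.2) x.2.1⟩ = φ x :=
      fun u x => hinv u (i x)
    simp only [e1, Finset.sum_const, Finset.card_univ, nsmul_eq_mul, ← Nat.card_eq_fintype_card]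
    rw [← mul_assoc]
    congr 1
    rw [Zass.card_stabilizer hZ hab, ← (card_U_pos hZ hab hU).2, Nat.cast_mul, mul_inv, mul_right_comm,
      inv_mul_cancel₀ (CharInd.natCard_subgroup_ne_zero U), one_mul]
  have hcomm : ∀ x y : Zass.two G a b, x * y = y * x := fun x y => by
    have := Zass.isCyclic_two hZ hab hU hodd
    exact IsCyclic.commGroup.mul_comm x y
  obtain ⟨d, -, hdvd, hd⟩ := CharClifford.exists_degree_dvd_index_center hφ
  have hcen : Subgroup.center (Zass.two G a b) = ⊤ := by
    rw [eq_top_iff]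
    intro x _
    exact Subgroup.mem_center_iff.2 fun y => hcomm y x
  rw [hcen, Subgroup.index_top, Nat.dvd_one] at hdvd
  obtain ⟨f, hf⟩ := CharCore.IsCharacter.exists_hom_of_degree_one (CharCore.irr_isCharacter η) (by
    have : φ 1 = 1 := by rw [hd, hdvd, Nat.cast_one]
    simpa [φ] using this)
  refine ⟨f, fun u hu => Units.ext ?_, hf⟩
  have h1 := hinv ⟨u, hu⟩ 1
  rw [mul_one, congrFun hf, congrFun hf, map_one] at h1
  exact h1

/-- The two possibilities for a non-principal character with a fixed vector of the kernel. -/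
theorem noncusp_values [Fintype U] (χ : Cfsg.IrrCharacter G) (hχ : χ ≠ oneIrr G)
    (hf : umult χ (oneIrr U) ≠ 0) :
    ∃ D c : ℕ, ((D = Fintype.card Ω - 1 ∧ c = 0) ∨ (D = Fintype.card Ω ∧ c = 1)) ∧
      (χ : G → ℂ) 1 = D ∧ (∀ u ∈ U, u ≠ 1 → (χ : G → ℂ) u = c) ∧
      (c = 0 → ∀ χ' : Cfsg.IrrCharacter G, ((χ' : G → ℂ) = fun g =>
        Cfsg.indFun (stabilizer G a) (fun _ => (1 : ℂ)) g - 1) → χ' = χ) ∧
      (c = 0 → (χ : G → ℂ) = fun g =>
        Cfsg.indFun (stabilizer G a) (fun _ => (1 : ℂ)) g - 1) := by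
  classical
  have := Fintype.ofFinite (stabilizer G a)
  have := Fintype.ofFinite (Zass.two G a b)
  set B := stabilizer G a
  have hB : Cfsg.IsCharacter B (fun g : B => (χ : G → ℂ) g) :=
    CharCore.isCharacter_restrict (CharCore.irr_isCharacter χ) B
  obtain ⟨m, hm⟩ := CharCore.IsCharacter.exists_sum hB
  obtain ⟨η, hmη, hη⟩ : ∃ η, m η ≠ 0 ∧
      ∑ u : U, (η : B → ℂ) (Subgroup.inclusion hU.le u) ≠ 0 := by
    by_contra hcon
    push Not at hcon
    apply hf
    have h1 := umult_spec χ (oneIrr U)
    rw [CharCore.classInner_def] at h1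
    simp only [oneIrr, Pi.one_apply, map_one, mul_one] at h1
    have h2 : ∑ u : U, (χ : G → ℂ) u = 0 := by
      rw [Finset.sum_congr rfl (g := fun u : U => ∑ η, (m η : ℂ) * (η : B → ℂ)
        (Subgroup.inclusion hU.le u)) fun u _ => by
          have := congrFun hm (Subgroup.inclusion hU.le u)
          simpa using this, Finset.sum_comm]
      refine Finset.sum_eq_zero fun η _ => ?_
      rw [← Finset.mul_sum]
      by_cases h : m η = 0
      · rw [h, Nat.cast_zero, zero_mul]
      · rw [hcon η h, mul_zero]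
    rw [h2, mul_zero] at h1
    exact_mod_cast h1.symm
  obtain ⟨f, hfU, hfη⟩ := exists_hom_of_avg hZ hab hU hodd η hη
  set P := Cfsg.indFun B (fun g => (f g : ℂ)) with hP
  have hPc : Cfsg.IsCharacter G P :=
    CharInd.isCharacter_indFun B (CharCore.IsIrrCharacter.isCharacter (CharCore.isIrrCharacter_hom f))
  have hPχ : Cfsg.classInner P χ ≠ 0 := by
    rw [hP, CharInd.classInner_indFun_left B _ (CharCore.irr_isClassFunction χ),
      ← CharCore.conj_classInner, hm, ← hfη, CharCore.classInner_sum_all, Complex.conj_natCast]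
    exact_mod_cast hmη
  have hP1 : P 1 = (Fintype.card Ω : ℂ) := Zass.indFun_hom_one hZ hab f
  have hnfix : ∀ u ∈ U, u ≠ 1 → Zass.nfix Ω u = 1 := by
    intro u hu hu1
    rw [Zass.nfix, Finset.card_eq_one]
    exact ⟨a, Finset.eq_singleton_iff_unique_mem.2 ⟨by simpa using mem_stabilizer_iff.1 (hU.le hu),
      fun c hc => hU.fix u hu hu1 c (by simpa using hc)⟩⟩
  have hPu : ∀ u ∈ U, u ≠ 1 → P u = 1 := by
    intro u hu hu1
    rw [hP, Zass.indFun_hom_fix_one hZ hab f (mem_stabilizer_iff.1 (hU.le hu)) (hnfix u hu hu1)]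
    exact congrArg Units.val (hfU _ hu)
  by_cases hne : ∃ s, f s ≠ 1
  · have hirr : Cfsg.IsIrrCharacter G P := Zass.isIrr_indFun_hom hZ hab f hodd hU hfU hne
    have heq : (⟨P, hirr⟩ : Cfsg.IrrCharacter G) = χ := by
      by_contra h
      exact hPχ (CharCore.classInner_irr_of_ne h)
    have hval : ∀ g, (χ : G → ℂ) g = P g := fun g => by rw [← heq]
    exact ⟨Fintype.card Ω, 1, Or.inr ⟨rfl, rfl⟩, by rw [hval, hP1],
      fun u hu hu1 => by rw [hval, hPu u hu hu1, Nat.cast_one],
      fun h => absurd h one_ne_zero, fun h => absurd h one_ne_zero⟩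
  push Not at hne
  have hP' : P = fun g => Cfsg.indFun B (fun _ => (1 : ℂ)) g := by
    funext g
    rw [hP]
    congr 1
    funext s
    rw [hne s, Units.val_one]
  -- the norm of the permutation character
  have hnorm : Cfsg.classInner P P = 2 := by
    nth_rewrite 1 [hP]
    rw [CharInd.classInner_indFun_left B _ (CharCore.IsCharacter.isClassFunction hPc),
      CharCore.classInner_def, sum_stab hZ hab hU]
    have hval : ∀ (u : U) (x : Zass.two G a b),
        (f ⟨(u : G) * x, B.mul_mem (hU.le u.2) x.2.1⟩ : ℂ) * conj (P ((u : G) * x)) =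
          (if x = 1 then (if u = 1 then (Fintype.card Ω : ℂ) else 1) else 2) := by
      intro u x
      rw [hne, Units.val_one, one_mul]
      by_cases hx : x = 1
      · subst hx
        rw [if_pos rfl, OneMemClass.coe_one, mul_one]
        by_cases hu : u = 1
        · subst hu
          rw [if_pos rfl, OneMemClass.coe_one, hP1, Complex.conj_natCast]
        · rw [if_neg hu, hPu u u.2 (fun h => hu (Subtype.ext h)), map_one]
      · rw [if_neg hx]
        set g := (u : G) * x
        have hgU : g ∉ U := fun h => hx (Subtype.ext (Zass.kernel_inf_two hZ hab hU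
          (by simpa [g] using U.mul_mem (U.inv_mem u.2) h) x.2.2))
        have hga : g • a = a := by
          show ((u : G) * x) • a = a
          rw [mul_smul, x.2.1, mem_stabilizer_iff.1 (hU.le u.2)]
        obtain ⟨c, hgc, hca⟩ : ∃ c : Ω, g • c = c ∧ c ≠ a := by
          by_contra h
          push Not at h
          exact hgU ((Zass.mem_kernel_iff hZ hU).2 (Or.inr ⟨hga, h⟩))
        rw [hP, Zass.indFun_hom_fix_two hZ hab f hca hodd ⟨hga, hgc⟩
          (fun h => hgU (h ▸ U.one_mem)), hne, Units.val_one, inv_one, one_add_one_eq_two,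
          map_ofNat]
    simp only [hval]
    simp only [Finset.sum_comm (s := (Finset.univ : Finset U))]
    rw [← Finset.add_sum_erase _ _ (Finset.mem_univ (1 : Zass.two G a b)),
      Finset.sum_congr rfl fun x hx => Finset.sum_congr rfl fun u _ =>
        if_neg (Finset.ne_of_mem_erase hx)]
    simp only [if_true]
    rw [← Finset.add_sum_erase _ _ (Finset.mem_univ (1 : U)), if_pos rfl,
      Finset.sum_congr rfl fun u hu => if_neg (Finset.ne_of_mem_erase hu)]
    simp only [Finset.sum_const, Finset.card_erase_of_mem (Finset.mem_univ _), Finset.card_univ,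
      nsmul_eq_mul, mul_one, ← Nat.card_eq_fintype_card, (card_U_pos hZ hab hU).2]
    rw [Zass.card_stabilizer hZ hab]
    have h3 := Zass.three_le_card hZ hab
    have he := Zass.two_card_gt_one hZ hab
    obtain ⟨n, hn⟩ : ∃ n, Fintype.card Ω = n + 3 := ⟨Fintype.card Ω - 3, by omega⟩
    obtain ⟨k, hk⟩ : ∃ k, Nat.card ↥(Zass.two G a b) = k + 1 :=
      ⟨Nat.card ↥(Zass.two G a b) - 1, by omega⟩
    rw [Nat.card_eq_fintype_card (α := Ω), hn, hk, show n + 3 - 1 = n + 2 by omega,
      show n + 2 - 1 = n + 1 by omega,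
      Nat.add_sub_cancel]
    push_cast
    have h1 : ((n : ℂ) + 2) ≠ 0 := by
      exact_mod_cast (show n + 2 ≠ 0 by omega)
    have h2 : ((k : ℂ) + 1) ≠ 0 := by
      exact_mod_cast (show k + 1 ≠ 0 by omega)
    field_simp
    ring
  obtain ⟨k, hk⟩ := CharCore.IsCharacter.exists_sum hPc
  have hk1 : k (oneIrr G) = 1 := by
    have h1 : Cfsg.classInner P (oneIrr G : G → ℂ) = 1 := by
      rw [hP, CharInd.classInner_indFun_left B _ (CharCore.irr_isClassFunction _),
        CharCore.classInner_def]
      simp only [oneIrr, Pi.one_apply, map_one, mul_one, hne, Units.val_one, Finset.sum_const,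
        Finset.card_univ, nsmul_eq_mul, ← Nat.card_eq_fintype_card]
      exact inv_mul_cancel₀ (CharInd.natCard_subgroup_ne_zero B)
    rw [hk, CharCore.classInner_sum_all] at h1
    exact_mod_cast h1
  have hkχ : 0 < k χ := Nat.pos_of_ne_zero fun h => hPχ (by
    rw [hk, CharCore.classInner_sum_all, h, Nat.cast_zero])
  have hsq : ∑ ψ, k ψ * k ψ = 2 := by
    rw [hk, CharCore.classInner_sum_sum] at hnorm
    simp only [Complex.conj_natCast] at hnorm
    exact_mod_cast hnorm
  have hdec := Finset.add_sum_erase Finset.univ (fun ψ => k ψ * k ψ) (Finset.mem_univ (oneIrr G))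
  have hdec2 := Finset.add_sum_erase (Finset.univ.erase (oneIrr G)) (fun ψ => k ψ * k ψ)
    (Finset.mem_erase.2 ⟨hχ, Finset.mem_univ χ⟩)
  have hkχ1 : k χ = 1 := by
    simp only [hk1] at hdec
    have : k χ * k χ ≤ 1 := by omega
    nlinarith
  have hrest : ∀ ψ, ψ ≠ oneIrr G → ψ ≠ χ → k ψ = 0 := by
    intro ψ h1 h2
    simp only [hk1] at hdec
    simp only [hkχ1] at hdec2
    have h0 : ∑ ψ ∈ (Finset.univ.erase (oneIrr G)).erase χ, k ψ * k ψ = 0 := by omega
    simpa using Finset.sum_eq_zero_iff.1 h0 ψ (by simp [h1, h2])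
  have hval : ∀ g, P g = 1 + (χ : G → ℂ) g := by
    intro g
    rw [hk, Finset.sum_apply]
    rw [Finset.sum_eq_add (s := Finset.univ) (oneIrr G) χ hχ.symm
      (fun ψ _ h => by simp [hrest ψ h.1 h.2]) (by simp) (by simp)]
    rw [hk1, hkχ1]
    simp [oneIrr]
  have h3 := Zass.three_le_card hZ hab
  have hχval : (χ : G → ℂ) = fun g => Cfsg.indFun B (fun _ => (1 : ℂ)) g - 1 := by
    funext g
    rw [← congrFun hP' g, hval g]; ring
  refine ⟨Fintype.card Ω - 1, 0, Or.inl ⟨rfl, rfl⟩, ?_, fun u hu hu1 => ?_,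
    fun _ χ' h' => Subtype.ext (h'.trans hχval.symm), fun _ => hχval⟩
  · have := hval 1
    rw [hP1] at this
    rw [Nat.cast_sub (by omega), Nat.cast_one, this]
    ring
  · have := hval u
    rw [hPu u hu hu1] at this
    push_cast
    linear_combination -this

/-- Non-cuspidal characters have multiplicity `θ(1)` on every non-principal character of the
kernel. -/
theorem umult_noncusp [Fintype U] (χ : Cfsg.IrrCharacter G) (hχ : χ ≠ oneIrr G)
    (hf : umult χ (oneIrr U) ≠ 0) (θ : Cfsg.IrrCharacter U) (hθ : θ ≠ oneIrr U) {d : ℕ}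
    (hd : (θ : U → ℂ) 1 = d) : umult χ θ = d := by
  classical
  obtain ⟨D, c, hDc, hD, hc, -⟩ := noncusp_values hZ hab hU hodd χ hχ hf
  have horth := CharCore.classInner_irr_of_ne hθ
  rw [CharCore.classInner_def] at horth
  simp only [oneIrr, Pi.one_apply, map_one, mul_one] at horth
  have hsum : ∑ u : U, conj ((θ : U → ℂ) u) = 0 := by
    rw [← map_sum, (mul_eq_zero.1 horth).resolve_left
      (inv_ne_zero (CharInd.natCard_subgroup_ne_zero U)), map_zero]
  have hspec := umult_spec χ θ
  rw [CharCore.classInner_def] at hspec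
  have hterm : ∀ u : U, (χ : G → ℂ) u * conj ((θ : U → ℂ) u) = (c : ℂ) * conj ((θ : U → ℂ) u)
      + if u = 1 then ((D : ℂ) - c) * d else 0 := by
    intro u
    by_cases hu : u = 1
    · subst hu
      rw [if_pos rfl, OneMemClass.coe_one, hD, hd, Complex.conj_natCast]
      ring
    · rw [if_neg hu, add_zero, hc u u.2 fun h => hu (Subtype.ext h)]
  rw [Finset.sum_congr rfl fun u _ => hterm u, Finset.sum_add_distrib, ← Finset.mul_sum, hsum,
    mul_zero, zero_add, Finset.sum_ite_eq', if_pos (Finset.mem_univ _),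
    (card_U_pos hZ hab hU).2] at hspec
  have h3 := Zass.three_le_card hZ hab
  have hq : (D : ℂ) - c = ((Fintype.card Ω - 1 : ℕ) : ℂ) := by
    rcases hDc with ⟨rfl, rfl⟩ | ⟨rfl, rfl⟩
    · simp
    · rw [Nat.cast_sub (by omega)]
  rw [hq, ← mul_assoc, inv_mul_cancel₀ (Nat.cast_ne_zero.2 (card_U_pos hZ hab hU).1.ne'),
    one_mul] at hspec
  exact_mod_cast hspec.symm

omit hab hU hodd [IsSimpleGroup G] [DecidableEq Ω] hZ in
theorem umult_oneIrr [Fintype U] (θ : Cfsg.IrrCharacter U) [DecidableEq (Cfsg.IrrCharacter U)] :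
    umult (oneIrr G) θ = if θ = oneIrr U then 1 else 0 := by
  have h := umult_spec (oneIrr G) θ
  rw [show (fun u : U => (oneIrr G : G → ℂ) u) = (oneIrr U : U → ℂ) from rfl,
    CharCore.classInner_irr] at h
  split_ifs with hθ
  · rw [if_pos hθ.symm] at h
    exact_mod_cast h.symm
  · rw [if_neg (Ne.symm hθ)] at h
    exact_mod_cast h.symm

/-- **The Gram matrix on the cuspidal characters.** -/
theorem gram_cusp [Fintype U] [Fintype (Zass.two G a b)] [DecidableEq (Cfsg.IrrCharacter U)]
    {c : ℕ} (hc : Nat.card ↥(Zass.two G a b) = 2 * c + 1)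
    (θ θ' : Cfsg.IrrCharacter U) (hθ : θ ≠ oneIrr U) (hθ' : θ' ≠ oneIrr U)
    {d d' : ℕ} (hd : (θ : U → ℂ) 1 = d) (hd' : (θ' : U → ℂ) 1 = d') :
    ∑ χ : {χ : Cfsg.IrrCharacter G // umult χ (oneIrr U) = 0}, umult χ.1 θ * umult χ.1 θ' =
      (Finset.univ.filter fun x : Zass.two G a b => tconj hZ hU x θ = θ').card + c * d * d' := by
  classical
  set C := Finset.univ.filter fun χ : Cfsg.IrrCharacter G => umult χ (oneIrr U) = 0 with hC
  rw [← Finset.sum_subtype C (fun χ => by simp [hC]) (fun χ => umult χ θ * umult χ θ')]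
  set N := (Finset.univ.filter fun χ : Cfsg.IrrCharacter G => ¬ umult χ (oneIrr U) = 0).erase
    (oneIrr G) with hN
  -- the number of non-cuspidal non-principal characters
  have h1mem : oneIrr G ∈ Finset.univ.filter
      (fun χ : Cfsg.IrrCharacter G => ¬ umult χ (oneIrr U) = 0) := by
    simp [umult_oneIrr]
  have hsplit : ∀ F : Cfsg.IrrCharacter G → ℕ,
      ∑ χ, F χ = ∑ χ ∈ C, F χ + (F (oneIrr G) + ∑ χ ∈ N, F χ) := by
    intro F
    rw [hN, Finset.add_sum_erase _ F h1mem, hC, Finset.sum_filter_add_sum_filter_not]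
  have hNcard : N.card = c + 1 := by
    have h11 : (oneIrr U : U → ℂ) 1 = ((1 : ℕ) : ℂ) := by simp [oneIrr]
    have hg := gram hZ hab hU (oneIrr U) (oneIrr U) h11 h11
    rw [hsplit, umult_oneIrr, if_pos rfl, Finset.filter_true_of_mem
      (p := fun x => tconj hZ hU x (oneIrr U) = oneIrr U)
      (fun x _ => Subtype.ext (funext fun u => rfl)), Finset.card_univ,
      ← Nat.card_eq_fintype_card, Finset.sum_eq_zero (s := C) (fun χ hχ => by
        rw [(Finset.mem_filter.1 hχ).2, zero_mul])] at hg
    -- multiplicities of the principal character of the kernel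
    set S0 := N.filter fun χ => umult χ (oneIrr U) = 1 with hS0
    have hval : ∀ χ ∈ N, umult χ (oneIrr U) * umult χ (oneIrr U)
        = if χ ∈ S0 then 1 else 4 := by
      intro χ hχ
      have hχ' := hχ
      simp only [hN, Finset.mem_erase, Finset.mem_filter, Finset.mem_univ, true_and] at hχ'
      obtain ⟨D, e, hDe, hD, he, -⟩ := noncusp_values hZ hab hU hodd χ hχ'.1 hχ'.2
      have hspec := umult_spec χ (oneIrr U)
      rw [CharCore.classInner_def] at hspec
      simp only [oneIrr, Pi.one_apply, map_one, mul_one] at hspec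
      rw [← Finset.add_sum_erase _ _ (Finset.mem_univ (1 : U)),
        Finset.sum_congr rfl fun (u : U) hu => he u u.2 fun h =>
          Finset.ne_of_mem_erase hu (Subtype.ext h),
        Finset.sum_const, Finset.card_erase_of_mem (Finset.mem_univ _), Finset.card_univ,
        ← Nat.card_eq_fintype_card, (card_U_pos hZ hab hU).2, OneMemClass.coe_one, hD,
        nsmul_eq_mul] at hspec
      have hq : ((Fintype.card Ω - 1 : ℕ) : ℂ) ≠ 0 :=
        Nat.cast_ne_zero.2 (card_U_pos hZ hab hU).1.ne'
      rw [inv_mul_eq_iff_eq_mul₀ hq] at hspec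
      have h3 := Zass.three_le_card hZ hab
      have hspec' : D + (Fintype.card Ω - 1 - 1) * e
          = (Fintype.card Ω - 1) * umult χ (oneIrr U) := by exact_mod_cast hspec
      have hf : umult χ (oneIrr U) = 1 ∨ umult χ (oneIrr U) = 2 := by
        rcases hDe with ⟨rfl, rfl⟩ | ⟨rfl, rfl⟩
        · left
          refine Nat.eq_of_mul_eq_mul_left (card_U_pos hZ hab hU).1 ?_
          omega
        · right
          refine Nat.eq_of_mul_eq_mul_left (card_U_pos hZ hab hU).1 ?_
          omega
      rcases hf with hf | hf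
      · rw [if_pos (Finset.mem_filter.2 ⟨hχ, hf⟩), hf]
      · rw [if_neg fun h => by have := (Finset.mem_filter.1 h).2; omega, hf]
    rw [Finset.sum_congr rfl hval, Finset.sum_ite, Finset.sum_const, Finset.sum_const,
      Finset.filter_mem_eq_inter, Finset.inter_eq_right.2 (Finset.filter_subset _ _)] at hg
    have hle : S0.card ≤ 1 := by
      refine Finset.card_le_one.2 fun χ hχ χ' hχ' => ?_
      have key : ∀ ψ ∈ S0, (ψ : G → ℂ) = fun g =>
          Cfsg.indFun (stabilizer G a) (fun _ => (1 : ℂ)) g - 1 := by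
        intro ψ hψ
        simp only [hS0, hN, Finset.mem_filter, Finset.mem_erase, Finset.mem_univ, true_and] at hψ
        obtain ⟨D, e, hDe, hD, he, -, he0⟩ := noncusp_values hZ hab hU hodd ψ hψ.1.1 hψ.1.2
        rcases hDe with ⟨-, h0⟩ | ⟨rfl, rfl⟩
        · exact he0 h0
        exfalso
        have hspec := umult_spec ψ (oneIrr U)
        rw [CharCore.classInner_def] at hspec
        simp only [oneIrr, Pi.one_apply, map_one, mul_one] at hspec
        rw [← Finset.add_sum_erase _ _ (Finset.mem_univ (1 : U)),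
          Finset.sum_congr rfl fun (u : U) hu => he u u.2 fun h =>
            Finset.ne_of_mem_erase hu (Subtype.ext h),
          Finset.sum_const, Finset.card_erase_of_mem (Finset.mem_univ _), Finset.card_univ,
          ← Nat.card_eq_fintype_card, (card_U_pos hZ hab hU).2, OneMemClass.coe_one, hD,
          nsmul_eq_mul, inv_mul_eq_iff_eq_mul₀
            (Nat.cast_ne_zero.2 (card_U_pos hZ hab hU).1.ne'),
          show umult ψ ⟨1, CharCore.isIrrCharacter_one⟩ = 1 from hψ.2] at hspec
        have h4 : Fintype.card Ω + (Fintype.card Ω - 1 - 1) * 1 = (Fintype.card Ω - 1) * 1 := by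
          exact_mod_cast hspec
        have h3 := Zass.three_le_card hZ hab
        omega
      exact Subtype.ext ((key χ hχ).trans (key χ' hχ').symm)
    have hfc := Finset.card_filter_add_card_filter_not (s := N) (fun χ => χ ∈ S0)
    rw [Finset.filter_mem_eq_inter, Finset.inter_eq_right.2 (Finset.filter_subset _ _)] at hfc
    simp only [smul_eq_mul, mul_one, hc] at hg
    rw [← hS0] at hg hfc
    omega
  have hg := gram hZ hab hU θ θ' hd hd'
  rw [hsplit, umult_oneIrr, if_neg hθ, zero_mul, Finset.sum_congr rfl (s₁ := N) fun χ hχ => by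
      simp only [hN, Finset.mem_erase, Finset.mem_filter, Finset.mem_univ, true_and] at hχ
      rw [umult_noncusp hZ hab hU hodd χ hχ.1 hχ.2 θ hθ hd,
        umult_noncusp hZ hab hU hodd χ hχ.1 hχ.2 θ' hθ' hd'],
    Finset.sum_const, hNcard, smul_eq_mul, zero_add, hc] at hg
  nlinarith

/-- The degree of a cuspidal character is divisible by the order of the two-point stabiliser. -/
theorem two_dvd_degree [Fintype U] (χ : Cfsg.IrrCharacter G) (hf : umult χ (oneIrr U) = 0) {D : ℕ}
    (hD : (χ : G → ℂ) 1 = D) : Nat.card ↥(Zass.two G a b) ∣ D := by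
  classical
  have := Fintype.ofFinite (stabilizer G a)
  have := Fintype.ofFinite (Zass.two G a b)
  set B := stabilizer G a
  set T := Zass.two G a b with hT
  set i : T →* B := Subgroup.inclusion inf_le_left with hi
  obtain ⟨m, hm⟩ := CharCore.IsCharacter.exists_sum
    (CharCore.isCharacter_restrict (CharCore.irr_isCharacter χ) B)
  have hcyc := Zass.isCyclic_two hZ hab hU hodd
  have hcommT : commutator T = ⊥ := by
    rw [commutator_eq_bot_iff_center_eq_top, eq_top_iff]
    intro x _
    exact Subgroup.mem_center_iff.2 fun y => (IsCyclic.commGroup (α := T)).mul_comm y x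
  -- the projection of `B` to `T`
  let e := Equiv.ofBijective _ (stab_bijective hZ hab hU)
  have he2 : ∀ (u : U) (x : T),
      (e.symm ⟨(u : G) * x, B.mul_mem (hU.le u.2) x.2.1⟩).2 = x := fun u x =>
    congrArg Prod.snd (e.symm_apply_apply (u, x))
  have hpmul : ∀ g g' : B, (e.symm (g * g')).2 = (e.symm g).2 * (e.symm g').2 := by
    intro g g'
    obtain ⟨⟨u, x⟩, rfl⟩ := e.surjective g
    obtain ⟨⟨u', x'⟩, rfl⟩ := e.surjective g'
    have hmul : e (u, x) * e (u', x') = e (⟨(u : G) * ((x : G) * u' * (x : G)⁻¹),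
        U.mul_mem u.2 (Zass.kernel_normal hZ hU x.2.1 u'.2)⟩, x * x') := Subtype.ext (by
      show (u : G) * x * ((u' : G) * x') = (u : G) * ((x : G) * u' * (x : G)⁻¹) * ((x : G) * x')
      group)
    rw [hmul, e.symm_apply_apply, e.symm_apply_apply, e.symm_apply_apply]
  let π : B →* T := MonoidHom.mk' (fun g => (e.symm g).2) hpmul
  have hπi : ∀ x : T, π (i x) = x := fun x => by
    have h := he2 1 x
    simpa [π, i, Subgroup.inclusion] using h
  have hπsurj : Function.Surjective π := fun x => ⟨i x, hπi x⟩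
  -- the linear characters
  let L := {ψ : Cfsg.IrrCharacter T // (ψ : T → ℂ) 1 = 1}
  have hLcard : Nat.card L = Nat.card T := by
    rw [CharCore.card_linearCharacters, hcommT, Subgroup.index_bot]
  let up : L → Cfsg.IrrCharacter B := fun ψ =>
    ⟨fun g => (ψ.1 : T → ℂ) (π g), CharCore.isIrrCharacter_comp_surjective ψ.1.2 π hπsurj⟩
  have hup : Function.Injective up := fun ψ ψ' h => Subtype.ext (Subtype.ext (funext fun x => by
    have := congrFun (congrArg Subtype.val h) (i x)
    simpa [up, hπi] using this))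
  -- a cuspidal character vanishes on the two-point stabiliser
  have hvan : ∀ x : T, x ≠ 1 → (χ : G → ℂ) x = 0 := by
    intro x hx
    have horth := CharCore.sum_apply_mul_conj (i x) (i x)
    rw [if_pos (IsConj.refl _)] at horth
    have hC : Nat.card (Subgroup.centralizer ({i x} : Set B)) = Nat.card T := by
      suffices hmem : ∀ y : Subgroup.centralizer ({i x} : Set B), ((y : B) : G) ∈ T from
        (Nat.card_congr
          { toFun := fun y => ⟨i y, Subgroup.mem_centralizer_singleton_iff.2 (by
              rw [← map_mul, ← map_mul, (IsCyclic.commGroup (α := T)).mul_comm])⟩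
            invFun := fun y => ⟨((y : B) : G), hmem y⟩
            left_inv := fun _ => Subtype.ext rfl
            right_inv := fun _ => Subtype.ext (Subtype.ext rfl) }).symm
      intro y
      have hy : ((y : B) : G) * x = x * ((y : B) : G) :=
        congrArg Subtype.val (Subgroup.mem_centralizer_singleton_iff.1 y.2)
      refine ⟨(y : B).2, ?_⟩
      show ((y : B) : G) • b = b
      have hya : ((y : B) : G) • a = a := (y : B).2
      have h : (x : G) • (((y : B) : G) • b) = ((y : B) : G) • b := by
        rw [← mul_smul, ← hy, mul_smul, x.2.2]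
      rcases Zass.fixed_of_mem_two hZ hab x.2 (fun h => hx (Subtype.ext h)) h with h' | h'
      · exact absurd (MulAction.injective ((y : B) : G) (h'.trans hya.symm)) hab.symm
      · exact h'
    rw [hC] at horth
    -- the linear characters exhaust the sum
    set img := Finset.univ.image up
    have himg : ∑ η ∈ img, (η : B → ℂ) (i x) * conj ((η : B → ℂ) (i x)) = (Nat.card T : ℂ) := by
      rw [Finset.sum_image fun ψ _ ψ' _ h => hup h, ← hLcard, Nat.card_eq_fintype_card,
        ← Finset.card_univ, Finset.cast_card]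
      refine Finset.sum_congr rfl fun ψ _ => ?_
      obtain ⟨g, hg⟩ := CharCore.IsCharacter.exists_hom_of_degree_one
        (CharCore.irr_isCharacter ψ.1) ψ.2
      show (ψ.1 : T → ℂ) (π (i x)) * conj ((ψ.1 : T → ℂ) (π (i x))) = 1
      rw [hπi, congrFun hg, Complex.mul_conj', CharCore.norm_hom_apply]
      simp
    rw [← Finset.sum_compl_add_sum img, himg, add_eq_right] at horth
    have hzero : ∀ η ∈ imgᶜ, (η : B → ℂ) (i x) = 0 := by
      intro η hη
      have h1 : ∑ η ∈ imgᶜ, Complex.normSq ((η : B → ℂ) (i x)) = 0 := by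
        simp only [Complex.mul_conj] at horth
        exact_mod_cast horth
      exact Complex.normSq_eq_zero.1
        ((Finset.sum_eq_zero_iff_of_nonneg fun η _ => Complex.normSq_nonneg _).1 h1 η hη)
    have hmimg : ∀ η ∈ img, m η = 0 := by
      intro η hη
      obtain ⟨ψ, -, rfl⟩ := Finset.mem_image.1 hη
      by_contra hm0
      have h1 := umult_spec χ (oneIrr U)
      rw [hf, CharCore.classInner_def, Nat.cast_zero] at h1
      simp only [oneIrr, Pi.one_apply, map_one, mul_one, mul_eq_zero, inv_eq_zero,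
        CharInd.natCard_subgroup_ne_zero U, false_or] at h1
      -- every summand of the average is a natural number
      have havg : ∀ η : Cfsg.IrrCharacter B, ∃ k : ℕ,
          ∑ u : U, (η : B → ℂ) (Subgroup.inclusion hU.le u) = (Nat.card U : ℂ) * k := by
        intro η
        obtain ⟨k, hk⟩ := CharCore.IsCharacter.exists_classInner_eq_natCast
          (CharCore.isCharacter_comp (CharCore.irr_isCharacter η) (Subgroup.inclusion hU.le))
          (CharCore.isCharacter_one (G := U))
        rw [CharCore.classInner_def] at hk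
        simp only [Pi.one_apply, map_one, mul_one] at hk
        exact ⟨k, by rw [← hk, ← mul_assoc, mul_inv_cancel₀ (CharInd.natCard_subgroup_ne_zero U),
          one_mul]⟩
      choose k hk using havg
      have hk1 : k (up ψ) = 1 := by
        have h2 := hk (up ψ)
        have h3 : ∀ u : U, (up ψ : B → ℂ) (Subgroup.inclusion hU.le u) = 1 := fun u => by
          show (ψ.1 : T → ℂ) (π _) = 1
          rw [show π (Subgroup.inclusion hU.le u) = 1 by
            have := he2 u 1
            simpa [π, Subgroup.inclusion] using this, ψ.2]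
        simp only [h3, Finset.sum_const, Finset.card_univ, nsmul_eq_mul, mul_one,
          ← Nat.card_eq_fintype_card] at h2
        have h4 : Nat.card U = Nat.card U * k (up ψ) := by exact_mod_cast h2
        exact (mul_eq_left₀ Nat.card_pos.ne').1 h4.symm
      have h5 : (Nat.card U : ℂ) * (∑ η, (m η * k η : ℕ)) = 0 := by
        rw [← h1, Finset.sum_congr rfl fun (u : U) _ => (show (χ : G → ℂ) u
          = ∑ η, (m η : ℂ) * (η : B → ℂ) (Subgroup.inclusion hU.le u) by
            have := congrFun hm (Subgroup.inclusion hU.le u)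
            simpa using this), Finset.sum_comm, Nat.cast_sum, Finset.mul_sum]
        refine Finset.sum_congr rfl fun η _ => ?_
        rw [← Finset.mul_sum, hk, Nat.cast_mul]
        ring
      have h6 : ∑ η, m η * k η = 0 := by
        have := (mul_eq_zero.1 h5).resolve_left (CharInd.natCard_subgroup_ne_zero U)
        exact_mod_cast this
      have h7 := Finset.sum_eq_zero_iff.1 h6 (up ψ) (Finset.mem_univ _)
      rw [hk1, mul_one] at h7
      exact hm0 h7
    have hval : (χ : G → ℂ) x = ∑ η, (m η : ℂ) * (η : B → ℂ) (i x) := by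
      have := congrFun hm (i x)
      simpa [i] using this
    rw [hval]
    refine Finset.sum_eq_zero fun η _ => ?_
    by_cases hη : η ∈ img
    · rw [hmimg η hη, Nat.cast_zero, zero_mul]
    · rw [hzero η (Finset.mem_compl.2 hη), mul_zero]
  obtain ⟨k, hk⟩ := CharCore.IsCharacter.exists_classInner_eq_natCast
    (CharCore.isCharacter_restrict (CharCore.irr_isCharacter χ) T)
    (CharCore.isCharacter_one (G := T))
  rw [CharCore.classInner_def, Finset.sum_eq_single (1 : T)] at hk
  · simp only [Pi.one_apply, map_one, mul_one, OneMemClass.coe_one, hD] at hk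
    rw [inv_mul_eq_iff_eq_mul₀ (CharInd.natCard_subgroup_ne_zero T)] at hk
    exact ⟨k, by exact_mod_cast hk⟩
  · intro x _ hx
    rw [hvan x hx, zero_mul]
  · simp

/-- **There are no non-principal irreducible characters of degree at most `√q`.** -/
theorem false_of_small_degree [Fintype U] (χ : Cfsg.IrrCharacter G) (hχ : χ ≠ oneIrr G) {D : ℕ}
    (hD : (χ : G → ℂ) 1 = D) (hsmall : D * D ≤ Fintype.card Ω - 1) : False := by
  classical
  have hq := card_U_pos hZ hab hU
  have h3 := Zass.three_le_card hZ hab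
  have he := Zass.two_card_gt_one hZ hab
  have hD0 : D ≠ 0 := fun h => CharCore.irr_apply_one_ne_zero χ (by rw [hD, h, Nat.cast_zero])
  have hcusp : ∀ (ψ : Cfsg.IrrCharacter G) (E : ℕ), ψ ≠ oneIrr G → (ψ : G → ℂ) 1 = E →
      E < Fintype.card Ω - 1 → Nat.card ↥(Zass.two G a b) ∣ E := by
    intro ψ E hψ hE hlt
    refine two_dvd_degree hZ hab hU hodd ψ ?_ hE
    by_contra hne
    obtain ⟨E', c, hEc, hE', -⟩ := noncusp_values hZ hab hU hodd ψ hψ hne
    have hEE : E = E' := by rw [hE] at hE'; exact_mod_cast hE'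
    rcases hEc with ⟨h, -⟩ | ⟨h, -⟩ <;> omega
  have hDlt : D < Fintype.card Ω - 1 := by
    rcases Nat.lt_or_ge D 2 with h | h
    · omega
    · nlinarith
  have hdvd := hcusp χ D hχ hD hDlt
  set W : G → ℂ := fun g => (χ : G → ℂ) g * conj ((χ : G → ℂ) g) with hW
  have hWc : Cfsg.IsCharacter G W := CharCore.isCharacter_mul (CharCore.irr_isCharacter χ)
    (CharCore.IsCharacter.star (CharCore.irr_isCharacter χ))
  obtain ⟨k, hk⟩ := CharCore.IsCharacter.exists_sum hWc
  have hk1 : k (oneIrr G) = 1 := by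
    have h1 : Cfsg.classInner W (oneIrr G : G → ℂ) = 1 := by
      rw [← CharCore.classInner_irr_self χ, CharCore.classInner_def, CharCore.classInner_def]
      simp [hW, oneIrr]
    rw [hk, CharCore.classInner_sum_all] at h1
    exact_mod_cast h1
  choose deg hdeg using fun ψ : Cfsg.IrrCharacter G =>
    CharCore.IsCharacter.exists_degree (CharCore.irr_isCharacter ψ)
  have hsum : D * D = ∑ ψ, k ψ * deg ψ := by
    have h := congrFun hk 1
    simp only [hW] at h
    rw [hD] at h
    simp only [Complex.conj_natCast, Finset.sum_apply, Pi.smul_apply, smul_eq_mul, hdeg] at h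
    exact_mod_cast h
  have hdeg1 : deg (oneIrr G) = 1 := by
    have h := hdeg (oneIrr G)
    have h' : ((oneIrr G : Cfsg.IrrCharacter G) : G → ℂ) 1 = 1 := rfl
    rw [h'] at h
    exact_mod_cast h.symm
  rw [← Finset.add_sum_erase _ _ (Finset.mem_univ (oneIrr G)), hk1, hdeg1, one_mul] at hsum
  have hrest : Nat.card ↥(Zass.two G a b) ∣ ∑ ψ ∈ Finset.univ.erase (oneIrr G), k ψ * deg ψ := by
    refine Finset.dvd_sum fun ψ hψ => ?_
    by_cases h0 : k ψ = 0
    · simp [h0]
    refine Dvd.dvd.mul_left (hcusp ψ _ (Finset.ne_of_mem_erase hψ) (hdeg ψ) ?_) _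
    have h1 : deg ψ ≤ k ψ * deg ψ := Nat.le_mul_of_pos_left _ (Nat.pos_of_ne_zero h0)
    have h2 : k ψ * deg ψ ≤ ∑ ψ ∈ Finset.univ.erase (oneIrr G), k ψ * deg ψ :=
      Finset.single_le_sum (f := fun ψ => k ψ * deg ψ) (fun _ _ => Nat.zero_le _) hψ
    omega
  have := Nat.dvd_sub (hdvd.mul_right D) hrest
  rw [show D * D - ∑ ψ ∈ Finset.univ.erase (oneIrr G), k ψ * deg ψ = 1 by omega, Nat.dvd_one]
    at this
  omega

end Cfsg.Agent.ZassNormal
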