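import Mathlib

/-!
A transitive commuting family of injective endomorphisms of a finite abelian group, normalised by
an automorphism of prime order `r` fixing only two elements, forces the order `2 ^ r`.
-/

set_option autoImplicit false

namespace Cfsg.Agent.ZassNormal

variable {V : Type*} [AddCommGroup V] {T : Set (AddMonoid.End V)} {u : V}

theorem centEnd_apply_comm {f t : AddMonoid.End V} (hf : f ∈ Subring.centralizer T) (ht : t ∈ T)
    (v : V) : f (t v) = t (f v) :=
  (DFunLike.congr_fun (Subring.mem_centralizer_iff.1 hf t ht) v).symm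

variable (htr : ∀ v : V, v ≠ 0 → ∃ t ∈ T, t u = v)

include htr

theorem centEnd_ext {f g : Subring.centralizer T} (h : f.1 u = g.1 u) : f = g := by
  refine Subtype.ext (DFunLike.ext _ _ fun v => ?_)
  by_cases hv : v = 0
  · rw [hv, map_zero, map_zero]
  obtain ⟨t, ht, rfl⟩ := htr v hv
  rw [centEnd_apply_comm f.2 ht, centEnd_apply_comm g.2 ht, h]

variable (hcomm : ∀ s ∈ T, ∀ t ∈ T, s * t = t * s)

include hcomm

theorem centEnd_surj (v : V) : ∃ f : Subring.centralizer T, f.1 u = v := by
  by_cases hv : v = 0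
  · exact ⟨0, by rw [hv]; rfl⟩
  · obtain ⟨t, ht, htu⟩ := htr v hv
    exact ⟨⟨t, Subring.mem_centralizer_iff.2 fun s hs => hcomm s hs t ht⟩, htu⟩

theorem centEnd_cases (f : Subring.centralizer T) :
    f = 0 ∨ ∃ t ∈ T, (f : AddMonoid.End V) = t := by
  by_cases h : f.1 u = 0
  · refine Or.inl (centEnd_ext htr ?_)
    rw [h]; rfl
  · obtain ⟨t, ht, htu⟩ := htr _ h
    refine Or.inr ⟨t, ht, ?_⟩
    have ht' : t ∈ Subring.centralizer T :=
      Subring.mem_centralizer_iff.2 fun s hs => hcomm s hs t ht
    exact congrArg Subtype.val (centEnd_ext htr (f := f) (g := ⟨t, ht'⟩) htu.symm)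

theorem centEnd_isField [Finite V] (hu : u ≠ 0) (hinj : ∀ t ∈ T, Function.Injective t) :
    IsField (Subring.centralizer T) := by
  have : Finite (Subring.centralizer T) :=
    Finite.of_injective (fun f : Subring.centralizer T => f.1 u) fun f g h => centEnd_ext htr h
  refine ⟨⟨0, 1, fun h => hu ?_⟩, fun f g => ?_, fun {f} hf => ?_⟩
  · exact (congrArg (fun z : Subring.centralizer T => z.1 u) h).symm
  · rcases centEnd_cases htr hcomm f with rfl | ⟨t, ht, he⟩
    · rw [zero_mul, mul_zero]
    · apply Subtype.ext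
      rw [Subring.coe_mul, Subring.coe_mul, he]
      exact Subring.mem_centralizer_iff.1 g.2 t ht
  · obtain ⟨t, ht, he⟩ := (centEnd_cases htr hcomm f).resolve_left hf
    have hi : Function.Injective (fun g : Subring.centralizer T => f * g) := by
      intro g g' h
      refine centEnd_ext htr (hinj t ht ?_)
      rw [← he]
      exact congrArg (fun z : Subring.centralizer T => z.1 u) h
    exact Finite.injective_iff_surjective.1 hi 1

/-- Conjugation by an automorphism normalising `T`. -/
theorem card_eq_two_pow [Finite V] (hu : u ≠ 0) (hinj : ∀ t ∈ T, Function.Injective t)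
    (hcard : 2 < Nat.card V) (e : V ≃+ V)
    (hnorm : ∀ t ∈ T, ∃ t' ∈ T, ∀ v, t' (e v) = e (t v))
    (hfix : ∀ v, e v = v ↔ (v = 0 ∨ v = u)) {r : ℕ} (hr : r.Prime) (hpow : ∀ v, e^[r] v = v) :
    Nat.card V = 2 ^ r := by
  classical
  set S := Subring.centralizer T with hS
  letI : Field S := (centEnd_isField htr hcomm hu hinj).toField
  have : Finite S :=
    Finite.of_injective (fun f : S => f.1 u) fun f g h => centEnd_ext htr h
  have := Fintype.ofFinite S
  have heu : e u = u := (hfix u).2 (Or.inr rfl)
  let eE : AddMonoid.End V := e.toAddMonoidHom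
  let eI : AddMonoid.End V := e.symm.toAddMonoidHom
  have hEI : eE * eI = 1 := DFunLike.ext _ _ fun v => e.apply_symm_apply v
  have hIE : eI * eE = 1 := DFunLike.ext _ _ fun v => e.symm_apply_apply v
  have hET : ∀ t ∈ T, ∃ t' ∈ T, t' * eE = eE * t := by
    intro t ht
    obtain ⟨t', ht', he'⟩ := hnorm t ht
    exact ⟨t', ht', DFunLike.ext _ _ he'⟩
  have hTE : ∀ t ∈ T, ∃ s ∈ T, t * eE = eE * s := by
    intro t ht
    have hne : e.symm (t u) ≠ 0 := fun h => hu (hinj t ht (by
      rw [map_zero]; exact e.symm.injective (h.trans (map_zero e.symm).symm)))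
    obtain ⟨s, hs, hs'⟩ := htr _ hne
    obtain ⟨t', ht', he'⟩ := hET s hs
    refine ⟨s, hs, ?_⟩
    have hts : t' = t := by
      refine congrArg Subtype.val (centEnd_ext htr
        (f := ⟨t', Subring.mem_centralizer_iff.2 fun a ha => hcomm a ha t' ht'⟩)
        (g := ⟨t, Subring.mem_centralizer_iff.2 fun a ha => hcomm a ha t ht⟩) ?_)
      show t' u = t u
      have h := DFunLike.congr_fun he' u
      have h' : t' (e u) = e (s u) := h
      rw [heu, hs', e.apply_symm_apply] at h'
      exact h'
    rw [← hts]; exact he'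
  have hmem : ∀ f : S, eE * f.1 * eI ∈ S := by
    intro f
    refine Subring.mem_centralizer_iff.2 ?_
    intro t ht
    obtain ⟨s, hs, he'⟩ := hTE t ht
    have h2 : eI * t = s * eI := by
      calc eI * t = eI * (t * eE) * eI := by rw [mul_assoc, mul_assoc, hEI, mul_one]
        _ = eI * eE * s * eI := by rw [he', ← mul_assoc]
        _ = s * eI := by rw [hIE, one_mul]
    rw [← mul_assoc, ← mul_assoc, he', mul_assoc eE s,
      Subring.mem_centralizer_iff.1 f.2 s hs, ← mul_assoc, mul_assoc _ s eI, ← h2, ← mul_assoc]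
  have hmem' : ∀ f : S, eI * f.1 * eE ∈ S := by
    intro f
    refine Subring.mem_centralizer_iff.2 ?_
    intro t ht
    obtain ⟨t', ht', he'⟩ := hET t ht
    have h2 : t * eI = eI * t' := by
      calc t * eI = eI * (eE * t) * eI := by rw [← mul_assoc eI, hIE, one_mul]
        _ = eI * (t' * eE * eI) := by rw [he', mul_assoc, mul_assoc]
        _ = eI * t' := by rw [mul_assoc, hEI, mul_one]
    rw [← mul_assoc, ← mul_assoc, h2, mul_assoc eI t',
      Subring.mem_centralizer_iff.1 f.2 t' ht', ← mul_assoc, mul_assoc _ t' eE, he', ← mul_assoc]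
  let Φ : S ≃+* S :=
    { toFun := fun f => ⟨_, hmem f⟩
      invFun := fun f => ⟨_, hmem' f⟩
      left_inv := fun f => Subtype.ext (by
        show eI * (eE * f.1 * eI) * eE = f.1
        rw [← mul_assoc, ← mul_assoc, hIE, one_mul, mul_assoc, hIE, mul_one])
      right_inv := fun f => Subtype.ext (by
        show eE * (eI * f.1 * eE) * eI = f.1
        rw [← mul_assoc, ← mul_assoc, hEI, one_mul, mul_assoc, hEI, mul_one])
      map_mul' := fun f g => Subtype.ext (by
        show eE * (f.1 * g.1) * eI = eE * f.1 * eI * (eE * g.1 * eI)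
        rw [← mul_assoc (eE * f.1 * eI), ← mul_assoc (eE * f.1 * eI), mul_assoc (eE * f.1) eI,
          hIE, mul_one, mul_assoc eE f.1])
      map_add' := fun f g => Subtype.ext (by
        show eE * (f.1 + g.1) * eI = eE * f.1 * eI + eE * g.1 * eI
        rw [mul_add, add_mul]) }
  have hev : ∀ f : S, (Φ f).1 u = e (f.1 u) := by
    intro f
    show e (f.1 (e.symm u)) = e (f.1 u)
    rw [show e.symm u = u from (e.symm_apply_eq).2 heu.symm]
  have hΦfix : ∀ f : S, Φ f = f ↔ (f = 0 ∨ f = 1) := by
    intro f
    constructor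
    · intro h
      have h' : e (f.1 u) = f.1 u := by rw [← hev, h]
      rcases (hfix _).1 h' with h0 | h1
      · exact Or.inl (centEnd_ext htr (by rw [h0]; rfl))
      · exact Or.inr (centEnd_ext htr (by rw [h1]; rfl))
    · rintro (rfl | rfl)
      · exact map_zero Φ
      · exact map_one Φ
  have hΦpow : ∀ (m : ℕ) (f : S), ((Φ ^ m) f).1 u = e^[m] (f.1 u) := by
    intro m
    induction m with
    | zero => intro f; rfl
    | succ m ih =>
      intro f
      rw [pow_succ, RingAut.mul_apply, ih, Function.iterate_succ_apply, hev]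
  have hΦr : Φ ^ r = 1 := RingEquiv.ext fun f => centEnd_ext htr (by rw [hΦpow, hpow]; rfl)
  have hcardS : Nat.card S = Nat.card V := Nat.card_congr (Equiv.ofBijective (fun f : S => f.1 u)
    ⟨fun f g h => centEnd_ext htr h, fun v => centEnd_surj htr hcomm v⟩)
  have hΦ1 : Φ ≠ 1 := by
    intro h
    have hsub : (Finset.univ : Finset S) ⊆ {0, 1} := fun f _ => by
      simpa using (hΦfix f).1 (by rw [h]; rfl)
    have := Finset.card_le_card hsub
    rw [Finset.card_univ, ← Nat.card_eq_fintype_card, hcardS] at this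
    have := this.trans Finset.card_le_two
    omega
  have : Fact r.Prime := ⟨hr⟩
  have hord : orderOf Φ = r := orderOf_eq_prime hΦr hΦ1
  have : Finite (S ≃+* S) := Finite.of_injective (fun f : S ≃+* S => (f : S → S)) DFunLike.coe_injective
  let H : Subgroup (S ≃+* S) := Subgroup.zpowers Φ
  have := Fintype.ofFinite H
  have hH : Fintype.card H = r := by
    rw [← Nat.card_eq_fintype_card, Nat.card_zpowers, hord]
  have hF2 : Nat.card (FixedPoints.subfield H S) = 2 := by
    have hset : ((FixedPoints.subfield H S : Subfield S) : Set S) = {0, 1} := by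
      ext f
      simp only [Set.mem_insert_iff, Set.mem_singleton_iff, ← hΦfix]
      constructor
      · intro h
        exact h ⟨Φ, Subgroup.mem_zpowers Φ⟩
      · intro h
        rintro ⟨ψ, hψ⟩
        obtain ⟨m, rfl⟩ := Subgroup.mem_zpowers_iff.1 hψ
        have : Φ ∈ MulAction.stabilizer (S ≃+* S) f := h
        exact Subgroup.zpow_mem _ this m
    have := congrArg Set.ncard hset
    rw [Set.ncard_pair (zero_ne_one), ← Nat.card_coe_set_eq] at this
    exact this
  have := Module.card_eq_pow_finrank (K := FixedPoints.subfield H S) (V := S)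
  rw [FixedPoints.finrank_eq_card, hH, ← Nat.card_eq_fintype_card, ← Nat.card_eq_fintype_card,
    hF2, hcardS] at this
  exact this

end Cfsg.Agent.ZassNormal
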