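import Cfsg.Agent.Lib.Zassenhaus.GramCoherence

/-!
At least three natural vectors of squared length `c + 1` with mutual inner products `c` are a fixed
integral vector plus (or minus) distinct unit vectors.
-/

set_option autoImplicit false

namespace Cfsg.Agent.ZassNormal.Gram

variable {R : Type*} [Fintype R] [DecidableEq R]

/-- Two differences from one vector share an end. -/
theorem pair_share {a b b' : R → ℕ} {c : ℕ} (hb : ∑ r, b r * b r = 1 + c)
    (hb' : ∑ r, b' r * b' r = 1 + c) (hbb : ∑ r, b r * b' r = c) {X Y X' Y' : R}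
    (e1 : a X = b X + 1) (e2 : b Y = a Y + 1) (e0 : X ≠ Y)
    (e3 : ∀ r, r ≠ X → r ≠ Y → a r = b r)
    (f1 : a X' = b' X' + 1) (f2 : b' Y' = a Y' + 1)
    (f3 : ∀ r, r ≠ X' → r ≠ Y' → a r = b' r) : X = X' ∨ Y = Y' := by
  by_contra hcon
  push Not at hcon
  obtain ⟨x, y, g1, g2, g0, g3⟩ := diff_two hb hb' hbb
  have hle : ∀ r, b r ≤ b' r + 1 ∧ b' r ≤ b r + 1 := by
    intro r
    by_cases hrx : r = x
    · subst hrx; omega
    by_cases hry : r = y
    · subst hry; omega
    have := g3 r hrx hry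
    omega
  have hX : b X ≠ b' X := by
    by_cases h : X = Y'
    · rw [← h] at f2; omega
    · have := f3 _ hcon.1 h; omega
  have hX' : b X' ≠ b' X' := by
    by_cases h : X' = Y
    · rw [← h] at e2; omega
    · have := e3 _ hcon.1.symm h; omega
  have hY : b Y ≠ b' Y := by
    by_cases h : Y = X'
    · rw [← h] at f1; omega
    · have := f3 _ h hcon.2; omega
  have hXY : X' ≠ Y := fun h => by
    have := hle Y
    rw [h] at f1
    omega
  have key : ∀ r, b r ≠ b' r → r = x ∨ r = y := fun r hr => by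
    by_contra h
    push Not at h
    exact hr (g3 r h.1 h.2)
  rcases key _ hX with h1 | h1 <;> rcases key _ hX' with h2 | h2 <;>
    rcases key _ hY with h3 | h3 <;>
    first
      | exact hcon.1 (h1.trans h2.symm)
      | exact e0 (h1.trans h3.symm)
      | exact hXY (h2.trans h3.symm)

/-- The star shape of a family of at least three vectors. -/
theorem exists_signed_vector (V : Finset (R → ℕ)) {c : ℕ}
    (hself : ∀ v ∈ V, ∑ r, v r * v r = 1 + c)
    (hne : ∀ v ∈ V, ∀ w ∈ V, v ≠ w → ∑ r, v r * w r = c) (hcard : 2 ≤ V.card) :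
    ∃ (ε : ℤ) (γ : R → ℤ) (t : ℤ) (X : (R → ℕ) → R), (ε = 1 ∨ ε = -1) ∧
      Set.InjOn X V ∧ (∀ v ∈ V, γ (X v) = t) ∧ ∑ r, γ r * γ r + 2 * ε * t = c ∧
      ∀ v ∈ V, ∀ r, (v r : ℤ) = γ r + if r = X v then ε else 0 := by
  classical
  obtain ⟨a, ha⟩ := Finset.card_pos.1 (by omega : 0 < V.card)
  have hW : ∀ b ∈ V.erase a, ∃ p : R × R,
      a p.1 = b p.1 + 1 ∧ b p.2 = a p.2 + 1 ∧ p.1 ≠ p.2 ∧
        ∀ r, r ≠ p.1 → r ≠ p.2 → a r = b r := by
    intro b hb
    obtain ⟨hba, hb⟩ := Finset.mem_erase.1 hb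
    obtain ⟨x, y, h⟩ := diff_two (hself a ha) (hself b hb) (hne a ha b hb (Ne.symm hba))
    exact ⟨(x, y), h⟩
  obtain ⟨b₀, hb₀⟩ : (V.erase a).Nonempty :=
    Finset.card_pos.1 (by rw [Finset.card_erase_of_mem ha]; omega)
  have : Nonempty (R × R) := ⟨(hW b₀ hb₀).choose⟩
  choose! P hP using hW
  have hinj : ∀ b ∈ V.erase a, ∀ b' ∈ V.erase a,
      (P b).1 = (P b').1 → (P b).2 = (P b').2 → b = b' := by
    intro b hb b' hb' h1 h2
    obtain ⟨e1, e2, -, e3⟩ := hP b hb
    obtain ⟨f1, f2, -, f3⟩ := hP b' hb'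
    funext r
    by_cases hr1 : r = (P b).1
    · subst hr1
      rw [← h1] at f1
      omega
    by_cases hr2 : r = (P b).2
    · subst hr2
      rw [← h2] at f2
      omega
    rw [← e3 r hr1 hr2, f3 r (h1 ▸ hr1) (h2 ▸ hr2)]
  have hpair : ∀ b ∈ V.erase a, ∀ b' ∈ V.erase a,
      (P b).1 = (P b').1 ∨ (P b).2 = (P b').2 := by
    intro b hb b' hb'
    by_cases hbb : b = b'
    · exact Or.inl (by rw [hbb])
    obtain ⟨e1, e2, e0, e3⟩ := hP b hb
    obtain ⟨f1, f2, -, f3⟩ := hP b' hb'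
    exact pair_share (hself b (Finset.mem_of_mem_erase hb)) (hself b' (Finset.mem_of_mem_erase hb'))
      (hne b (Finset.mem_of_mem_erase hb) b' (Finset.mem_of_mem_erase hb') hbb)
      e1 e2 e0 e3 f1 f2 f3
  have hall : (∀ b ∈ V.erase a, (P b).1 = (P b₀).1) ∨
      (∀ b ∈ V.erase a, (P b).2 = (P b₀).2) := by
    by_contra hcon
    push Not at hcon
    obtain ⟨⟨b₁, hb₁, h1⟩, ⟨b₂, hb₂, h2⟩⟩ := hcon
    have e1 := (hpair b₁ hb₁ b₀ hb₀).resolve_left h1
    have e2 := (hpair b₂ hb₂ b₀ hb₀).resolve_right h2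
    rcases hpair b₁ hb₁ b₂ hb₂ with h | h
    · exact h1 (h.trans e2)
    · exact h2 (h.symm.trans e1)
  -- the common end and the sign
  obtain ⟨ε, x₀, Y, hε, hrep, hY, hYx⟩ : ∃ (ε : ℤ) (x₀ : R) (Y : (R → ℕ) → R),
      (ε = 1 ∨ ε = -1) ∧
      (∀ b ∈ V.erase a, ∀ r, (b r : ℤ) =
        ((a r : ℤ) - if r = x₀ then ε else 0) + if r = Y b then ε else 0) ∧
      Set.InjOn Y (V.erase a) ∧ ∀ b ∈ V.erase a, Y b ≠ x₀ := by
    rcases hall with hall | hall
    · refine ⟨1, (P b₀).1, fun b => (P b).2, Or.inl rfl, fun b hb r => ?_,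
        fun b hb b' hb' h => hinj b hb b' hb' ((hall b hb).trans (hall b' hb').symm) h,
        fun b hb => by rw [← hall b hb]; exact (hP b hb).2.2.1.symm⟩
      obtain ⟨e1, e2, e0, e3⟩ := hP b hb
      rw [← hall b hb]
      by_cases h1 : r = (P b).1
      · subst h1
        rw [if_pos rfl, if_neg e0]
        omega
      by_cases h2 : r = (P b).2
      · subst h2
        rw [if_neg h1, if_pos rfl]
        omega
      rw [if_neg h1, if_neg h2, sub_zero, add_zero, e3 r h1 h2]
    · refine ⟨-1, (P b₀).2, fun b => (P b).1, Or.inr rfl, fun b hb r => ?_,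
        fun b hb b' hb' h => hinj b hb b' hb' h ((hall b hb).trans (hall b' hb').symm),
        fun b hb => by rw [← hall b hb]; exact (hP b hb).2.2.1⟩
      obtain ⟨e1, e2, e0, e3⟩ := hP b hb
      rw [← hall b hb]
      by_cases h1 : r = (P b).1
      · subst h1
        rw [if_neg e0, if_pos rfl]
        omega
      by_cases h2 : r = (P b).2
      · subst h2
        rw [if_pos rfl, if_neg h1]
        omega
      rw [if_neg h1, if_neg h2, sub_zero, add_zero, e3 r h1 h2]
  set γ : R → ℤ := fun r => (a r : ℤ) - if r = x₀ then ε else 0 with hγ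
  set X : (R → ℕ) → R := fun v => if v = a then x₀ else Y v with hX
  have hv : ∀ v ∈ V, ∀ r, (v r : ℤ) = γ r + if r = X v then ε else 0 := by
    intro v hv r
    by_cases hva : v = a
    · subst hva
      simp [hγ, hX]
    · simp only [hγ, hX, if_neg hva]
      exact hrep v (Finset.mem_erase.2 ⟨hva, hv⟩) r
  have hε2 : ε * ε = 1 := by rcases hε with h | h <;> simp [h]
  have hnorm : ∀ v ∈ V, ∑ r, γ r * γ r + 2 * ε * γ (X v) = c := by
    intro v hv'
    have h1 : ∑ r, (v r : ℤ) * v r = 1 + c := by exact_mod_cast hself v hv'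
    have h2 : ∀ r, (v r : ℤ) * v r = γ r * γ r + if r = X v then 2 * ε * γ r + 1 else 0 := by
      intro r
      rw [hv v hv' r]
      split_ifs
      · linear_combination hε2
      · ring
    rw [Finset.sum_congr rfl fun r _ => h2 r, Finset.sum_add_distrib, Finset.sum_ite_eq',
      if_pos (Finset.mem_univ _)] at h1
    linarith
  refine ⟨ε, γ, γ (X a), X, hε, fun v hv' w hw' h => ?_, fun v hv' => ?_, hnorm a ha, hv⟩
  · by_cases hva : v = a <;> by_cases hwa : w = a
    · rw [hva, hwa]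
    · simp only [hX, if_pos hva, if_neg hwa] at h
      exact absurd h.symm (hYx w (Finset.mem_erase.2 ⟨hwa, hw'⟩))
    · simp only [hX, if_neg hva, if_pos hwa] at h
      exact absurd h (hYx v (Finset.mem_erase.2 ⟨hva, hv'⟩))
    · simp only [hX, if_neg hva, if_neg hwa] at h
      exact hY (Finset.mem_erase.2 ⟨hva, hv'⟩) (Finset.mem_erase.2 ⟨hwa, hw'⟩) h
  · have h1 := hnorm v hv'
    have h2 := hnorm a ha
    rcases hε with h | h <;> subst h <;> linarith

end Cfsg.Agent.ZassNormal.Gram
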