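import Cfsg.Agent.Lib.Zassenhaus.TwoKernelSuzuki

/-!
Character sums used for kernels of odd order: values at an involution, and expansion of the
multiplicities in the kernel from column sums.
-/

set_option autoImplicit false

namespace Cfsg.Agent.ZassNormal

open MulAction
open Cfsg.Agent.CharDeep
open scoped ComplexConjugate

variable {G Ω : Type*} [Group G] [Fintype G] [DecidableEq G] [MulAction G Ω] [Fintype Ω]
  [DecidableEq Ω]

/-- Column sums determine the multiplicities in a subgroup. -/
theorem sum_umult {U : Subgroup G} [Fintype U] (θ : Cfsg.IrrCharacter U)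
    (α : Cfsg.IrrCharacter G → ℂ) (F : U → ℂ) (hF : ∀ u : U, ∑ χ, α χ * (χ : G → ℂ) u = F u) :
    ∑ χ, α χ * (umult χ θ : ℂ) = Cfsg.classInner F θ := by
  have h : ∀ χ : Cfsg.IrrCharacter G, α χ * (umult χ θ : ℂ) = α χ * ((Nat.card U : ℂ)⁻¹ *
      ∑ u : U, (χ : G → ℂ) u * conj ((θ : U → ℂ) u)) := fun χ => by
    rw [← umult_spec, CharCore.classInner_def]
  rw [Finset.sum_congr rfl fun χ _ => h χ, CharCore.classInner_def]
  simp only [← hF, Finset.sum_mul, Finset.mul_sum]
  rw [Finset.sum_comm]
  exact Finset.sum_congr rfl fun u _ => Finset.sum_congr rfl fun χ _ => by ring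

/-- The inner product of a function constant off the identity with a non-principal character. -/
theorem classInner_const_off {H : Type*} [Group H] [Fintype H] (F : H → ℂ) {α β : ℂ}
    (h1 : F 1 = α) (h : ∀ u, u ≠ 1 → F u = β) (θ : Cfsg.IrrCharacter H) (hθ : θ ≠ oneIrr H)
    {d : ℕ} (hd : (θ : H → ℂ) 1 = d) :
    Cfsg.classInner F θ = (α - β) * d / (Nat.card H : ℂ) := by
  classical
  have horth := CharCore.classInner_irr_of_ne hθ
  rw [CharCore.classInner_def] at horth
  simp only [oneIrr, Pi.one_apply, map_one, mul_one] at horth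
  have hsum : ∑ u : H, conj ((θ : H → ℂ) u) = 0 := by
    rw [← map_sum, (mul_eq_zero.1 horth).resolve_left
      (inv_ne_zero (Nat.cast_ne_zero.2 Nat.card_pos.ne')), map_zero]
  have hterm : ∀ u : H, F u * conj ((θ : H → ℂ) u) = β * conj ((θ : H → ℂ) u)
      + if u = 1 then (α - β) * d else 0 := by
    intro u
    by_cases hu : u = 1
    · subst hu
      rw [if_pos rfl, h1, hd, Complex.conj_natCast]; ring
    · rw [if_neg hu, add_zero, h u hu]
  rw [CharCore.classInner_def, Finset.sum_congr rfl fun u _ => hterm u, Finset.sum_add_distrib,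
    ← Finset.mul_sum, hsum, mul_zero, zero_add, Finset.sum_ite_eq', if_pos (Finset.mem_univ _),
    div_eq_inv_mul]

omit [DecidableEq G] in
/-- Character values at involutions are integers. -/
theorem exists_int_invol (χ : Cfsg.IrrCharacter G) {t : G} (ht : t * t = 1) :
    ∃ z : ℤ, (χ : G → ℂ) t = z := by
  obtain ⟨n, ρ, -, he⟩ := χ.2
  set A := ρ t
  have hA : A * A = 1 := by rw [← map_mul, ht, map_one]
  set P : Module.End ℂ (Fin n → ℂ) := (2 : ℂ)⁻¹ • (1 + A) with hP
  have hidem : P * P = P := by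
    have h2 : (1 + A) * (1 + A) = (2 : ℂ) • (1 + A) := by
      rw [add_mul, one_mul, mul_add, hA, two_smul, show A * 1 = A from mul_one A]
      abel
    rw [hP, smul_mul_assoc, mul_smul_comm, smul_smul, h2, smul_smul]
    norm_num
  have hproj := LinearMap.IsIdempotentElem.isProj_range P hidem
  have htr := hproj.trace
  refine ⟨2 * (Module.finrank ℂ (LinearMap.range P) : ℤ) - n, ?_⟩
  rw [hP, map_smul, map_add, LinearMap.trace_one, Module.finrank_fin_fun, smul_eq_mul,
    inv_mul_eq_iff_eq_mul₀ two_ne_zero, ← hP] at htr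
  rw [← congrFun he t]
  show LinearMap.trace ℂ _ A = _
  push_cast
  linear_combination htr

variable (hZ : Cfsg.IsZassenhausGroup G Ω) {a b : Ω} (hab : a ≠ b) {U : Subgroup G}
  (hU : Zass.IsKernel a U) [IsSimpleGroup G] (hodd : Odd (Nat.card ↥(Zass.two G a b)))

include hZ hab hU hodd

/-- A non-cuspidal character at a fixed-point-free element. -/
theorem noncusp_fpf [Fintype U] (χ : Cfsg.IrrCharacter G) (hχ : χ ≠ oneIrr G)
    (hf : umult χ (oneIrr U) ≠ 0) {g : G} (hg : ∀ x : Ω, g • x ≠ x) {z : U} (hz : z ≠ 1) :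
    (χ : G → ℂ) g = (χ : G → ℂ) z - 1 := by
  classical
  obtain ⟨D, c, hDc, hD, hc, -, h0⟩ := noncusp_values hZ hab hU hodd χ hχ hf
  have hzv := hc z z.2 fun h => hz (Subtype.ext h)
  rw [hzv]
  have := Fintype.ofFinite (stabilizer G a)
  set B := stabilizer G a
  have hpre := Zass.pretransitive hZ
  choose σ hσ using fun x : Ω => MulAction.exists_smul_eq G a x
  have hzero : ∀ θ : B → ℂ, Cfsg.IsClassFunction B θ → Cfsg.indFun B θ g = 0 := fun θ hθ => by
    rw [Zass.indFun_eq_sum_fix hθ σ hσ]
    exact Finset.sum_eq_zero fun x _ => Zass.extendByZero_eq_zero_of_moved hσ (hg x)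
  rcases hDc with ⟨-, rfl⟩ | ⟨rfl, rfl⟩
  · rw [h0 rfl]
    show Cfsg.indFun B (fun _ => (1 : ℂ)) g - 1 = _
    rw [hzero _ fun _ _ => rfl, Nat.cast_zero]
  rw [Nat.cast_one, sub_self]
  obtain ⟨m, hm⟩ := CharCore.IsCharacter.exists_sum
    (CharCore.isCharacter_restrict (CharCore.irr_isCharacter χ) B)
  obtain ⟨η, hmη, hη⟩ : ∃ η, m η ≠ 0 ∧
      ∑ u : U, (η : B → ℂ) (Subgroup.inclusion hU.le u) ≠ 0 := by
    by_contra hcon
    push Not at hcon
    apply hf
    have h1 := umult_spec χ (oneIrr U)
    rw [CharCore.classInner_def] at h1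
    simp only [oneIrr, Pi.one_apply, map_one, mul_one] at h1
    have h2 : ∑ u : U, (χ : G → ℂ) u = 0 := by
      rw [Finset.sum_congr rfl (g := fun u : U => ∑ η, (m η : ℂ) * (η : B → ℂ)
        (Subgroup.inclusion hU.le u)) fun u _ => by
          have := congrFun hm (Subgroup.inclusion hU.le u)
          simpa using this, Finset.sum_comm]
      refine Finset.sum_eq_zero fun η _ => ?_
      rw [← Finset.mul_sum]
      by_cases h : m η = 0
      · rw [h, Nat.cast_zero, zero_mul]
      · rw [hcon η h, mul_zero]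
    rw [h2, mul_zero] at h1
    exact_mod_cast h1.symm
  obtain ⟨f, hfU, hfη⟩ := exists_hom_of_avg hZ hab hU hodd η hη
  set P := Cfsg.indFun B (fun g => (f g : ℂ)) with hP
  have hfc : Cfsg.IsClassFunction B (fun g => (f g : ℂ)) := CharCore.IsCharacter.isClassFunction
    (CharCore.IsIrrCharacter.isCharacter (CharCore.isIrrCharacter_hom f))
  have hPc : Cfsg.IsCharacter G P :=
    CharInd.isCharacter_indFun B (CharCore.IsIrrCharacter.isCharacter (CharCore.isIrrCharacter_hom f))
  have hPχ : Cfsg.classInner P χ ≠ 0 := by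
    rw [hP, CharInd.classInner_indFun_left B _ (CharCore.irr_isClassFunction χ),
      ← CharCore.conj_classInner, hm, ← hfη, CharCore.classInner_sum_all, Complex.conj_natCast]
    exact_mod_cast hmη
  have hne : ∃ s, f s ≠ 1 := by
    by_contra hne
    push Not at hne
    obtain ⟨k, hk⟩ := CharCore.IsCharacter.exists_sum hPc
    have hk1 : k (oneIrr G) = 1 := by
      have h1 : Cfsg.classInner P (oneIrr G : G → ℂ) = 1 := by
        rw [hP, CharInd.classInner_indFun_left B _ (CharCore.irr_isClassFunction _),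
          CharCore.classInner_def]
        simp only [oneIrr, Pi.one_apply, map_one, mul_one, hne, Units.val_one, Finset.sum_const,
          Finset.card_univ, nsmul_eq_mul, ← Nat.card_eq_fintype_card]
        exact inv_mul_cancel₀ (CharInd.natCard_subgroup_ne_zero B)
      rw [hk, CharCore.classInner_sum_all] at h1
      exact_mod_cast h1
    have hkχ : 0 < k χ := Nat.pos_of_ne_zero fun h => hPχ (by
      rw [hk, CharCore.classInner_sum_all, h, Nat.cast_zero])
    choose deg hdeg using fun ψ : Cfsg.IrrCharacter G =>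
      CharCore.IsCharacter.exists_degree (CharCore.irr_isCharacter ψ)
    have hdeg1 : deg (oneIrr G) = 1 := by
      have h := hdeg (oneIrr G)
      rw [show ((oneIrr G : Cfsg.IrrCharacter G) : G → ℂ) 1 = 1 from rfl] at h
      exact_mod_cast h.symm
    have hdegχ : deg χ = Fintype.card Ω := by
      have h := hdeg χ
      rw [hD] at h
      exact_mod_cast h.symm
    have h := congrFun hk 1
    rw [hP, Zass.indFun_hom_one hZ hab f] at h
    simp only [Finset.sum_apply, Pi.smul_apply, smul_eq_mul, hdeg] at h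
    have h' : Fintype.card Ω = ∑ ψ, k ψ * deg ψ := by exact_mod_cast h
    rw [← Finset.add_sum_erase _ _ (Finset.mem_univ (oneIrr G)), hk1, hdeg1, ← Finset.add_sum_erase
      _ _ (Finset.mem_erase.2 ⟨hχ, Finset.mem_univ χ⟩), hdegχ] at h'
    have := Nat.le_mul_of_pos_left (Fintype.card Ω) hkχ
    omega
  have hirr : Cfsg.IsIrrCharacter G P := Zass.isIrr_indFun_hom hZ hab f hodd hU hfU hne
  have heq : (⟨P, hirr⟩ : Cfsg.IrrCharacter G) = χ := by
    by_contra h
    exact hPχ (CharCore.classInner_irr_of_ne h)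
  rw [← heq]
  exact hzero _ hfc

end Cfsg.Agent.ZassNormal
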