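import Cfsg.Agent.Lib.Zassenhaus.Normal
import Cfsg.Agent.Lib.Zassenhaus.FieldAutPrime
import Cfsg.Agent.Lib.Frobenius.Nilpotent
import Cfsg.Agent.Lib.Perm.RegularNormal
import Cfsg.Agent.CharDeep.FpfCyclic

/-!
Two-transitive groups with trivial three-point stabilisers, non-trivial two-point stabilisers and
a regular normal subgroup: the degree is `2 ^ p` with `p` prime.
-/

set_option autoImplicit false

namespace Cfsg.Agent.ZassNormal

open MulAction
open scoped Pointwise

variable {G Ω : Type*} [Group G] [MulAction G Ω] [FaithfulSMul G Ω] {N : Subgroup G} [N.Normal]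

section Frob

variable {a b : Ω} (h2 : IsMultiplyPretransitive G Ω 2)
  (h3 : ∀ g : G, ∀ a b c : Ω, a ≠ b → b ≠ c → a ≠ c → g • a = a → g • b = b → g • c = c → g = 1)

include h2 h3

omit [FaithfulSMul G Ω] in
theorem isFrobeniusComplement_two (hab : a ≠ b) {c : Ω} (hca : c ≠ a) (hcb : c ≠ b)
    {g : G} (hg : g ≠ 1) (hga : g • a = a) (hgb : g • b = b) :
    Cfsg.IsFrobeniusComplement
      ((stabilizer G a ⊓ stabilizer G b).subgroupOf (stabilizer G a)) := by
  refine ⟨fun h => ?_, fun h => ?_, fun k hk => ?_⟩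
  · have : (⟨g, hga⟩ : stabilizer G a) ∈
        (stabilizer G a ⊓ stabilizer G b).subgroupOf (stabilizer G a) := ⟨hga, hgb⟩
    rw [h, Subgroup.mem_bot] at this
    exact hg (congrArg Subtype.val this)
  · obtain ⟨k, hka, hkb⟩ := is_two_pretransitive_iff.1 h2 hab (Ne.symm hca)
    have : (⟨k, hka⟩ : stabilizer G a) ∈
        (stabilizer G a ⊓ stabilizer G b).subgroupOf (stabilizer G a) := by
      rw [h]; exact Subgroup.mem_top _
    exact hcb (hkb.symm.trans (this : k ∈ stabilizer G a ⊓ stabilizer G b).2)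
  · rw [Subgroup.eq_bot_iff_forall]
    intro y hy
    obtain ⟨hy1, hy2⟩ := hy
    replace hy2 : y ∈ MulAut.conj k •
        (stabilizer G a ⊓ stabilizer G b).subgroupOf (stabilizer G a) := hy2
    rw [Subgroup.mem_pointwise_smul_iff_inv_smul_mem, MulAut.smul_def,
      MulAut.conj_inv_apply] at hy2
    have hy2' : ((k : G)⁻¹ * y * k) • b = b := (hy2 : _ ∈ stabilizer G a ⊓ stabilizer G b).2
    rw [mul_smul, mul_smul, inv_smul_eq_iff] at hy2'
    refine Subtype.ext (h3 y a b ((k : G) • b) hab (fun h => hk ⟨k.2, h.symm⟩) ?_ y.2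
      (hy1 : (y : G) ∈ stabilizer G a ⊓ stabilizer G b).2 hy2')
    intro h
    exact hab (MulAction.injective (k : G) ((mem_stabilizer_iff.1 k.2).trans h))

end Frob

section Main

variable [Finite Ω] (h2 : IsMultiplyPretransitive G Ω 2)
  (h3 : ∀ g : G, ∀ a b c : Ω, a ≠ b → b ≠ c → a ≠ c → g • a = a → g • b = b → g • c = c → g = 1)
  [IsPretransitive N Ω] (hNr : ∀ a : Ω, stabilizer N a = ⊥)

include h2 h3 hNr

theorem card_eq_two_pow_prime {g : G} (hg : g ≠ 1) {a b : Ω} (hab : a ≠ b) (hga : g • a = a)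
    (hgb : g • b = b) : ∃ p : ℕ, p.Prime ∧ Nat.card Ω = 2 ^ p := by
  classical
  have : Finite G := Finite.of_injective _ (MulAction.toPerm_injective (α := G) (β := Ω))
  -- a third point
  obtain ⟨c, hca, hcb⟩ : ∃ c : Ω, c ≠ a ∧ c ≠ b := by
    by_contra h
    push Not at h
    refine hg (eq_of_smul_eq_smul fun d : Ω => ?_)
    rw [one_smul]
    by_cases hd : d = a
    · rw [hd, hga]
    · rw [h d hd, hgb]
  -- the correspondence `n ↦ n • a`
  have huniq : ∀ {n n' : G}, n ∈ N → n' ∈ N → n • a = n' • a → n = n' := fun hn hn' h =>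
    eq_of_smul hNr hn hn' h
  have hconjN : ∀ (k : G), ∀ n ∈ N, k * n * k⁻¹ ∈ N := fun k n hn =>
    Subgroup.Normal.conj_mem inferInstance n hn k
  have hconj : ∀ {k : G}, k • a = a → ∀ n : G, (k * n * k⁻¹) • a = k • (n • a) := by
    intro k hk n
    rw [mul_smul, mul_smul, inv_smul_eq_iff.2 hk.symm]
  obtain ⟨⟨u, huN⟩, hu⟩ := exists_smul_eq N a b
  have hu' : u • a = b := hu
  have hu1 : u ≠ 1 := fun h => hab (by rw [← hu', h, one_smul])
  -- fixed elements of an element fixing `a` and `b`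
  have hcent : ∀ {k : G}, k ≠ 1 → k • a = a → k • b = b → ∀ n ∈ N,
      (k * n * k⁻¹ = n ↔ n = 1 ∨ n = u) := by
    intro k hk hka hkb n hn
    constructor
    · intro h
      have h' : k • (n • a) = n • a := by rw [← hconj hka, h]
      by_contra hcon
      push Not at hcon
      refine hk (h3 k a b (n • a) hab ?_ ?_ hka hkb h')
      · intro e; exact hcon.2 (huniq hn huN (by rw [← e, hu']))
      · intro e; exact hcon.1 (huniq hn N.one_mem (by rw [one_smul, ← e]))
    · rintro (h | h)
      · rw [h]; group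
      · rw [h]; exact huniq (hconjN k u huN) huN (by rw [hconj hka, hu', hkb])
  -- exponent two
  have huu : u * u = 1 := by
    rcases (hcent hg hga hgb (u * u) (N.mul_mem huN huN)).1 (by
      have := (hcent hg hga hgb u huN).2 (Or.inr rfl)
      calc g * (u * u) * g⁻¹ = (g * u * g⁻¹) * (g * u * g⁻¹) := by group
        _ = u * u := by rw [this]) with h | h
    · exact h
    · exact absurd (mul_eq_left.1 h) hu1
  have hN2 : IsMultiplyPretransitive G Ω 2 := h2
  have htr : ∀ n ∈ N, n ≠ 1 → ∃ k : G, k • a = a ∧ k * u * k⁻¹ = n :=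
    fun n hn hn1 => conj_transitive h2 hNr a huN hn hu1 hn1
  have hsq : ∀ n ∈ N, n ^ 2 = 1 := by
    intro n hn
    by_cases hn1 : n = 1
    · rw [hn1, one_pow]
    obtain ⟨k, -, rfl⟩ := htr n hn hn1
    rw [conj_pow, pow_two, huu]; group
  have : IsMulCommutative N := Cfsg.Agent.Perm.isMulCommutative_of_sq_eq_one hsq
  have hcard : Nat.card N = Nat.card Ω := Nat.card_congr (Equiv.ofBijective (fun n : N => n • a)
    ⟨fun n n' h => Subtype.ext (huniq n.2 n'.2 h), fun d => exists_smul_eq N a d⟩)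
  have h2N : IsPGroup 2 N := fun n => ⟨1, Subtype.ext (by simpa using hsq n n.2)⟩
  have : Fact (Nat.Prime 2) := ⟨Nat.prime_two⟩
  have hcard3 : 2 < Nat.card Ω := by
    have := Fintype.ofFinite Ω
    rw [Nat.card_eq_fintype_card, ← Finset.card_univ, Finset.two_lt_card_iff]
    exact ⟨a, b, c, Finset.mem_univ _, Finset.mem_univ _, Finset.mem_univ _, hab, hca.symm,
      hcb.symm⟩
  -- the kernel of the point stabiliser
  have hC := isFrobeniusComplement_two h2 h3 hab hca hcb hg hga hgb
  obtain ⟨K, hK, hKn, hKnil⟩ := Cfsg.Agent.Frobenius.frobeniusKernel_isNilpotent hC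
  obtain ⟨K₀, hK₀, -, hK₀c⟩ := Cfsg.Agent.Frobenius.exists_frobeniusKernel_subgroup hC
  obtain rfl : K₀ = K := SetLike.coe_injective (hK₀.trans hK.symm)
  have hKfix : ∀ y ∈ K₀, y ≠ 1 → ∀ d : Ω, d ≠ a → (y : G) • d ≠ d := by
    intro y hy hy1 d hd hyd
    have hy' : y ∈ (K₀ : Set (stabilizer G a)) := hy
    rw [hK] at hy'
    obtain ⟨k, hka, hkb⟩ := is_two_pretransitive_iff.1 h2 hab (Ne.symm hd)
    refine (hy'.resolve_left hy1) ⟨k, hka⟩ ?_
    rw [Subgroup.mem_pointwise_smul_iff_inv_smul_mem, MulAut.smul_def, MulAut.conj_inv_apply]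
    show k⁻¹ * (y : G) * k ∈ stabilizer G a ⊓ stabilizer G b
    refine ⟨?_, ?_⟩
    · show (k⁻¹ * (y : G) * k) • a = a
      rw [mul_smul, mul_smul, hka, mem_stabilizer_iff.1 y.2, inv_smul_eq_iff, hka]
    · show (k⁻¹ * (y : G) * k) • b = b
      rw [mul_smul, mul_smul, hkb, hyd, inv_smul_eq_iff, hkb]
  have hKtr : ∀ d : Ω, d ≠ a → ∃ y ∈ K₀, (y : G) • b = d := by
    intro d hd
    obtain ⟨k, hka, hkb⟩ := is_two_pretransitive_iff.1 h2 hab (Ne.symm hd)
    obtain ⟨⟨⟨y, hy⟩, ⟨s, hs⟩⟩, hys⟩ := hK₀c.2 ⟨k, hka⟩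
    refine ⟨y, hy, ?_⟩
    have hys' : (y : G) * (s : G) = k := congrArg Subtype.val hys
    have hs' : (s : G) • b = b := (hs : (s : G) ∈ stabilizer G a ⊓ stabilizer G b).2
    rw [← hkb, ← hys', mul_smul, hs']
  -- `K` acts fixed-point-freely on `N`
  letI act : MulDistribMulAction K₀ N :=
    MulDistribMulAction.compHom N ((MulAut.conjNormal (G := G) (H := N)).comp
      ((stabilizer G a).subtype.comp K₀.subtype))
  have hact : ∀ (y : K₀) (n : N), ((y • n : N) : G) = ((y : stabilizer G a) : G) * n *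
      ((y : stabilizer G a) : G)⁻¹ := fun y n => MulAut.conjNormal_apply _ _
  have hfpf : ∀ y : K₀, y ≠ 1 → ∀ n : N, y • n = n → n = 1 := by
    intro y hy n hn
    by_contra hn1
    refine hKfix y y.2 (fun h => hy (Subtype.ext h)) ((n : G) • a) ?_ ?_
    · intro h
      exact hn1 (Subtype.ext (huniq n.2 N.one_mem (h.trans (one_smul G a).symm)))
    · rw [← hconj (mem_stabilizer_iff.1 (y : stabilizer G a).2), ← hact, hn]
  have hKcard : Nat.card K₀ + 1 = Nat.card Ω := by
    have hb : Function.Bijective (fun y : K₀ => (⟨((y : stabilizer G a) : G) • b, fun h =>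
        hab (MulAction.injective _ ((mem_stabilizer_iff.1 (y : stabilizer G a).2).trans h.symm))⟩ :
        {d : Ω // d ≠ a})) := by
      refine ⟨fun y y' h => ?_, fun d => ?_⟩
      · have h' : ((y : stabilizer G a) : G) • b = ((y' : stabilizer G a) : G) • b :=
          congrArg Subtype.val h
        by_contra hne
        refine hKfix _ (K₀.mul_mem (K₀.inv_mem y.2) y'.2) ?_ b hab.symm ?_
        · exact fun h => hne (Subtype.ext (inv_mul_eq_one.1 h))
        · rw [Subgroup.coe_mul, Subgroup.coe_inv, mul_smul, ← h', inv_smul_smul]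
      · obtain ⟨y, hy, hyd⟩ := hKtr d d.2
        exact ⟨⟨y, hy⟩, Subtype.ext hyd⟩
    rw [Nat.card_congr (Equiv.ofBijective _ hb)]
    have := Fintype.ofFinite Ω
    rw [Nat.card_eq_fintype_card, Nat.card_eq_fintype_card, Fintype.card_subtype,
      Finset.filter_ne', Finset.card_erase_of_mem (Finset.mem_univ a), Finset.card_univ]
    have : 0 < Fintype.card Ω := Fintype.card_pos_iff.2 ⟨a⟩
    omega
  obtain ⟨k, hk⟩ := h2N.exists_card_eq
  have hk0 : k ≠ 0 := by
    intro h
    rw [h, pow_zero] at hk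
    omega
  have hKodd : Odd (Nat.card K₀) := by
    have : Even (Nat.card Ω) := by
      rw [← hcard, hk]; exact (Nat.even_pow' hk0).2 even_two
    rw [← hKcard, Nat.even_add_one] at this
    exact Nat.not_even_iff_odd.1 this
  have : Nontrivial N := ⟨⟨⟨u, huN⟩, 1, fun h => hu1 (congrArg Subtype.val h)⟩⟩
  have hKZ : IsZGroup K₀ := Cfsg.Agent.CharDeep.Zass.isZGroup_of_fpf hKodd
    (hk ▸ (Nat.coprime_two_right.2 hKodd).pow_right k) hfpf
  have : IsCyclic K₀ := inferInstance
  -- an element of prime order fixing `a` and `b`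
  set E := stabilizer G a ⊓ stabilizer G b with hE
  have hE1 : Nat.card E ≠ 1 := fun h => hg (by
    have := Subgroup.eq_bot_of_card_eq E h
    exact Subgroup.mem_bot.1 (this ▸ (⟨hga, hgb⟩ : g ∈ E)))
  obtain ⟨r, hr, hrE⟩ := Nat.exists_prime_and_dvd hE1
  have : Fact r.Prime := ⟨hr⟩
  obtain ⟨s, hs⟩ := exists_prime_orderOf_dvd_card' r hrE
  have hs1 : (s : G) ≠ 1 := fun h => hr.ne_one (by
    rw [← hs, show s = 1 from Subtype.ext h, orderOf_one])
  have hsr : (s : G) ^ r = 1 := by rw [← hs, ← Subgroup.orderOf_coe, pow_orderOf_eq_one]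
  -- the additive model
  letI : CommGroup N := { (inferInstance : Group N) with mul_comm := fun x y => mul_comm' x y }
  let e : Additive N ≃+ Additive N := MulEquiv.toAdditive (MulAut.conjNormal (s : G))
  let t : K₀ → AddMonoid.End (Additive N) := fun y =>
    MonoidHom.toAdditive (MulDistribMulAction.toMonoidHom N y)
  have ht : ∀ (y : K₀) (v : Additive N), t y v = Additive.ofMul (y • v.toMul) := fun y v => rfl
  have hcardA : Nat.card (Additive N) = Nat.card Ω := (Nat.card_congr Additive.toMul).trans hcard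
  refine ⟨r, hr, hcardA ▸ ?_⟩
  refine card_eq_two_pow (T := Set.range t) (u := Additive.ofMul (⟨u, huN⟩ : N)) ?_ ?_ ?_ ?_
    (hcardA ▸ hcard3) e ?_ ?_ hr ?_
  · intro v hv
    have hv1 : (v.toMul : G) ≠ 1 := fun h => hv (by
      rw [← ofMul_toMul v, show v.toMul = 1 from Subtype.ext h]; rfl)
    have hva : (v.toMul : G) • a ≠ a := fun h =>
      hv1 (huniq v.toMul.2 N.one_mem (by rw [h, one_smul]))
    obtain ⟨y, hy, hyb⟩ := hKtr _ hva
    refine ⟨_, ⟨⟨y, hy⟩, rfl⟩, ?_⟩
    rw [ht]
    refine Additive.toMul.injective (Subtype.ext (huniq (SetLike.coe_mem _) (SetLike.coe_mem _) ?_))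
    rw [toMul_ofMul, toMul_ofMul, hact, hconj (mem_stabilizer_iff.1 y.2)]
    show (y : G) • u • a = _
    rw [hu', hyb]
  · rintro _ ⟨y, rfl⟩ _ ⟨z, rfl⟩
    refine DFunLike.ext _ _ fun v => ?_
    show t y (t z v) = t z (t y v)
    rw [ht, ht, ht, ht, toMul_ofMul, toMul_ofMul, smul_smul, smul_smul, mul_comm' y z]
  · intro h
    exact hu1 (congrArg (fun v => ((Additive.toMul v : N) : G)) h)
  · rintro _ ⟨y, rfl⟩ v w h
    rw [ht, ht] at h
    exact Additive.toMul.injective (MulAction.injective y (Additive.ofMul.injective h))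
  · rintro _ ⟨y, rfl⟩
    have hsa : (s : G) • a = a := (s.2 : (s : G) ∈ stabilizer G a ⊓ stabilizer G b).1
    refine ⟨_, ⟨⟨(⟨s, hsa⟩ : stabilizer G a) * y * (⟨s, hsa⟩ : stabilizer G a)⁻¹,
      hKn.conj_mem _ y.2 _⟩, rfl⟩, fun v => ?_⟩
    refine Additive.toMul.injective (Subtype.ext ?_)
    rw [ht, toMul_ofMul, hact]
    show (s : G) * ((y : stabilizer G a) : G) * (s : G)⁻¹ *
        ((MulAut.conjNormal (s : G) v.toMul : N) : G) *
        ((s : G) * ((y : stabilizer G a) : G) * (s : G)⁻¹)⁻¹ =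
      ((MulAut.conjNormal (s : G) (y • v.toMul) : N) : G)
    rw [MulAut.conjNormal_apply, MulAut.conjNormal_apply, hact]
    group
  · intro v
    have h := hcent hs1 (s.2 : (s : G) ∈ stabilizer G a ⊓ stabilizer G b).1
      (s.2 : (s : G) ∈ stabilizer G a ⊓ stabilizer G b).2 v.toMul v.toMul.2
    constructor
    · intro hv
      have hv' : (s : G) * v.toMul * (s : G)⁻¹ = v.toMul := by
        rw [← MulAut.conjNormal_apply]
        exact congrArg (fun w => ((Additive.toMul w : N) : G)) hv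
      rcases h.1 hv' with h' | h'
      · exact Or.inl (Additive.toMul.injective (Subtype.ext h'))
      · exact Or.inr (Additive.toMul.injective (Subtype.ext h'))
    · intro hv
      refine Additive.toMul.injective (Subtype.ext ?_)
      show ((MulAut.conjNormal (s : G) v.toMul : N) : G) = v.toMul
      rw [MulAut.conjNormal_apply]
      refine h.2 ?_
      rcases hv with rfl | rfl
      · exact Or.inl rfl
      · exact Or.inr rfl
  · intro v
    have hit : ∀ (m : ℕ) (w : N), ((Additive.toMul (e^[m] (Additive.ofMul w)) : N) : G)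
        = (s : G) ^ m * w * ((s : G) ^ m)⁻¹ := by
      intro m
      induction m with
      | zero => intro w; simp
      | succ m ih =>
        intro w
        rw [Function.iterate_succ_apply,
          show e (Additive.ofMul w) = Additive.ofMul (MulAut.conjNormal (s : G) w) from rfl,
          ih, MulAut.conjNormal_apply, pow_succ]
        group
    refine Additive.toMul.injective (Subtype.ext ?_)
    have := hit r v.toMul
    rw [hsr, ofMul_toMul] at this
    rw [this]; group

end Main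

end Cfsg.Agent.ZassNormal
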