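import Mathlib
import Cfsg.Agent.Lib.CharCore.Complete
import Cfsg.Agent.Lib.CharClifford.Central

/-!
Auxiliary facts for the exclusion of sharply three-transitive simple groups: a parity argument
producing an invariant character of odd degree, and a divisibility contradiction.
-/

set_option autoImplicit false

namespace Cfsg.Agent.ZassNormal

/-- If `d * (1 + j * e)` divides `(m + 2) * (m + 1) * m` with `m = d * e`, `d` odd, `d² < m` and
`d / 2 < j < d`, we have a contradiction. -/
theorem false_of_degree_dvd {d e j : ℕ} (hjd : j < d) (hj : d < 2 * j) (hde : d * d < d * e)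
    (hdvd : d * (1 + j * e) ∣ (d * e + 2) * (d * e + 1) * (d * e)) : False := by
  have hd0 : 0 < d := by omega
  have h1 : 1 + j * e ∣ (d * e + 2) * (d * e + 1) * e := by
    have e1 : (d * e + 2) * (d * e + 1) * (d * e) = d * ((d * e + 2) * (d * e + 1) * e) := by ring
    rw [e1] at hdvd
    exact Nat.dvd_of_mul_dvd_mul_left hd0 hdvd
  have hcop : (1 + j * e).Coprime e := by simp [Nat.Coprime, Nat.gcd_comm]
  have h2 : 1 + j * e ∣ (d * e + 2) * (d * e + 1) := hcop.dvd_of_dvd_mul_right h1
  have h3 : ((1 + j * e : ℕ) : ℤ) ∣ ((d : ℤ) - j) * (2 * j - d) := by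
    have h4 : ((1 + j * e : ℕ) : ℤ) ∣ ((d : ℤ) * e + 2) * ((d : ℤ) * e + 1) * ((j : ℤ) * j) := by
      refine Dvd.dvd.mul_right ?_ _
      exact_mod_cast Int.natCast_dvd_natCast.2 h2
    have key : ((d : ℤ) * e + 2) * ((d : ℤ) * e + 1) * ((j : ℤ) * j)
        = ((1 + j * e : ℕ) : ℤ) * ((d : ℤ) * ((d : ℤ) * (j * e + 1)) + d * ((2 * j - d) - (d - j)))
          - ((d : ℤ) - j) * (2 * j - d) := by
      push_cast; ring
    rw [key] at h4
    exact (dvd_sub_right (dvd_mul_right _ _)).1 h4
  have hpos : 0 < ((d : ℤ) - j) * (2 * j - d) := mul_pos (by omega) (by omega)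
  have hle := Int.le_of_dvd hpos h3
  have hed : d < e := Nat.lt_of_mul_lt_mul_left hde
  push_cast at hle
  have : (d : ℤ) + 1 ≤ e := by omega
  have : (d : ℤ) + 1 ≤ 2 * j := by omega
  nlinarith [sq_nonneg ((d : ℤ) - j - (2 * j - d)), sq_nonneg ((d : ℤ))]

variable {T : Type*} [Group T] [Finite T]

/-- An involutory permutation of the irreducible characters preserving degrees and fixing the
principal character fixes a further character of odd degree, in even order. -/
theorem exists_invariant_odd (heven : Even (Nat.card T)) (e : T ≃* T)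
    (he : ∀ χ : Cfsg.IrrCharacter T, ∀ x, (χ : T → ℂ) (e (e x)) = (χ : T → ℂ) x) :
    ∃ φ : Cfsg.IrrCharacter T, (∀ x, (φ : T → ℂ) (e x) = (φ : T → ℂ) x) ∧
      (φ : T → ℂ) ≠ 1 ∧ ∃ d : ℕ, (φ : T → ℂ) 1 = d ∧ Odd d ∧ d ∣ Nat.card T ∧
        d * d < Nat.card T := by
  classical
  have := Fintype.ofFinite T
  have := Fintype.ofFinite (Cfsg.IrrCharacter T)
  choose deg hdeg0 hdegdvd hdeg using fun χ : Cfsg.IrrCharacter T =>
    CharClifford.exists_degree_dvd_card χ.2
  let f : Cfsg.IrrCharacter T → Cfsg.IrrCharacter T := fun χ =>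
    ⟨fun x => (χ : T → ℂ) (e x),
      CharCore.isIrrCharacter_comp_surjective χ.2 e.toMonoidHom e.surjective⟩
  have hfdeg : ∀ χ, deg (f χ) = deg χ := by
    intro χ
    have h1 := hdeg (f χ)
    have h2 := hdeg χ
    change (χ : T → ℂ) (e 1) = _ at h1
    rw [map_one, h2] at h1
    exact_mod_cast h1.symm
  have hff : ∀ χ, f (f χ) = χ := fun χ => Subtype.ext (funext fun x => he χ x)
  let one : Cfsg.IrrCharacter T := ⟨1, CharCore.isIrrCharacter_one⟩
  have hone : deg one = 1 := by
    have := hdeg one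
    change (1 : T → ℂ) 1 = _ at this
    rw [Pi.one_apply] at this
    exact_mod_cast this.symm
  have hsum : ∑ χ, deg χ * deg χ = Nat.card T := by
    have h := CharCore.sum_degree_sq (G := T)
    rw [← Nat.cast_inj (R := ℂ), ← h, Nat.cast_sum]
    refine Finset.sum_congr (by ext; simp) fun χ _ => ?_
    rw [hdeg, Nat.cast_mul, sq]
  let O : Finset (Cfsg.IrrCharacter T) := Finset.univ.filter fun χ => Odd (deg χ)
  have hO : Even O.card := by
    have h1 : Even (∑ χ, deg χ * deg χ) := hsum ▸ heven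
    rw [Finset.even_sum_iff_even_card_odd] at h1
    refine (congrArg (fun s : Finset _ => Even s.card) ?_).mp h1
    ext χ
    simp [O, Nat.odd_mul]
  -- pair off the characters in `O` not fixed by `f`
  have hpar : ∑ χ ∈ O.filter (fun χ => f χ ≠ χ), (1 : ZMod 2) = 0 := by
    refine Finset.sum_involution (fun χ _ => f χ) (fun χ _ => by decide) ?_ ?_ (fun χ _ => hff χ)
    · intro χ hχ _
      exact (Finset.mem_filter.1 hχ).2
    · intro χ hχ
      simp only [O, Finset.mem_filter, Finset.mem_univ, true_and, hfdeg, hff] at hχ ⊢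
      exact ⟨hχ.1, Ne.symm hχ.2⟩
  rw [Finset.sum_const, nsmul_one, ZMod.natCast_eq_zero_iff_even] at hpar
  have hfix : Even (O.filter (fun χ => f χ = χ)).card := by
    have := Finset.card_filter_add_card_filter_not (s := O) (fun χ => f χ = χ)
    rw [← this, Nat.even_add] at hO
    exact hO.2 hpar
  have hmem : one ∈ O.filter (fun χ => f χ = χ) := by
    simp only [O, Finset.mem_filter, Finset.mem_univ, true_and, hone]
    exact ⟨odd_one, Subtype.ext (funext fun x => rfl)⟩
  obtain ⟨φ, hφ, hφ1⟩ : ∃ φ ∈ O.filter (fun χ => f χ = χ), φ ≠ one := by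
    refine Finset.exists_mem_ne ?_ one
    obtain ⟨k, hk⟩ := hfix
    have := Finset.card_pos.2 ⟨one, hmem⟩
    omega
  simp only [O, Finset.mem_filter, Finset.mem_univ, true_and] at hφ
  refine ⟨φ, fun x => congrArg (fun χ : Cfsg.IrrCharacter T => (χ : T → ℂ) x) hφ.2,
    fun h => hφ1 (Subtype.ext h), deg φ, hdeg φ, hφ.1, hdegdvd φ, ?_⟩
  have h2 := Finset.add_sum_erase Finset.univ (fun χ => deg χ * deg χ) (Finset.mem_univ φ)
  have h3 := Finset.single_le_sum (f := fun χ => deg χ * deg χ)
    (fun χ _ => Nat.zero_le _) (Finset.mem_erase.2 ⟨Ne.symm hφ1, Finset.mem_univ one⟩)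
  simp only [hone] at h3
  rw [hsum] at h2
  omega

end Cfsg.Agent.ZassNormal
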