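import Cfsg.Agent.CharDeep.ZassFrobenius
import Cfsg.Agent.Lib.Zassenhaus.SharpArith
import Cfsg.Agent.Lib.CharInd.Basic
import Cfsg.Agent.Lib.CharInd.Char
import Cfsg.Agent.Lib.CharCore.Linear
import Cfsg.Agent.Lib.CharClifford.Galois

/-!
A sharply three-transitive Zassenhaus group with two-point stabilisers of even order is not simple:
a suitable constituent of an induced character would have a degree not dividing the group order.
-/

set_option autoImplicit false

namespace Cfsg.Agent.ZassNormal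

open MulAction
open Cfsg.Agent.CharDeep
open scoped ComplexConjugate

variable {G Ω : Type*} [Group G] [Fintype G] [DecidableEq G] [MulAction G Ω] [Fintype Ω]
  [DecidableEq Ω] (hZ : Cfsg.IsZassenhausGroup G Ω) {a b : Ω} (hab : a ≠ b) {U : Subgroup G}
  (hU : Zass.IsKernel a U)

include hZ hab hU

/-- The projection of a point stabiliser onto the two-point stabiliser. -/
theorem exists_proj : ∃ π : stabilizer G a →* Zass.two G a b,
    (∀ g : stabilizer G a, (g : G) * (π g : G)⁻¹ ∈ U) ∧ (∀ g : stabilizer G a, ∀ x : Zass.two G a b,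
      (g : G) * (x : G)⁻¹ ∈ U → π g = x) := by
  choose u hu x hx he using fun g : stabilizer G a => Zass.exists_kernel_mul hZ hab hU g.2
  have huniq : ∀ g : stabilizer G a, ∀ y : Zass.two G a b,
      (g : G) * (y : G)⁻¹ ∈ U → (⟨x g, hx g⟩ : Zass.two G a b) = y := by
    intro g y hy
    apply Subtype.ext
    have h1 : (u g)⁻¹ * ((g : G) * (y : G)⁻¹) ∈ U := U.mul_mem (U.inv_mem (hu g)) hy
    have h2 : (u g)⁻¹ * ((g : G) * (y : G)⁻¹) = x g * (y : G)⁻¹ := by rw [he g]; group
    rw [h2] at h1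
    have h3 : (x g * (y : G)⁻¹) ∈ Zass.two G a b :=
      (Zass.two G a b).mul_mem (hx g) ((Zass.two G a b).inv_mem y.2)
    exact mul_inv_eq_one.1 (Zass.kernel_inf_two hZ hab hU h1 h3.2)
  refine ⟨MonoidHom.mk' (fun g => ⟨x g, hx g⟩) fun g g' => ?_, fun g => ?_, huniq⟩
  · refine huniq (g * g') (⟨x g, hx g⟩ * ⟨x g', hx g'⟩) ?_
    have h1 := U.mul_mem (hu g) (Zass.kernel_normal hZ hU (g := x g) (hx g).1 (hu g'))
    have h2 : ((g * g' : stabilizer G a) : G) * ((x g * x g' : G))⁻¹
        = u g * (x g * u g' * (x g)⁻¹) := by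
      rw [Subgroup.coe_mul, he g, he g']; group
    show ((g * g' : stabilizer G a) : G) * ((x g * x g' : G))⁻¹ ∈ U
    rw [h2]; exact h1
  · show (g : G) * (x g)⁻¹ ∈ U
    rw [he g, mul_inv_cancel_right]
    exact hu g

variable (hfull : Nat.card ↥(Zass.two G a b) + 2 = Fintype.card Ω)

include hfull

/-- In the sharply three-transitive case the two-point stabiliser is transitive on the
non-identity elements of the kernel. -/
theorem conj_transitive_kernel {u v : G} (hu : u ∈ U) (hu1 : u ≠ 1) (hv : v ∈ U) (hv1 : v ≠ 1) :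
    ∃ x ∈ Zass.two G a b, x * u * x⁻¹ = v := by
  classical
  have hne : ∀ w ∈ U, w ≠ 1 → w • b ≠ a ∧ w • b ≠ b := by
    intro w hw hw1
    refine ⟨fun h => hab ?_, fun h => hw1 (Zass.kernel_inf_two hZ hab hU hw h)⟩
    exact (MulAction.injective w (h.trans (mem_stabilizer_iff.1 (hU.le hw)).symm)).symm
  set c := u • b
  obtain ⟨hca, hcb⟩ := hne u hu hu1
  set S := (Finset.univ.filter fun x : G => x ∈ Zass.two G a b).image fun x => x • c
  have hsub : S ⊆ ((Finset.univ.erase a).erase b) := by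
    intro d hd
    simp only [S, Finset.mem_image, Finset.mem_filter, Finset.mem_univ, true_and] at hd
    obtain ⟨x, hx, rfl⟩ := hd
    simp only [Finset.mem_erase, Finset.mem_univ, and_true]
    exact ⟨fun h => hcb (MulAction.injective x (h.trans hx.2.symm)),
      fun h => hca (MulAction.injective x (h.trans hx.1.symm))⟩
  have heq := Finset.eq_of_subset_of_card_le hsub (by
    show _ ≤ (Finset.image _ _).card
    rw [Finset.card_erase_of_mem (Finset.mem_erase.2 ⟨hab.symm, Finset.mem_univ b⟩),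
      Finset.card_erase_of_mem (Finset.mem_univ a), Finset.card_univ, Finset.card_image_of_injOn,
      ← Fintype.card_subtype]
    · simp only [Nat.card_eq_fintype_card] at hfull
      omega
    · intro x hx y hy h
      simp only [Finset.coe_filter, Finset.mem_univ, true_and, Set.mem_setOf_eq] at hx hy
      have hz := (Zass.two G a b).mul_mem ((Zass.two G a b).inv_mem hy) hx
      have hxy : x • c = y • c := h
      exact (inv_mul_eq_one.1 (Zass.eq_one_of_three hZ hab (Ne.symm hcb) (Ne.symm hca) hz.1 hz.2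
        (by rw [mul_smul, hxy, inv_smul_smul]))).symm)
  obtain ⟨hva, hvb⟩ := hne v hv hv1
  have hvS : v • b ∈ S := by rw [heq]; simp [hva, hvb]
  simp only [S, Finset.mem_image, Finset.mem_filter, Finset.mem_univ, true_and] at hvS
  obtain ⟨x, hx, hxv⟩ := hvS
  refine ⟨x, hx, ?_⟩
  have hm := Zass.kernel_normal hZ hU (g := x) hx.1 hu
  have hb : (x * u * x⁻¹) • b = v • b := by
    rw [mul_smul, mul_smul, inv_smul_eq_iff.2 hx.2.symm]
    exact hxv
  refine (inv_mul_eq_one.1 (Zass.kernel_inf_two hZ hab hU (U.mul_mem (U.inv_mem hv) hm) ?_)).symm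
  rw [mul_smul, hb, inv_smul_smul]

/-- **A simple Zassenhaus group is not sharply three-transitive with even two-point
stabilisers.** -/
theorem false_of_sharp [IsSimpleGroup G] (heven : Even (Nat.card ↥(Zass.two G a b))) : False := by
  classical
  set T := Zass.two G a b with hT
  set B := stabilizer G a with hB
  obtain ⟨w, hwa, hwb⟩ := Zass.exists_swap hZ hab
  have hconj : ∀ x : G, x ∈ T → w * x * w⁻¹ ∈ T := fun x hx => Zass.conj_swap_mem ⟨hwa, hwb⟩ hx
  have hwa' : w⁻¹ • a = b := inv_smul_eq_iff.2 hwb.symm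
  have hwb' : w⁻¹ • b = a := inv_smul_eq_iff.2 hwa.symm
  have hconj' : ∀ x : G, x ∈ T → w⁻¹ * x * w ∈ T := fun x hx => by
    have h := Zass.conj_swap_mem ⟨hwa', hwb'⟩ hx
    rwa [inv_inv] at h
  let e : T ≃* T :=
    { toFun := fun x => ⟨w * x * w⁻¹, hconj x x.2⟩
      invFun := fun x => ⟨w⁻¹ * x * w, hconj' x x.2⟩
      left_inv := fun x => Subtype.ext (by simp [mul_assoc])
      right_inv := fun x => Subtype.ext (by simp [mul_assoc])
      map_mul' := fun x y => Subtype.ext (by simp [mul_assoc]) }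
  have hww : w * w ∈ T := Zass.swap_mul_mem ⟨hwa, hwb⟩ ⟨hwa, hwb⟩
  obtain ⟨φ, hφe, hφ1, d, hd, hdodd, hddvd, hdsq⟩ := exists_invariant_odd heven e (fun χ x => by
    rw [show e (e x) = (⟨w * w, hww⟩ : T) * x * (⟨w * w, hww⟩ : T)⁻¹ from
      Subtype.ext (by simp [e, mul_assoc])]
    exact CharCore.irr_isClassFunction χ x ⟨w * w, hww⟩)
  obtain ⟨π, hπ, hπu⟩ := exists_proj hZ hab hU
  have hπT : ∀ x : T, π ⟨x, x.2.1⟩ = x := fun x => hπu _ x (by simp)
  have hπsurj : Function.Surjective π := fun x => ⟨_, hπT x⟩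
  let φB : Cfsg.IrrCharacter B := ⟨fun g => (φ : T → ℂ) (π g),
    CharCore.isIrrCharacter_comp_surjective φ.2 π hπsurj⟩
  have hφBc := CharCore.irr_isClassFunction φB
  have hφBU : ∀ g : B, (g : G) ∈ U → (φB : B → ℂ) g = d := by
    intro g hg
    show (φ : T → ℂ) (π g) = d
    rw [hπu g 1 (by simpa using hg), hd]
  set Θ := Cfsg.indFun B (φB : B → ℂ) with hΘ
  have hΘchar : Cfsg.IsCharacter G Θ :=
    CharInd.isCharacter_indFun B (CharCore.irr_isCharacter φB)
  have hn3 := Zass.three_le_card hZ hab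
  have hHcard := hU.card
  -- values of `Θ` as sums over points
  have hpre := Zass.pretransitive hZ
  choose r hr using fun c : Ω => MulAction.exists_smul_eq G a c
  have hval : ∀ g : G, Θ g = ∑ c : Ω, Cfsg.extendByZero B (φB : B → ℂ) ((r c)⁻¹ * g * r c) := by
    intro g
    let pnt : G ⧸ B → Ω := fun q => q.out • a
    have hbij : Function.Bijective pnt := by
      refine ⟨fun p q h => ?_, fun c => ⟨QuotientGroup.mk (r c), ?_⟩⟩
      · rw [← QuotientGroup.out_eq' p, ← QuotientGroup.out_eq' q, QuotientGroup.eq]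
        show (p.out⁻¹ * q.out) • a = a
        rw [mul_smul, show q.out • a = p.out • a from h.symm, inv_smul_smul]
      · show (QuotientGroup.mk (r c) : G ⧸ B).out • a = c
        obtain ⟨y, hy⟩ := QuotientGroup.mk_out_eq_mul B (r c)
        rw [hy, mul_smul, mem_stabilizer_iff.1 y.2, hr]
    rw [hΘ, CharInd.indFun_apply_cosets hφBc (fun q => r (pnt q)) (fun q => ?_)]
    · exact Fintype.sum_bijective pnt hbij _ _ fun q => rfl
    · refine Eq.trans ?_ (QuotientGroup.out_eq' q)
      rw [QuotientGroup.eq]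
      show ((r (pnt q))⁻¹ * q.out) • a = a
      rw [mul_smul, inv_smul_eq_iff, hr]
  have hterm0 : ∀ g : G, ∀ c : Ω, g • c ≠ c →
      Cfsg.extendByZero B (φB : B → ℂ) ((r c)⁻¹ * g * r c) = 0 := by
    intro g c hgc
    refine CharInd.extendByZero_notMem _ fun hm => hgc ?_
    have hm' : ((r c)⁻¹ * g * r c) • a = a := hm
    rwa [mul_smul, mul_smul, hr, inv_smul_eq_iff, hr] at hm'
  have hterma : ∀ g : B, Cfsg.extendByZero B (φB : B → ℂ) ((r a)⁻¹ * g * r a)
      = (φB : B → ℂ) g := by
    intro g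
    have hra : r a ∈ B := hr a
    rw [show (r a)⁻¹ * (g : G) * r a
      = (((⟨r a, hra⟩ : B)⁻¹ * g * ⟨r a, hra⟩ : B) : G) by simp, CharInd.extendByZero_coe]
    simpa using hφBc g (⟨r a, hra⟩ : B)⁻¹
  have hΘ1 : Θ 1 = ((Fintype.card Ω : ℕ) : ℂ) * d := by
    have hBi : B.index = Fintype.card Ω := by
      rw [hB, MulAction.index_stabilizer_of_transitive, Nat.card_eq_fintype_card]
    rw [hΘ, CharInd.indFun_apply_one, hBi, hφBU 1 (by simp)]
  have hΘU : ∀ g : B, (g : G) ∈ U → (g : G) ≠ 1 → Θ g = d := by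
    intro g hg hg1
    rw [hval, Finset.sum_eq_single a, hterma, hφBU g hg]
    · intro c _ hca
      exact hterm0 _ c fun h => hca (hU.fix _ hg hg1 c h)
    · exact fun h => absurd (Finset.mem_univ a) h
  have hΘB : ∀ g : B, (g : G) ∉ U → Θ g = 2 * (φB : B → ℂ) g := by
    intro g hg
    obtain ⟨c, hgc, hca⟩ : ∃ c : Ω, (g : G) • c = c ∧ c ≠ a := by
      by_contra h
      push Not at h
      exact hg ((Zass.mem_kernel_iff hZ hU).2 (Or.inr ⟨g.2, h⟩))
    have hg1 : (g : G) ≠ 1 := fun h => hg (h ▸ U.one_mem)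
    obtain ⟨u, hu, hub⟩ := Zass.kernel_regular hZ hab hU hca
    have hua := mem_stabilizer_iff.1 (hU.le hu)
    set x := u⁻¹ * (g : G) * u
    have hx : x ∈ T := by
      refine ⟨?_, ?_⟩
      · show x • a = a
        simp only [x, mul_smul, hua, mem_stabilizer_iff.1 g.2]
        rw [inv_smul_eq_iff, hua]
      · show x • b = b
        simp only [x, mul_smul, hub, hgc]
        rw [inv_smul_eq_iff, hub]
    have hπg : π g = ⟨x, hx⟩ := by
      refine hπu g ⟨x, hx⟩ ?_
      have h := U.mul_mem hu (Zass.kernel_normal hZ hU (g := x) hx.1 (U.inv_mem hu))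
      have e1 : u * (x * u⁻¹ * x⁻¹) = (g : G) * x⁻¹ := by simp only [x]; group
      rwa [e1] at h
    have hβ : (u * w)⁻¹ * r c ∈ B := by
      show ((u * w)⁻¹ * r c) • a = a
      rw [mul_smul, hr, inv_smul_eq_iff, mul_smul, hwa, hub]
    have hγ : w⁻¹ * x * w ∈ B := (hconj' x hx).1
    set β : B := ⟨_, hβ⟩
    set γ : B := ⟨_, hγ⟩
    have hterm : Cfsg.extendByZero B (φB : B → ℂ) ((r c)⁻¹ * g * r c) = (φB : B → ℂ) g := by
      have e1 : (r c)⁻¹ * (g : G) * r c = ((β⁻¹ * γ * β : B) : G) := by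
        simp only [β, γ, x, Subgroup.coe_mul, Subgroup.coe_inv]
        group
      have e2 : (φB : B → ℂ) (β⁻¹ * γ * β) = (φB : B → ℂ) γ := by
        simpa using hφBc γ β⁻¹
      rw [e1, CharInd.extendByZero_coe, e2]
      show (φ : T → ℂ) (π γ) = (φ : T → ℂ) (π g)
      rw [hπu γ ⟨_, hconj' x hx⟩ (by simp [γ]), hπg, ← hφe ⟨_, hconj' x hx⟩]
      exact congrArg _ (Subtype.ext (by simp [e, mul_assoc]))
    rw [hval, Finset.sum_eq_add (s := Finset.univ) a c hca.symm, hterma, hterm, two_mul]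
    · intro e _ he
      refine hterm0 _ e fun h => ?_
      rcases Zass.fixed_of_mem_two hZ hca.symm ⟨g.2, hgc⟩ hg1 h with h' | h'
      · exact he.1 h'
      · exact he.2 h'
    · simp
    · simp
  -- the norm of `Θ`
  have := Fintype.ofFinite B
  set q := Fintype.card Ω - 1 with hq
  have hUcard : Nat.card U = q := by omega
  set UB := Finset.univ.filter fun g : B => (g : G) ∈ U with hUB
  have hUBcard : UB.card = q := by
    rw [hUB, ← Fintype.card_subtype, ← Nat.card_eq_fintype_card, ← hUcard]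
    exact Nat.card_congr
      { toFun := fun g => ⟨_, g.2⟩
        invFun := fun g => ⟨⟨g, hU.le g.2⟩, g.2⟩
        left_inv := fun _ => rfl
        right_inv := fun _ => rfl }
  have h1UB : (1 : B) ∈ UB := by simp [hUB]
  have hqn : Fintype.card Ω = q + 1 := by omega
  have hΘφ : Cfsg.classInner (φB : B → ℂ) (fun g : B => Θ g) = 2 := by
    have hΔ : ∀ g : B, Θ g = 2 * (φB : B → ℂ) g +
        (if (g : G) ∈ U then (if g = 1 then ((q : ℂ) - 1) * d else -(d : ℂ)) else 0) := by
      intro g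
      by_cases hg : (g : G) ∈ U
      · rw [if_pos hg, hφBU g hg]
        by_cases hg1 : g = 1
        · subst hg1
          rw [if_pos rfl, OneMemClass.coe_one, hΘ1, hqn]
          push_cast
          ring
        · rw [if_neg hg1, hΘU g hg fun h => hg1 (Subtype.ext h)]
          ring
      · rw [if_neg hg, hΘB g hg, add_zero]
    have hφφ : Cfsg.classInner (φB : B → ℂ) (φB : B → ℂ) = 1 := CharCore.classInner_irr_self φB
    rw [CharCore.classInner_def] at hφφ ⊢
    simp only [hΔ, map_add, map_mul, map_ofNat, mul_add, Finset.sum_add_distrib]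
    have hz : ∑ g : B, (φB : B → ℂ) g * conj
        (if (g : G) ∈ U then (if g = 1 then ((q : ℂ) - 1) * d else -(d : ℂ)) else 0) = 0 := by
      have hsplit : ∀ g : B, (φB : B → ℂ) g * conj
          (if (g : G) ∈ U then (if g = 1 then ((q : ℂ) - 1) * d else -(d : ℂ)) else 0)
          = if (g : G) ∈ U then
              (-((d : ℂ) * d) + if g = 1 then (q : ℂ) * (d * d) else 0) else 0 := by
        intro g
        by_cases hg : (g : G) ∈ U
        · by_cases hg1 : g = 1
          · subst hg1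
            simp only [hg, if_true, hφBU 1 hg, map_mul, map_sub, map_natCast, map_one]
            ring
          · simp only [hg, hg1, if_true, if_false, hφBU g hg, map_neg, map_natCast]
            ring
        · simp [hg]
      rw [Finset.sum_congr rfl fun g _ => hsplit g, ← Finset.sum_filter, ← hUB,
        Finset.sum_add_distrib, Finset.sum_const, hUBcard, Finset.sum_ite_eq' UB 1,
        if_pos h1UB, nsmul_eq_mul]
      ring
    rw [hz, mul_zero, add_zero]
    have e2 : ∀ g : B, (φB : B → ℂ) g * (2 * conj ((φB : B → ℂ) g))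
        = 2 * ((φB : B → ℂ) g * conj ((φB : B → ℂ) g)) := fun g => by ring
    rw [Finset.sum_congr rfl fun g _ => e2 g, ← Finset.mul_sum, mul_left_comm, hφφ, mul_one]
  -- `Θ` has exactly two constituents
  obtain ⟨m, hm⟩ := CharCore.IsCharacter.exists_sum hΘchar
  have hΘcf := CharCore.IsCharacter.isClassFunction hΘchar
  have hmsq : ∑ ψ, m ψ * m ψ = 2 := by
    have h : Cfsg.classInner Θ Θ = 2 := by
      nth_rewrite 1 [hΘ]
      rw [CharInd.classInner_indFun_left B _ hΘcf]
      exact hΘφ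
    rw [hm, CharCore.classInner_sum_sum] at h
    simp only [Complex.conj_natCast] at h
    exact_mod_cast h
  have hm1 : ∀ ψ, m ψ ≤ 1 := by
    intro ψ
    have h := Finset.single_le_sum (f := fun ψ => m ψ * m ψ) (fun _ _ => Nat.zero_le _)
      (Finset.mem_univ ψ)
    simp only [hmsq] at h
    nlinarith
  set S := Finset.univ.filter fun ψ => m ψ = 1 with hS
  have hmS : ∀ ψ, m ψ = if ψ ∈ S then 1 else 0 := by
    intro ψ
    by_cases h : m ψ = 1
    · simp [hS, h]
    · have := hm1 ψ
      simp [hS, h]; omega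
  have hScard : S.card = 2 := by
    rw [← hmsq, Finset.card_eq_sum_ones, hS, Finset.sum_filter]
    refine Finset.sum_congr rfl fun ψ _ => ?_
    have := hm1 ψ
    rcases (by omega : m ψ = 0 ∨ m ψ = 1) with h | h <;> simp [h]
  obtain ⟨ψ₁, ψ₂, h12, hS12⟩ := Finset.card_eq_two.1 hScard
  have hsum : ∀ g, Θ g = (ψ₁ : G → ℂ) g + (ψ₂ : G → ℂ) g := by
    intro g
    rw [hm, Finset.sum_apply]
    simp only [Pi.smul_apply, smul_eq_mul, hmS, Nat.cast_ite, Nat.cast_one, Nat.cast_zero,
      ite_mul, one_mul, zero_mul]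
    rw [Finset.sum_ite_mem, Finset.univ_inter, hS12, Finset.sum_pair h12]
  -- the data attached to a constituent
  obtain ⟨u₀, hu₀, hu₀1⟩ := Zass.kernel_ne_bot hZ hU
  have hdata : ∀ ψ ∈ S, ∃ D r : ℕ, (ψ : G → ℂ) 1 = D ∧
      (D : ℂ) + ((q : ℂ) - 1) * (ψ : G → ℂ) u₀ = q * ((d : ℂ) + r) := by
    intro ψ hψ
    obtain ⟨D, -, -, hD⟩ := CharClifford.exists_degree_dvd_card ψ.2
    have := Fintype.ofFinite U
    have hψc := CharCore.irr_isCharacter ψ
    have hψB : Cfsg.IsCharacter B (fun g : B => (ψ : G → ℂ) g) :=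
      CharCore.isCharacter_restrict hψc B
    obtain ⟨k, hk⟩ := CharCore.IsCharacter.exists_sum hψB
    have hkφ : k φB = 1 := by
      have h1 : Cfsg.classInner Θ (ψ : G → ℂ) = 1 := by
        rw [hm, CharCore.classInner_sum_all]
        simp [(Finset.mem_filter.1 hψ).2]
      rw [hΘ, CharInd.classInner_indFun_left B _ (CharCore.irr_isClassFunction ψ),
        ← CharCore.conj_classInner, hk, CharCore.classInner_sum_all, Complex.conj_natCast] at h1
      exact_mod_cast h1
    let R : B → ℂ := ∑ χ, ((if χ = φB then 0 else k χ : ℕ) : ℂ) • (χ : B → ℂ)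
    have hR : Cfsg.IsCharacter B R := CharCore.isCharacter_sum_irr _
    have hRsum : ∀ g : B, (ψ : G → ℂ) g = (φB : B → ℂ) g + R g := by
      intro g
      rw [show (ψ : G → ℂ) g = (fun g : B => (ψ : G → ℂ) g) g from rfl, hk]
      simp only [R, Finset.sum_apply, Pi.smul_apply, smul_eq_mul]
      rw [← Finset.add_sum_erase _ _ (Finset.mem_univ φB),
        ← Finset.add_sum_erase _ _ (Finset.mem_univ φB), hkφ, if_pos rfl]
      simp only [Nat.cast_one, one_mul, Nat.cast_zero, zero_mul, zero_add]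
      congr 1
      refine Finset.sum_congr rfl fun χ hχ => ?_
      rw [if_neg (Finset.ne_of_mem_erase hχ)]
    have hRU : Cfsg.IsCharacter U (fun u : U => R (Subgroup.inclusion hU.le u)) :=
      CharCore.isCharacter_comp hR (Subgroup.inclusion hU.le)
    obtain ⟨r, hr'⟩ := CharCore.IsCharacter.exists_classInner_eq_natCast hRU
      (CharCore.isCharacter_one (G := U))
    refine ⟨D, r, hD, ?_⟩
    rw [CharCore.classInner_def, hUcard] at hr'
    simp only [Pi.one_apply, map_one, mul_one] at hr'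
    have hq0 : (q : ℂ) ≠ 0 := by exact_mod_cast (by omega : q ≠ 0)
    have hRtot : ∑ u : U, R (Subgroup.inclusion hU.le u) = q * r := by
      rw [← hr', ← mul_assoc, mul_inv_cancel₀ hq0, one_mul]
    have hψU : ∀ u : U, u ≠ 1 → (ψ : G → ℂ) u = (ψ : G → ℂ) u₀ := by
      intro u hu1
      obtain ⟨x, -, hx⟩ := conj_transitive_kernel hZ hab hU hfull hu₀ hu₀1 u.2
        (fun h => hu1 (Subtype.ext h))
      rw [← hx]
      exact CharCore.irr_isClassFunction ψ u₀ x
    have htot : ∑ u : U, (ψ : G → ℂ) u = D + ((q : ℂ) - 1) * (ψ : G → ℂ) u₀ := by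
      rw [← Finset.add_sum_erase _ _ (Finset.mem_univ (1 : U)),
        Finset.sum_congr rfl fun u hu => hψU u (Finset.ne_of_mem_erase hu),
        Finset.sum_const, Finset.card_erase_of_mem (Finset.mem_univ _), Finset.card_univ,
        ← Nat.card_eq_fintype_card, hUcard, OneMemClass.coe_one, hD, nsmul_eq_mul,
        Nat.cast_sub (by omega : 1 ≤ q), Nat.cast_one]
    rw [← htot]
    calc ∑ u : U, (ψ : G → ℂ) u
        = ∑ u : U, ((d : ℂ) + R (Subgroup.inclusion hU.le u)) := by
          refine Finset.sum_congr rfl fun u _ => ?_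
          rw [← hφBU (Subgroup.inclusion hU.le u) u.2, ← hRsum]
          rfl
      _ = q * ((d : ℂ) + r) := by
          rw [Finset.sum_add_distrib, hRtot, Finset.sum_const, Finset.card_univ,
            ← Nat.card_eq_fintype_card, hUcard, nsmul_eq_mul]
          ring
  obtain ⟨D₁, r₁, hD₁, hr₁⟩ := hdata ψ₁ (by simp [hS12])
  obtain ⟨D₂, r₂, hD₂, hr₂⟩ := hdata ψ₂ (by simp [hS12])
  have hsum1 := hsum 1
  rw [hΘ1, hD₁, hD₂] at hsum1
  have hu₀B := hΘU ⟨u₀, hU.le hu₀⟩ hu₀ hu₀1
  rw [hsum] at hu₀B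
  have hrr : r₁ + r₂ = 0 := by
    have hq0 : (q : ℂ) ≠ 0 := by exact_mod_cast (by omega : q ≠ 0)
    have : ((r₁ + r₂ : ℕ) : ℂ) = 0 := by
      refine mul_left_cancel₀ hq0 ?_
      rw [hqn] at hsum1
      push_cast at hsum1 ⊢
      linear_combination -hr₁ - hr₂ - hsum1 + ((q : ℂ) - 1) * hu₀B
    exact_mod_cast this
  obtain ⟨hr₁0, hr₂0⟩ : r₁ = 0 ∧ r₂ = 0 := by omega
  subst hr₁0 hr₂0
  -- every constituent has degree `d + j (q - 1)`
  have hq2 : 2 ≤ q := by omega
  have hjs : ∀ (ψ : Cfsg.IrrCharacter G) (D : ℕ), ψ ∈ S → (ψ : G → ℂ) 1 = D →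
      (D : ℂ) + ((q : ℂ) - 1) * (ψ : G → ℂ) u₀ = q * ((d : ℂ) + ((0 : ℕ) : ℂ)) →
      ∃ j : ℕ, 0 < j ∧ D = d + j * (q - 1) ∧ D ∣ Nat.card G := by
    intro ψ D hψ hD heq
    rw [Nat.cast_zero, add_zero] at heq
    obtain ⟨D', -, hD'dvd, hD'⟩ := CharClifford.exists_degree_dvd_card ψ.2
    obtain rfl : D = D' := by rw [hD] at hD'; exact_mod_cast hD'
    have hψc := CharCore.irr_isCharacter ψ
    have hq1 : ((q : ℂ) - 1) ≠ 0 := by
      rw [sub_ne_zero]; exact_mod_cast (by omega : q ≠ 1)
    set c : ℚ := (((q * d : ℕ) : ℚ) - D) / ((q : ℚ) - 1) with hc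
    have hcval : (ψ : G → ℂ) u₀ = (c : ℂ) := by
      rw [hc]; push_cast
      rw [eq_div_iff hq1]
      linear_combination heq
    obtain ⟨k, hk⟩ := CharClifford.exists_int_of_isIntegral_rat (q := c)
      (hcval ▸ CharCore.IsCharacter.isIntegral hψc u₀)
    have hkv : (ψ : G → ℂ) u₀ = (k : ℂ) := by rw [hcval, hk]; simp
    have hkint : (D : ℤ) + ((q : ℤ) - 1) * k = q * d := by
      rw [hkv] at heq
      have : (((D : ℤ) + ((q : ℤ) - 1) * k : ℤ) : ℂ) = (((q * d : ℕ) : ℤ) : ℂ) := by
        push_cast; linear_combination heq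
      exact_mod_cast this
    have hkD : k ≤ D := by
      have h := CharCore.IsCharacter.norm_apply_le hψc u₀
      rw [hkv, hD, Complex.norm_intCast] at h
      simp only [Complex.norm_natCast, Complex.natCast_re] at h
      exact_mod_cast le_trans (le_abs_self _) h
    have hkd : k ≤ d := by nlinarith
    refine ⟨(d - k).toNat, ?_, ?_, hD'dvd⟩
    · rcases lt_or_eq_of_le hkd with hlt | heq'
      · omega
      exfalso
      -- the kernel of `ψ` is non-trivial
      have hDd : (D : ℤ) = d := by rw [heq'] at hkint; linarith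
      have hker : u₀ ∈ CharCore.charKernel hψc := by
        rw [CharCore.mem_charKernel, hkv, hD, heq', ← hDd]
        simp
      have htop : CharCore.charKernel hψc = ⊤ :=
        ((CharCore.charKernel_normal hψc).eq_bot_or_eq_top).resolve_left fun h => hu₀1 (by
          rw [h] at hker; exact Subgroup.mem_bot.1 hker)
      have hconst : (ψ : G → ℂ) = fun _ => (D : ℂ) := by
        funext g
        have h : g ∈ CharCore.charKernel hψc := htop ▸ Subgroup.mem_top g
        rw [CharCore.mem_charKernel] at h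
        rw [h, hD]
      have hD1 : D = 1 := by
        have h := CharCore.classInner_irr_self ψ
        rw [hconst, CharCore.classInner_def] at h
        simp only [Complex.conj_natCast, Finset.sum_const, Finset.card_univ, nsmul_eq_mul,
          Nat.card_eq_fintype_card] at h
        rw [← mul_assoc, inv_mul_cancel₀ (Nat.cast_ne_zero.2 Fintype.card_ne_zero), one_mul] at h
        have h' : D * D = 1 := by exact_mod_cast h
        exact Nat.eq_one_of_mul_eq_one_left h'
      have hφB1 : (φB : B → ℂ) = 1 := by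
        by_contra hne
        have h1 : Cfsg.classInner (φB : B → ℂ) (fun g : B => (ψ : G → ℂ) g) = 1 := by
          rw [← CharInd.classInner_indFun_left B _ (CharCore.irr_isClassFunction ψ), ← hΘ, hm,
            CharCore.classInner_sum_all]
          simp [(Finset.mem_filter.1 hψ).2]
        have h2 := CharCore.classInner_irr_of_ne (χ := φB)
          (ψ := ⟨1, CharCore.isIrrCharacter_one⟩) (fun h => hne (congrArg Subtype.val h))
        refine zero_ne_one (h2.symm.trans (Eq.trans ?_ h1))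
        congr 1
        funext g
        rw [hconst, hD1]; simp
      refine hφ1 (funext fun x => ?_)
      have := congrFun hφB1 ⟨(x : G), x.2.1⟩
      change (φ : T → ℂ) (π _) = _ at this
      rwa [hπT] at this
    · have h1 : ((d - k).toNat : ℤ) = (d : ℤ) - k := Int.toNat_of_nonneg (by omega)
      have h2 : (D : ℤ) = ((d + (d - k).toNat * (q - 1) : ℕ) : ℤ) := by
        rw [Nat.cast_add, Nat.cast_mul, h1, Nat.cast_sub (by omega : 1 ≤ q)]
        push_cast
        linarith
      exact_mod_cast h2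
  obtain ⟨j₁, hj₁, hDj₁, hdvd₁⟩ := hjs ψ₁ D₁ (by simp [hS12]) hD₁ hr₁
  obtain ⟨j₂, hj₂, hDj₂, hdvd₂⟩ := hjs ψ₂ D₂ (by simp [hS12]) hD₂ hr₂
  have hsum' : D₁ + D₂ = (q + 1) * d := by
    rw [hqn] at hsum1
    have : ((D₁ + D₂ : ℕ) : ℂ) = (((q + 1) * d : ℕ) : ℂ) := by
      push_cast at hsum1 ⊢
      linear_combination -hsum1
    exact_mod_cast this
  obtain ⟨e', he'⟩ := hddvd
  have hTq : Nat.card T = q - 1 := by omega
  have hjsum : j₁ + j₂ = d := by
    obtain ⟨q', hq'⟩ : ∃ q', q = q' + 2 := ⟨q - 2, by omega⟩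
    rw [hDj₁, hDj₂, hq', show q' + 2 - 1 = q' + 1 by omega] at hsum'
    have : (j₁ + j₂) * (q' + 1) = d * (q' + 1) := by linarith
    exact Nat.eq_of_mul_eq_mul_right (by omega) this
  have hG := Zass.card_group hZ hab
  rw [← hT, hqn, Nat.add_sub_cancel, hTq] at hG
  have hqde : q - 1 = d * e' := by rw [← hTq, he']
  have key : ∀ j D : ℕ, 0 < j → j < d → d < 2 * j → D = d + j * (q - 1) → D ∣ Nat.card G →
      False := by
    intro j D _ hjd hj2 hD hdvd
    refine false_of_degree_dvd (e := e') hjd hj2 ?_ ?_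
    · rw [← hqde, ← hTq]; exact hdsq
    · rw [hD, hG, hqde] at hdvd
      rw [show d * (1 + j * e') = d + j * (d * e') by ring]
      rw [show (d * e' + 2) * (d * e' + 1) * (d * e') = (q + 1) * (q * (d * e')) by
        rw [← hqde]
        obtain ⟨q', hq'⟩ : ∃ q', q = q' + 1 := ⟨q - 1, by omega⟩
        rw [hq', Nat.add_sub_cancel]; ring]
      exact hdvd
  obtain ⟨k, hk⟩ := hdodd
  rcases Nat.lt_or_ge d (2 * j₁) with h | h
  · exact key j₁ D₁ hj₁ (by omega) h hDj₁ hdvd₁
  · exact key j₂ D₂ hj₂ (by omega) (by omega) hDj₂ hdvd₂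

end Cfsg.Agent.ZassNormal
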