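import Cfsg.Agent.Lib.Zassenhaus.CuspGram
import Cfsg.Agent.Lib.Zassenhaus.NilKernel
import Cfsg.Agent.Lib.Zassenhaus.TwoPointEven
import Cfsg.Agent.CharDeep.ZassInvol
import Cfsg.Agent.CharDeep.ZassClasses
import Cfsg.Agent.Lib.SuzukiTwo.Order

/-!
Simple Zassenhaus groups whose kernel is a non-abelian `2`-group: the kernel is a Suzuki `2`-group,
and the basic facts on sums over the group.
-/

set_option autoImplicit false

namespace Cfsg.Agent.ZassNormal.TwoKer

open MulAction
open Cfsg.Agent.CharDeep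
open scoped commutatorElement

variable {G Ω : Type*} [Group G] [Fintype G] [DecidableEq G] [MulAction G Ω] [Fintype Ω]
  [DecidableEq Ω] (hZ : Cfsg.IsZassenhausGroup G Ω) {a b : Ω} (hab : a ≠ b) {U : Subgroup G}
  (hU : Zass.IsKernel a U)

include hZ hab hU

/-- Sums of class functions supported on the elements with exactly one fixed point. -/
theorem sum_one_fixed [Fintype U] (F : G → ℂ) (hF : Cfsg.IsClassFunction G F)
    (hsupp : ∀ g : G, Zass.nfix Ω g ≠ 1 → F g = 0) :
    ∑ g, F g = (Fintype.card Ω : ℂ) * ∑ u : U, F u := by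
  classical
  have h3 := Zass.three_le_card hZ hab
  have hsum : ∑ g, F g = ∑ c : Ω, ∑ g ∈ Finset.univ.filter (fun g : G => g • c = c), F g := by
    rw [Finset.sum_congr rfl fun c _ => Finset.sum_filter (fun g : G => g • c = c) F,
      Finset.sum_comm]
    refine Finset.sum_congr rfl fun g _ => ?_
    by_cases hg : Zass.nfix Ω g = 1
    · rw [← Finset.sum_filter, Finset.sum_const]
      rw [show (Finset.univ.filter fun c : Ω => g • c = c).card = 1 from hg, one_smul]
    · simp [hsupp g hg]
  have hstab : ∑ g ∈ Finset.univ.filter (fun g : G => g • a = a), F g = ∑ u : U, F u := by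
    rw [← Finset.sum_subtype (Finset.univ.filter fun g : G => g ∈ U) (fun g => by simp) F]
    refine (Finset.sum_subset (fun g hg => ?_) fun g hg hgU => hsupp g ?_).symm
    · simp only [Finset.mem_filter, Finset.mem_univ, true_and] at hg ⊢
      exact mem_stabilizer_iff.1 (hU.le hg)
    · simp only [Finset.mem_filter, Finset.mem_univ, true_and] at hg hgU
      intro h1
      refine hgU ((Zass.mem_kernel_iff hZ hU).2 (Or.inr ⟨hg, fun c hc => ?_⟩))
      obtain ⟨d, hd⟩ := Finset.card_eq_one.1 h1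
      have hm : ∀ t : Ω, g • t = t ↔ t = d := fun t => by simpa using Finset.ext_iff.1 hd t
      rw [(hm c).1 hc, (hm a).1 hg]
  rw [hsum, ← hstab, Finset.sum_congr rfl fun c _ => (?_ : _ =
      ∑ g ∈ Finset.univ.filter (fun g : G => g • a = a), F g), Finset.sum_const, Finset.card_univ,
    nsmul_eq_mul]
  have := Zass.pretransitive hZ
  obtain ⟨k, rfl⟩ := MulAction.exists_smul_eq G a c
  refine (Finset.sum_equiv (MulAut.conj k).toEquiv (fun g => ?_) fun g _ => ?_).symm
  · simp only [Finset.mem_filter, Finset.mem_univ, true_and, MulEquiv.toEquiv_eq_coe,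
      EquivLike.coe_coe, MulAut.conj_apply]
    rw [mul_smul, mul_smul, inv_smul_smul]
    exact ⟨fun h => by rw [h], fun h => MulAction.injective k h⟩
  · simp only [MulEquiv.toEquiv_eq_coe, EquivLike.coe_coe, MulAut.conj_apply]
    exact (hF g k).symm

variable (h2 : IsPGroup 2 U)

include h2

theorem even_kernel : Even (Nat.card U) := by
  have h3 := Zass.three_le_card hZ hab
  have hc := hU.card
  obtain ⟨k, hk⟩ := h2.exists_card_eq
  rw [hk]
  rcases k with _ | k
  · rw [hk, pow_zero] at hc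
    omega
  · exact even_iff_two_dvd.2 (dvd_pow_self 2 k.succ_ne_zero)

theorem odd_card : Odd (Fintype.card Ω) := by
  rw [← hU.card]
  exact (even_kernel hZ hab hU h2).add_one

theorem odd_two : Odd (Nat.card ↥(Zass.two G a b)) := by
  have h3 := Zass.three_le_card hZ hab
  have hc := hU.card
  obtain ⟨k, hk⟩ := even_kernel hZ hab hU h2
  refine Odd.of_dvd_nat ?_ (two_dvd_card_kernel_sub_one hZ hab hU)
  exact ⟨k - 1, by omega⟩

variable [IsSimpleGroup G]

/-- An element with other than one fixed point has odd order. -/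
theorem odd_orderOf {g : G} (hg1 : g ≠ 1) (hg : Zass.nfix Ω g ≠ 1) : Odd (orderOf g) := by
  classical
  by_contra hev
  rw [Nat.not_odd_iff_even, even_iff_two_dvd] at hev
  have hodd := odd_two hZ hab hU h2
  set w := g ^ (orderOf g / 2) with hw
  have hwo : orderOf w = 2 := orderOf_pow_orderOf_div (orderOf_pos g).ne' hev
  have hwi : w ∈ Zass.invs G := Zass.mem_invs_iff_orderOf.2 hwo
  have hf := Zass.inv_nfix hZ hab hodd hwi
  rw [if_pos (odd_card hZ hab hU h2)] at hf
  obtain ⟨c, hc⟩ := Finset.card_eq_one.1 hf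
  have hm : ∀ t : Ω, w • t = t ↔ t = c := fun t => by simpa using Finset.ext_iff.1 hc t
  have hgc : g • c = c := (hm _).1 (by
    rw [← mul_smul, (Commute.self_pow g (orderOf g / 2)).symm.eq, mul_smul, (hm c).2 rfl])
  refine hg (Finset.card_eq_one.2 ⟨c, Finset.eq_singleton_iff_unique_mem.2
    ⟨by simpa using hgc, fun d hd => (hm d).1 ?_⟩⟩)
  simp only [Finset.mem_filter, Finset.mem_univ, true_and] at hd
  rw [hw, ← mem_stabilizer_iff]
  exact Subgroup.pow_mem _ (mem_stabilizer_iff.2 hd) _

/-- **Sums over squares reduce to the kernel.** -/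
theorem sum_sq_eq [Fintype U] (f : G → ℂ) (hf : Cfsg.IsClassFunction G f) :
    ∑ g, f (g * g) = ∑ g, f g + (Fintype.card Ω : ℂ) * ∑ u : U, (f ((u : G) * u) - f u) := by
  classical
  set F : G → ℂ := fun g => if Zass.nfix Ω g = 1 then f (g * g) - f g else 0 with hF
  have hFc : Cfsg.IsClassFunction G F := fun g k => by
    simp only [hF, Zass.nfix_conj]
    rw [show k * g * k⁻¹ * (k * g * k⁻¹) = k * (g * g) * k⁻¹ by group, hf, hf]
  have h1 := sum_one_fixed hZ hab hU F hFc (fun g hg => if_neg hg)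
  have hU' : ∑ u : U, F u = ∑ u : U, (f ((u : G) * u) - f u) := by
    refine Finset.sum_congr rfl fun u _ => ?_
    by_cases hu : u = 1
    · subst hu
      simp [hF]
    · refine if_pos (Finset.card_eq_one.2 ⟨a, Finset.eq_singleton_iff_unique_mem.2
        ⟨by simpa using mem_stabilizer_iff.1 (hU.le u.2),
          fun c hc => hU.fix u u.2 (fun h => hu (Subtype.ext h)) c (by simpa using hc)⟩⟩)
  rw [← hU', ← h1]
  set R := Finset.univ.filter fun g : G => ¬ Zass.nfix Ω g = 1 with hR
  have hmaps : ∀ g ∈ R, g * g ∈ R := by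
    intro g hg
    simp only [hR, Finset.mem_filter, Finset.mem_univ, true_and] at hg ⊢
    by_cases hg1 : g = 1
    · subst hg1; simpa using hg
    obtain ⟨m, hm⟩ := odd_orderOf hZ hab hU h2 hg1 hg
    have hfix : ∀ c : Ω, (g * g) • c = c ↔ g • c = c := fun c => by
      refine ⟨fun h => ?_, fun h => by rw [mul_smul, h, h]⟩
      have he : g = (g * g) ^ (m + 1) := by
        rw [← pow_two, ← pow_mul, show 2 * (m + 1) = 2 * m + 1 + 1 by ring, pow_succ, ← hm,
          pow_orderOf_eq_one, one_mul]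
      rw [he, ← mem_stabilizer_iff]
      exact Subgroup.pow_mem _ (mem_stabilizer_iff.2 h) _
    rwa [Zass.nfix, Finset.filter_congr (q := fun c : Ω => g • c = c) fun c _ => hfix c]
  have hord : ∀ g ∈ R, Odd (orderOf g) := fun g hg => by
    by_cases hg1 : g = 1
    · subst hg1; simp
    · exact odd_orderOf hZ hab hU h2 hg1 (Finset.mem_filter.1 hg).2
  have hinj : Set.InjOn (fun g : G => g * g) R := by
    intro g hg g' hg' he
    obtain ⟨m, hm⟩ := hord g hg
    obtain ⟨m', hm'⟩ := hord g' hg'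
    have hpow : ∀ {x : G} {j : ℕ}, orderOf x = 2 * j + 1 →
        ∀ k, (x * x) ^ ((j + 1) + k * (2 * j + 1)) = x := by
      intro x j hj k
      rw [← pow_two, ← pow_mul,
        show 2 * (j + 1 + k * (2 * j + 1)) = (2 * j + 1) * (1 + 2 * k) + 1 by ring, pow_succ,
        pow_mul, ← hj, pow_orderOf_eq_one, one_pow, one_mul]
    -- a common exponent inverting squaring
    have hd : ∀ {x : G} {j : ℕ}, orderOf x = 2 * j + 1 → ∀ N, (2 * j + 1) ∣ N → Odd N →
        (x * x) ^ ((N + 1) / 2) = x := by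
      intro x j hj N hN hNo
      obtain ⟨r, hr⟩ := hNo
      rw [← pow_two, ← pow_mul, show 2 * ((N + 1) / 2) = N + 1 by omega, pow_succ]
      obtain ⟨t, ht⟩ := hN
      rw [ht, pow_mul, ← hj, pow_orderOf_eq_one, one_pow, one_mul]
    have h1 := hd hm ((2 * m + 1) * (2 * m' + 1)) (dvd_mul_right _ _)
      (Odd.mul ⟨m, rfl⟩ ⟨m', rfl⟩)
    have h2 := hd hm' ((2 * m + 1) * (2 * m' + 1)) (dvd_mul_left _ _)
      (Odd.mul ⟨m, rfl⟩ ⟨m', rfl⟩)
    simp only at he
    rw [← h1, he, h2]
  have himg : R.image (fun g => g * g) = R :=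
    Finset.eq_of_subset_of_card_le (fun x hx => by
      obtain ⟨g, hg, rfl⟩ := Finset.mem_image.1 hx
      exact hmaps g hg) (by rw [Finset.card_image_of_injOn hinj])
  have hRsum : ∑ g ∈ R, f (g * g) = ∑ g ∈ R, f g := by
    conv_rhs => rw [← himg, Finset.sum_image hinj]
  rw [← Finset.sum_filter_add_sum_filter_not Finset.univ (fun g : G => Zass.nfix Ω g = 1)
      (fun g => f (g * g)),
    ← Finset.sum_filter_add_sum_filter_not Finset.univ (fun g : G => Zass.nfix Ω g = 1) f,
    ← hR, hRsum]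
  simp only [hF, ← Finset.sum_filter, Finset.sum_sub_distrib]
  ring

/-- The involutions fixing `a` are the involutions of the kernel. -/
theorem invol_iff {u : G} : (u ∈ U ∧ u ≠ 1 ∧ u * u = 1) ↔ u ∈ Zass.invAt G a := by
  simp only [Zass.invAt, Finset.mem_filter, Zass.mem_invs]
  refine ⟨fun ⟨h1, h2', h3⟩ => ⟨⟨h2', h3⟩, mem_stabilizer_iff.1 (hU.le h1)⟩, fun ⟨h1, h3⟩ =>
    ⟨Zass.invAt_subset_kernel hZ hab (odd_two hZ hab hU h2) hU
      (by simp only [Zass.invAt, Finset.mem_filter, Zass.mem_invs]; exact ⟨h1, h3⟩), h1⟩⟩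

/-- **The kernel is a Suzuki `2`-group.** -/
theorem isSuzukiTwoGroup (hna : ∃ u v : U, u * v ≠ v * u) : Cfsg.IsSuzukiTwoGroup U := by
  classical
  have hodd := odd_two hZ hab hU h2
  have hn := odd_card hZ hab hU h2
  have he := Zass.two_card_gt_one hZ hab
  refine ⟨inferInstance, h2, hna, ?_, ?_⟩
  · have hc : 1 < (Zass.invAt G a).card := by
      rw [Zass.card_invAt hZ hab hodd hn, Zass.card_invSwap_of_odd hZ hab hodd hn]
      exact he
    obtain ⟨x, hx, y, hy, hxy⟩ := Finset.one_lt_card.1 hc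
    obtain ⟨hxU, hx1, hx2⟩ := (invol_iff hZ hab hU h2).2 hx
    obtain ⟨hyU, hy1, hy2⟩ := (invol_iff hZ hab hU h2).2 hy
    exact ⟨⟨x, hxU⟩, ⟨y, hyU⟩, fun h => hxy (congrArg Subtype.val h),
      fun h => hx1 (congrArg Subtype.val h), Subtype.ext hx2,
      fun h => hy1 (congrArg Subtype.val h), Subtype.ext hy2⟩
  · let Φ : Zass.two G a b →* MulAut U :=
      { toFun := fun x => conjKer hZ hU (x : G) x.2.1
        map_one' := MulEquiv.ext fun u => Subtype.ext (by simp [conjKer])
        map_mul' := fun x y => MulEquiv.ext fun u => Subtype.ext (by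
          show ((x : G) * y) * u * ((x : G) * y)⁻¹
            = (x : G) * ((y : G) * u * (y : G)⁻¹) * (x : G)⁻¹
          group) }
    have := Zass.isCyclic_two hZ hab hU hodd
    refine ⟨Φ.range, isCyclic_of_surjective Φ.rangeRestrict Φ.rangeRestrict_surjective, ?_⟩
    intro x y hx1 hx2 hy1 hy2
    have hxA := (invol_iff hZ hab hU h2).1
      ⟨x.2, fun h => hx1 (Subtype.ext h), congrArg Subtype.val hx2⟩
    have hyA := (invol_iff hZ hab hU h2).1
      ⟨y.2, fun h => hy1 (Subtype.ext h), congrArg Subtype.val hy2⟩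
    obtain ⟨t, ht, hty⟩ := Zass.invAt_conj hZ hab hodd hn hxA hyA
    refine ⟨⟨Φ ⟨t, ht⟩, ⟨t, ht⟩, rfl⟩, Subtype.ext hty, ?_⟩
    rintro ⟨_, s, rfl⟩ hs
    refine Subtype.ext ?_
    have : (s : G) = t := Zass.conj_injOn hZ hab hodd hn hxA s.2 ht
      ((congrArg Subtype.val hs).trans hty.symm)
    show Φ s = Φ ⟨t, ht⟩
    rw [show s = (⟨t, ht⟩ : Zass.two G a b) from Subtype.ext this]

/-- The structure of the kernel: `q = e + 1`, `|U| = q ^ 2` or `q ^ 3`, the centre has order `q`,
consists of involutions, and is the derived subgroup. -/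
theorem kernel_structure (hna : ∃ u v : U, u * v ≠ v * u) :
    Nat.card (Subgroup.center U) = Nat.card ↥(Zass.two G a b) + 1 ∧
    (Nat.card U = Nat.card (Subgroup.center U) ^ 2 ∨
      Nat.card U = Nat.card (Subgroup.center U) ^ 3) ∧
    commutator U = Subgroup.center U ∧
    (∀ u : U, u * u ∈ Subgroup.center U) ∧
    (∀ u : U, u ∈ Subgroup.center U ↔ u * u = 1) := by
  classical
  have hodd := odd_two hZ hab hU h2
  have hn := odd_card hZ hab hU h2
  have hS := isSuzukiTwoGroup hZ hab hU h2 hna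
  obtain ⟨F, _, _, _, fr, u0, hu0, -⟩ := SuzukiTwo.exists_frame' hS
  obtain ⟨-, -, hna', -⟩ := hS
  have hmem : ∀ u : U, u ∈ Subgroup.center U ↔ u * u = 1 := fun u =>
    ⟨fun h => fr.center_sq h2 hna' hu0 u h, fun h => (fr.mem_center_iff_sq h2 hna' hu0).2 h⟩
  have hcard : Nat.card (Subgroup.center U) = Nat.card ↥(Zass.two G a b) + 1 := by
    have h1 : (Finset.univ.filter fun u : U => u * u = 1).card
        = (insert (1 : G) (Zass.invAt G a)).card := by
      refine Finset.card_bij (fun u _ => (u : G)) (fun u hu => ?_)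
        (fun _ _ _ _ h => Subtype.ext h) fun g hg => ?_
      · by_cases hu1 : (u : G) = 1
        · exact Finset.mem_insert.2 (Or.inl hu1)
        · exact Finset.mem_insert.2 (Or.inr ((invol_iff hZ hab hU h2).1
            ⟨u.2, hu1, congrArg Subtype.val (Finset.mem_filter.1 hu).2⟩))
      · rcases Finset.mem_insert.1 hg with rfl | hg
        · exact ⟨1, by simp, rfl⟩
        · obtain ⟨hgU, -, hg2⟩ := (invol_iff hZ hab hU h2).2 hg
          exact ⟨⟨g, hgU⟩, Finset.mem_filter.2 ⟨Finset.mem_univ _, Subtype.ext hg2⟩, rfl⟩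
    rw [Nat.card_eq_fintype_card, Fintype.card_subtype,
      Finset.filter_congr (q := fun u : U => u * u = 1) fun u _ => hmem u, h1,
      Finset.card_insert_of_notMem (fun h => ((invol_iff hZ hab hU h2).2 h).2.1 rfl),
      Zass.card_invAt hZ hab hodd hn, Zass.card_invSwap_of_odd hZ hab hodd hn]
  refine ⟨hcard, ?_, ?_, fr.sq_mem_center h2 hna' hu0, hmem⟩
  · rw [fr.card_center h2 hna' hu0]
    exact fr.card_cases h2 hna' hu0
  · refine le_antisymm ?_ ?_
    · rw [commutator_def, Subgroup.commutator_le]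
      exact fun x _ y _ => fr.commutator_mem_center h2 hna' hu0 x y
    -- the two-point stabiliser permutes the central involutions transitively
    intro z hz
    by_cases hz1 : z = 1
    · subst hz1; exact one_mem _
    obtain ⟨c, hc, hc1⟩ : ∃ c ∈ commutator U, c ≠ 1 := by
      obtain ⟨x, y, hxy⟩ := hna
      exact ⟨⁅x, y⁆, Subgroup.commutator_mem_commutator (Subgroup.mem_top x) (Subgroup.mem_top y),
        fun h => hxy (commutatorElement_eq_one_iff_mul_comm.1 h)⟩
    have hcz : c ∈ Subgroup.center U := by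
      have : commutator U ≤ Subgroup.center U := by
        rw [commutator_def, Subgroup.commutator_le]
        exact fun x _ y _ => fr.commutator_mem_center h2 hna' hu0 x y
      exact this hc
    have hcA := (invol_iff hZ hab hU h2).1
      ⟨c.2, fun h => hc1 (Subtype.ext h), congrArg Subtype.val ((hmem c).1 hcz)⟩
    have hzA := (invol_iff hZ hab hU h2).1
      ⟨z.2, fun h => hz1 (Subtype.ext h), congrArg Subtype.val ((hmem z).1 hz)⟩
    obtain ⟨t, ht, htz⟩ := Zass.invAt_conj hZ hab hodd hn hcA hzA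
    rw [show z = conjKer hZ hU t ht.1 c from Subtype.ext htz.symm]
    exact NilKernel.apply_mem inferInstance _ hc

end Cfsg.Agent.ZassNormal.TwoKer
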