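import Cfsg.Agent.Lib.Zassenhaus.TwoKernelOrder

/-!
The Frobenius-Schur indicator of a cuspidal character, and the exclusion of kernels of order `q ^ 3`.
-/

set_option autoImplicit false

namespace Cfsg.Agent.ZassNormal.TwoKer

open MulAction
open Cfsg.Agent.CharDeep
open scoped ComplexConjugate

variable {G Ω : Type*} [Group G] [Fintype G] [DecidableEq G] [MulAction G Ω] [Fintype Ω]
  [DecidableEq Ω] (hZ : Cfsg.IsZassenhausGroup G Ω) {a b : Ω} (hab : a ≠ b) {U : Subgroup G}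
  (hU : Zass.IsKernel a U) [IsSimpleGroup G] (h2 : IsPGroup 2 U)
  (hna : ∃ u v : U, u * v ≠ v * u)

include hZ hab hU h2 hna

/-- The number of elements of the two-point stabiliser taking one character to another. -/
theorem orbit_card_le [Fintype (Zass.two G a b)] [DecidableEq (Cfsg.IrrCharacter U)]
    (θ θ' : Cfsg.IrrCharacter U) (hθ : θ ≠ oneIrr U) :
    (Finset.univ.filter fun x : Zass.two G a b => tconj hZ hU x θ = θ').card ≤ 1 := by
  refine Finset.card_le_one.2 fun x hx y hy => ?_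
  simp only [Finset.mem_filter, Finset.mem_univ, true_and] at hx hy
  have hval : ∀ u : U, (θ : U → ℂ) (conjKer hZ hU (x : G) x.2.1 u)
      = (θ : U → ℂ) (conjKer hZ hU (y : G) y.2.1 u) := fun u =>
    congrFun (congrArg Subtype.val (hx.trans hy.symm)) u
  have h := tconj_free hZ hab hU hθ (x := x * y⁻¹) (Subtype.ext (funext fun u => by
    have h' := hval ((conjKer hZ hU (y : G) y.2.1).symm u)
    rw [MulEquiv.apply_symm_apply] at h'
    rw [tconj_apply]
    refine Eq.trans (congrArg (θ : U → ℂ) (Subtype.ext ?_)) h'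
    show ((x : G) * (y : G)⁻¹) * u * ((x : G) * (y : G)⁻¹)⁻¹
      = (x : G) * ((y : G)⁻¹ * u * (y : G)) * (x : G)⁻¹
    group))
  exact mul_inv_eq_one.1 h

omit hab h2 hna [IsSimpleGroup G] in
theorem tconj_mem_lin [Fintype U] {θ : Cfsg.IrrCharacter U} (hθ : θ ∈ linIrr U)
    (x : Zass.two G a b) : tconj hZ hU x θ ∈ linIrr U := by
  simp only [linIrr, Finset.mem_filter, Finset.mem_univ, true_and] at hθ ⊢
  refine ⟨fun h => hθ.1 (Subtype.ext (funext fun u => ?_)), by rw [tconj_one]; exact hθ.2⟩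
  have h' := congrFun (congrArg Subtype.val h) ((conjKer hZ hU (x : G) x.2.1).symm u)
  simp only [tconj] at h'
  rw [MulEquiv.apply_symm_apply] at h'
  exact h'

/-- Linear characters of the kernel are real. -/
theorem conj_linear [Fintype U] {θ : Cfsg.IrrCharacter U} (hθ : (θ : U → ℂ) 1 = 1) (u : U) :
    conj ((θ : U → ℂ) u) = (θ : U → ℂ) u := by
  obtain ⟨-, -, hcom, hsq, -⟩ := kernel_structure hZ hab hU h2 hna
  obtain ⟨f, hf⟩ := CharCore.IsCharacter.exists_hom_of_degree_one (CharCore.irr_isCharacter θ) hθ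
  have h1 : f u * f u = 1 := by
    rw [← map_mul]
    exact Abelianization.commutator_subset_ker f (hcom ▸ hsq u)
  rw [congrFun hf]
  have h3 : (f u : ℂ) = 1 ∨ (f u : ℂ) = -1 := mul_self_eq_one_iff.1
    (by rw [← Units.val_mul, h1, Units.val_one])
  rcases h3 with h | h <;> simp [h]

omit hab hU h2 hna hZ [DecidableEq Ω] [IsSimpleGroup G] in
/-- The indicator of an irreducible character. -/
theorem indicator_cases (χ : Cfsg.IrrCharacter G) :
    ∃ ν : ℤ, (ν = 0 ∨ ν = 1 ∨ ν = -1) ∧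
      ∑ g : G, (χ : G → ℂ) (g * g) = (ν : ℂ) * Nat.card G := by
  obtain ⟨n, ρ, hρ, he⟩ := χ.2
  have := hρ
  have hne : (Nat.card G : ℂ) ≠ 0 := Nat.cast_ne_zero.2 Nat.card_pos.ne'
  obtain ⟨h, -⟩ := Cfsg.Agent.S0158.result ρ
  rw [← he]
  rcases h with h | h | h <;> rw [inv_mul_eq_iff_eq_mul₀ hne] at h
  · exact ⟨0, Or.inl rfl, by rw [h]; simp⟩
  · exact ⟨1, Or.inr (Or.inl rfl), by rw [h]; simp⟩
  · exact ⟨-1, Or.inr (Or.inr rfl), by rw [h]; simp⟩

/-- **The kernel has order `q ^ 2`.** -/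
theorem card_kernel_sq : Nat.card U = (Nat.card ↥(Zass.two G a b) + 1) ^ 2 := by
  classical
  obtain ⟨hcard, hcases, -, -, -⟩ := kernel_structure hZ hab hU h2 hna
  rw [hcard] at hcases
  refine hcases.resolve_right fun hcube => ?_
  have := Fintype.ofFinite U
  have := Fintype.ofFinite (Zass.two G a b)
  have hodd := odd_two hZ hab hU h2
  have he := Zass.two_card_gt_one hZ hab
  have hq := card_U_pos hZ hab hU
  have h3 := Zass.three_le_card hZ hab
  obtain ⟨c, hc⟩ : ∃ c, Nat.card ↥(Zass.two G a b) = 2 * c + 1 := id hodd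
  set e := Nat.card ↥(Zass.two G a b) with he'
  have hlc := card_linIrr hZ hab hU h2 hna
  rw [hcard, hcube] at hlc
  have hLcard : (linIrr U).card + 1 = (e + 1) ^ 2 :=
    Nat.eq_of_mul_eq_mul_right (show 0 < e + 1 by omega) (by rw [hlc]; ring)
  choose dg hdg using fun θ : Cfsg.IrrCharacter U =>
    CharCore.IsCharacter.exists_degree (CharCore.irr_isCharacter θ)
  let Θ := {θ : Cfsg.IrrCharacter U // θ ≠ oneIrr U}
  let R := {χ : Cfsg.IrrCharacter G // umult χ (oneIrr U) = 0}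
  let M : R → Θ → ℕ := fun χ θ => umult χ.1 θ.1
  let N : Θ → Θ → ℕ := fun θ θ' =>
    (Finset.univ.filter fun x : Zass.two G a b => tconj hZ hU x θ.1 = θ'.1).card
  let d : Θ → ℕ := fun θ => dg θ.1
  have hgram : ∀ θ θ', ∑ r, M r θ * M r θ' = N θ θ' + c * d θ * d θ' := fun θ θ' =>
    gram_cusp hZ hab hU hodd hc θ.1 θ'.1 θ.2 θ'.2 (hdg θ.1) (hdg θ'.1)
  have hle : ∀ θ θ', N θ θ' ≤ 1 := fun θ θ' => orbit_card_le hZ hab hU h2 hna θ.1 θ'.1 θ.2
  have hone : ∀ θ : Cfsg.IrrCharacter U, tconj hZ hU (1 : Zass.two G a b) θ = θ := fun θ =>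
    Subtype.ext (funext fun u => congrArg (θ : U → ℂ) (Subtype.ext (by simp [conjKer])))
  have hself : ∀ θ, N θ θ = 1 := fun θ => le_antisymm (hle θ θ)
    (Finset.card_pos.2 ⟨1, by simp [hone]⟩)
  have hd : ∀ θ θ', N θ θ' = 1 → d θ = d θ' := by
    intro θ θ' h
    obtain ⟨x, hx⟩ := Finset.card_pos.1 (by omega : 0 < N θ θ')
    simp only [Finset.mem_filter, Finset.mem_univ, true_and] at hx
    have h1 := hdg θ'.1
    rw [← hx, tconj_one, hdg θ.1] at h1
    show dg θ.1 = dg θ'.1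
    rw [← hx]
    exact_mod_cast h1
  have horb : ∀ (s : Finset Θ) θ, (s.filter fun θ' => N θ θ' = 1).card ≤ e := by
    intro s θ
    calc (s.filter fun θ' => N θ θ' = 1).card
        ≤ ((Finset.univ : Finset (Zass.two G a b)).image fun x => tconj hZ hU x θ.1).card := by
          refine Finset.card_le_card_of_injOn (fun θ' => θ'.1) (fun θ' hθ' => ?_)
            (fun _ _ _ _ h => Subtype.ext h)
          obtain ⟨x, hx⟩ := Finset.card_pos.1
            (by have := (Finset.mem_filter.1 hθ').2; omega : 0 < N θ θ')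
          simp only [Finset.mem_filter, Finset.mem_univ, true_and] at hx
          exact Finset.mem_coe.2 (Finset.mem_image.2 ⟨x, Finset.mem_univ _, hx⟩)
      _ ≤ e := Finset.card_image_le.trans (by rw [Finset.card_univ, he', Nat.card_eq_fintype_card])
  set L := (linIrr U).subtype (fun θ => θ ≠ oneIrr U) with hL
  have hmemL : ∀ θ : Θ, θ ∈ L ↔ θ.1 ∈ linIrr U := fun θ => Finset.mem_subtype
  have hLd : ∀ θ ∈ L, d θ = 1 := by
    intro θ hθ
    have h1 := (Finset.mem_filter.1 ((hmemL θ).1 hθ)).2.2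
    rw [hdg θ.1] at h1
    exact Nat.cast_eq_one.1 h1
  have hL' : L.card = (linIrr U).card := by
    rw [hL, Finset.card_subtype, Finset.filter_true_of_mem]
    intro θ hθ
    exact (Finset.mem_filter.1 hθ).2.1
  have hLbig : e * (c + 2) < L.card := by nlinarith
  obtain ⟨γ, hγ, hgood⟩ := Gram.exists_base hgram hle hself hd L hLd (horb L) hLbig
  obtain ⟨θ₀, hθ₀⟩ := Finset.card_pos.1 (show 0 < L.card by omega)
  obtain ⟨x₀, hx₀, hv₀⟩ := hgood θ₀ hθ₀
  have hrow : ∀ θ ∈ L, M x₀ θ = N θ₀ θ := by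
    intro θ hθ
    obtain ⟨x, hx, hv⟩ := hgood θ hθ
    rw [Gram.Good.rel hgram hγ hx₀ hx hv₀ hv, hv x₀, hx₀, mul_zero, zero_add]
  obtain ⟨θ₁, hθ₁, hθ₁N⟩ : ∃ θ₁ ∈ L, N θ₀ θ₁ = 0 := by
    by_contra hcon
    push Not at hcon
    have h1 : (L.filter fun θ' => N θ₀ θ' = 1).card = L.card := by
      rw [Finset.filter_true_of_mem]
      intro θ hθ
      have := hle θ₀ θ
      have := hcon θ hθ
      omega
    have := horb L θ₀
    nlinarith
  have hmult : linMult (U := U) x₀.1 = e := by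
    have hθ₀' := (hmemL θ₀).1 hθ₀
    have hfib := Finset.card_eq_sum_card_fiberwise (s := (Finset.univ : Finset (Zass.two G a b)))
      (f := fun x => tconj hZ hU x θ₀.1) (t := linIrr U)
      (fun x _ => tconj_mem_lin hZ hU hθ₀' x)
    rw [Finset.card_univ, ← Nat.card_eq_fintype_card, ← he'] at hfib
    rw [linMult, hfib]
    refine Finset.sum_congr rfl fun θ hθ => ?_
    exact hrow ⟨θ, (Finset.mem_filter.1 hθ).2.1⟩ ((hmemL _).2 hθ)
  obtain ⟨D, hD⟩ := CharCore.IsCharacter.exists_degree (CharCore.irr_isCharacter x₀.1)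
  have hDodd : Odd D := (degree_parity hZ hab hU h2 hna x₀.1 x₀.2 hD).2 (hmult ▸ hodd)
  -- the character is real
  let χ' : Cfsg.IrrCharacter G :=
    ⟨fun g => conj ((x₀.1 : G → ℂ) g), CharCore.isIrrCharacter_star x₀.1.2⟩
  have hconjU : ∀ θ : Cfsg.IrrCharacter U, (∀ u, conj ((θ : U → ℂ) u) = (θ : U → ℂ) u) →
      umult χ' θ = umult x₀.1 θ := by
    intro θ hθ
    have h1 : (umult χ' θ : ℂ) = conj (umult x₀.1 θ : ℂ) := by
      rw [← umult_spec, ← umult_spec, CharCore.classInner_def, CharCore.classInner_def, map_mul,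
        map_inv₀, Complex.conj_natCast, map_sum]
      congr 1
      refine Finset.sum_congr rfl fun u _ => ?_
      rw [map_mul, Complex.conj_conj]
      show conj ((x₀.1 : G → ℂ) u) * conj ((θ : U → ℂ) u) = conj ((x₀.1 : G → ℂ) u) * _
      rw [hθ]
    rw [Complex.conj_natCast] at h1
    exact_mod_cast h1
  have hχ'0 : umult χ' (oneIrr U) = 0 := by
    rw [hconjU _ fun u => by simp [oneIrr]]
    exact x₀.2
  have hreal : χ' = x₀.1 := by
    have hM : ∀ θ ∈ L, M ⟨χ', hχ'0⟩ θ = M x₀ θ := fun θ hθ =>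
      hconjU θ.1 (conj_linear hZ hab hU h2 hna (Finset.mem_filter.1 ((hmemL θ).1 hθ)).2.2)
    set r : R := ⟨χ', hχ'0⟩ with hr
    obtain ⟨x₁, hx₁, hv₁⟩ := hgood θ₁ hθ₁
    have e0 := hM θ₀ hθ₀
    have e1 := hM θ₁ hθ₁
    rw [hrow θ₁ hθ₁, hθ₁N, hv₁ r, hLd θ₁ hθ₁, one_mul] at e1
    rw [hrow θ₀ hθ₀, hself, hv₀ r, hLd θ₀ hθ₀, one_mul] at e0
    have hrx : r = x₀ := by
      by_contra hne
      rw [if_neg hne] at e0
      omega
    exact congrArg Subtype.val hrx
  have hν : ∑ g : G, (x₀.1 : G → ℂ) (g * g) = (Nat.card G : ℂ) := by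
    have h := Cfsg.Agent.S0895.result (x₀.1 : G → ℂ) x₀.1.2 (fun g => Complex.conj_eq_iff_im.1
      (congrFun (congrArg Subtype.val hreal) g)) D hD hDodd
    exact (inv_mul_eq_one₀ (Nat.cast_ne_zero.2 Nat.card_pos.ne')).1 h |>.symm
  obtain ⟨z, hz, hz1⟩ : ∃ z ∈ Subgroup.center U, z ≠ 1 :=
    (Subgroup.center U).bot_or_exists_ne_one.resolve_left fun h => by
      rw [h, Subgroup.card_bot] at hcard; omega
  obtain ⟨h1, h4⟩ := cusp_values hZ hab hU h2 hna x₀.1 x₀.2 hD hz hz1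
  rw [hν, Zass.card_group hZ hab, ← hq.2, ← he', Nat.cast_mul] at h4
  have h5 := mul_left_cancel₀ (Nat.cast_ne_zero.2 (by omega : Fintype.card Ω ≠ 0)) h4
  rw [hmult] at h1
  rw [hcube] at h5
  push_cast at h1 h5
  have hDe : D = e := by
    have h6 : ((e : ℂ) + 1) ^ 2 * e * ((D : ℂ) - e) = 0 := by
      linear_combination (e : ℂ) * h5 + ((e : ℂ) + 1) * (((e : ℂ) + 1) ^ 2 - 1) * h1
    have h7 : (D : ℂ) = e := sub_eq_zero.1 ((mul_eq_zero.1 h6).resolve_left
      (mul_ne_zero (pow_ne_zero _ (by exact_mod_cast Nat.succ_ne_zero e))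
        (Nat.cast_ne_zero.2 (by omega))))
    exact_mod_cast h7
  refine false_of_small_degree hZ hab hU hodd x₀.1 (fun h => ?_) hD ?_
  · have h1 := x₀.2
    rw [h, umult_oneIrr, if_pos rfl] at h1
    exact one_ne_zero h1
  · rw [← hq.2, hcube, hDe]
    nlinarith

end Cfsg.Agent.ZassNormal.TwoKer
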