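import Cfsg.Agent.Lib.Zassenhaus.TwoKernel
import Cfsg.Agent.Lib.Zassenhaus.GramCoherence
import Cfsg.Agent.Lib.CharInd.BilinearForm
import Cfsg.Agent.S0158
import Cfsg.Agent.S0895

/-!
The order of a simple Zassenhaus group whose kernel is a non-abelian `2`-group is that of a Suzuki
group: Frobenius-Schur indicators exclude a kernel of order `q ^ 3` and show that `2 q` is a square.
-/

set_option autoImplicit false

namespace Cfsg.Agent.ZassNormal.TwoKer

open MulAction
open Cfsg.Agent.CharDeep
open scoped ComplexConjugate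

variable {G Ω : Type*} [Group G] [Fintype G] [DecidableEq G] [MulAction G Ω] [Fintype Ω]
  [DecidableEq Ω] (hZ : Cfsg.IsZassenhausGroup G Ω) {a b : Ω} (hab : a ≠ b) {U : Subgroup G}
  (hU : Zass.IsKernel a U)

/-- The non-principal linear characters of the kernel. -/
noncomputable def linIrr (U : Subgroup G) [Fintype U] : Finset (Cfsg.IrrCharacter U) :=
  open Classical in Finset.univ.filter fun θ => θ ≠ oneIrr U ∧ (θ : U → ℂ) 1 = 1

/-- The total multiplicity of the non-principal linear characters of the kernel. -/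
noncomputable def linMult {U : Subgroup G} [Fintype U] (χ : Cfsg.IrrCharacter G) : ℕ :=
  ∑ θ ∈ linIrr U, umult χ θ

include hZ hab hU

variable [IsSimpleGroup G] (h2 : IsPGroup 2 U) (hna : ∃ u v : U, u * v ≠ v * u)

include h2 hna

/-- A character of the kernel is linear exactly when the centre is in its kernel. -/
theorem linear_iff [Fintype U] (θ : Cfsg.IrrCharacter U) :
    (θ : U → ℂ) 1 = 1 ↔ ∀ z ∈ Subgroup.center U, (θ : U → ℂ) z = (θ : U → ℂ) 1 := by
  obtain ⟨-, -, hcom, -, -⟩ := kernel_structure hZ hab hU h2 hna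
  constructor
  · intro h1 z hz
    obtain ⟨f, hf⟩ := CharCore.IsCharacter.exists_hom_of_degree_one (CharCore.irr_isCharacter θ) h1
    rw [← hcom] at hz
    rw [congrFun hf, congrFun hf,
      show f z = 1 from Abelianization.commutator_subset_ker f hz, map_one]
  · intro hk
    have hdb := Cfsg.Agent.Coherence.degree_bound θ.2 (Subgroup.center U) ⊤ ⊤ le_rfl
      (fun x _ y _ => by
        rw [← hcom, commutator_def]
        exact Subgroup.commutator_mem_commutator (Subgroup.mem_top x) (Subgroup.mem_top y)) hk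
    obtain ⟨d, hd⟩ := CharCore.IsCharacter.exists_degree (CharCore.irr_isCharacter θ)
    rw [hd, Complex.natCast_re, Subgroup.card_top] at hdb
    have hdb' : d ^ 2 * Nat.card U * Nat.card U ≤ Nat.card U ^ 2 := by exact_mod_cast hdb
    have hd0 : d ≠ 0 := fun h => CharCore.irr_apply_one_ne_zero θ (by rw [hd, h, Nat.cast_zero])
    have hle : d ^ 2 ≤ 1 := by
      refine Nat.le_of_mul_le_mul_right ?_
        (show 0 < Nat.card U * Nat.card U from Nat.mul_pos Nat.card_pos Nat.card_pos)
      rw [one_mul, ← mul_assoc, ← sq (Nat.card U)]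
      exact hdb'
    have := (Nat.pow_le_one_iff (by norm_num : (2 : ℕ) ≠ 0)).1 hle
    rw [hd, show d = 1 by omega, Nat.cast_one]

/-- The sum of a cuspidal character over the centre of the kernel. -/
theorem sum_center [Fintype U] [Fintype (Subgroup.center U)] (χ : Cfsg.IrrCharacter G)
    (hf : umult χ (oneIrr U) = 0) :
    ∑ z : Subgroup.center U, (χ : G → ℂ) (z : U) =
      (Nat.card (Subgroup.center U) : ℂ) * (linMult (U := U) χ : ℂ) := by
  classical
  have hdec := CharCore.IsCharacter.eq_sum_classInner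
    (CharCore.isCharacter_restrict (CharCore.irr_isCharacter χ) U)
  have hterm : ∀ θ : Cfsg.IrrCharacter U, ∑ z : Subgroup.center U, (θ : U → ℂ) (z : U) =
      if (θ : U → ℂ) 1 = 1 then (Nat.card (Subgroup.center U) : ℂ) else 0 := by
    intro θ
    split_ifs with h
    · rw [Finset.sum_congr rfl fun (z : Subgroup.center U) _ =>
          ((linear_iff hZ hab hU h2 hna θ).1 h z z.2).trans h,
        Finset.sum_const, Finset.card_univ, nsmul_one, Nat.card_eq_fintype_card]
    · rcases CharDeep.Ext.avg_irr (Subgroup.center U) θ with h1 | h1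
      · refine absurd ((linear_iff hZ hab hU h2 hna θ).2 fun z hz => ?_) h
        have h3 := CharDeep.Ext.avg_mul_left (Subgroup.center U) (θ : U → ℂ) ⟨z, hz⟩ 1
        rw [h1, mul_one] at h3
        exact h3
      · have h3 := congrFun h1 1
        simp only [CharDeep.Ext.avg_apply, mul_one, Pi.zero_apply] at h3
        exact (mul_eq_zero.1 h3).resolve_left (inv_ne_zero (CharDeep.Ext.natCard_ne _))
  have hz : ∀ z : Subgroup.center U, (χ : G → ℂ) (z : U) =
      ∑ θ : Cfsg.IrrCharacter U, (umult χ θ : ℂ) * (θ : U → ℂ) (z : U) := by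
    intro z
    have := congrFun hdec (z : U)
    simp only [Finset.sum_apply, Pi.smul_apply, smul_eq_mul, umult_spec] at this
    exact this
  rw [Finset.sum_congr rfl fun z _ => hz z, Finset.sum_comm, linMult, linIrr, Nat.cast_sum,
    Finset.mul_sum, Finset.sum_filter]
  refine Finset.sum_congr rfl fun θ _ => ?_
  rw [← Finset.mul_sum, hterm θ]
  by_cases h1 : θ = oneIrr U
  · subst h1
    simp [hf]
  · by_cases h3 : (θ : U → ℂ) 1 = 1
    · rw [if_pos h3, if_pos ⟨h1, h3⟩, mul_comm]
    · rw [if_neg h3, if_neg fun h => h3 h.2, mul_zero]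

/-- Characters take one value on the involutions of the kernel. -/
theorem apply_center_eq (f : G → ℂ) (hf : Cfsg.IsClassFunction G f) {z w : U}
    (hz : z ∈ Subgroup.center U) (hz1 : z ≠ 1) (hw : w ∈ Subgroup.center U) (hw1 : w ≠ 1) :
    f z = f w := by
  obtain ⟨-, -, -, -, hmem⟩ := kernel_structure hZ hab hU h2 hna
  have hA := (invol_iff hZ hab hU h2).1
    ⟨z.2, fun h => hz1 (Subtype.ext h), congrArg Subtype.val ((hmem z).1 hz)⟩
  have hB := (invol_iff hZ hab hU h2).1
    ⟨w.2, fun h => hw1 (Subtype.ext h), congrArg Subtype.val ((hmem w).1 hw)⟩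
  obtain ⟨t, -, ht⟩ := Zass.invAt_conj hZ hab (odd_two hZ hab hU h2)
    (odd_card hZ hab hU h2) hA hB
  rw [← ht, hf]

/-- **The value on an involution and the Frobenius-Schur sum of a cuspidal character.** -/
theorem cusp_values [Fintype U] (χ : Cfsg.IrrCharacter G) (hf : umult χ (oneIrr U) = 0)
    {D : ℕ} (hD : (χ : G → ℂ) 1 = D) {z : U} (hz : z ∈ Subgroup.center U) (hz1 : z ≠ 1) :
    (D : ℂ) + (Nat.card ↥(Zass.two G a b) : ℂ) * (χ : G → ℂ) z =
      ((Nat.card ↥(Zass.two G a b) : ℂ) + 1) * (linMult (U := U) χ : ℂ) ∧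
    ∑ g : G, (χ : G → ℂ) (g * g) = (Fintype.card Ω : ℂ) *
      (((Nat.card ↥(Zass.two G a b) : ℂ) + 1) * D +
        ((Nat.card U : ℂ) - (Nat.card ↥(Zass.two G a b) + 1)) * (χ : G → ℂ) z) := by
  classical
  have := Fintype.ofFinite (Subgroup.center U)
  obtain ⟨hcard, -, -, hsq, hmem⟩ := kernel_structure hZ hab hU h2 hna
  have hcls := CharCore.irr_isClassFunction χ
  constructor
  · have h := sum_center hZ hab hU h2 hna χ hf
    rw [← Finset.add_sum_erase _ _ (Finset.mem_univ (1 : Subgroup.center U)),
      Finset.sum_congr rfl fun (w : Subgroup.center U) hw =>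
        apply_center_eq hZ hab hU h2 hna _ hcls w.2
          (fun h => Finset.ne_of_mem_erase hw (Subtype.ext h)) hz hz1,
      Finset.sum_const, Finset.card_erase_of_mem (Finset.mem_univ _), Finset.card_univ,
      ← Nat.card_eq_fintype_card, hcard, Nat.add_sub_cancel, nsmul_eq_mul, OneMemClass.coe_one,
      OneMemClass.coe_one, hD] at h
    push_cast at h
    exact h
  · have hχ1 : χ ≠ oneIrr G := fun h => by
      rw [h, umult_oneIrr, if_pos rfl] at hf
      exact one_ne_zero hf
    have hsum : ∑ g : G, (χ : G → ℂ) g = 0 := by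
      have h := CharCore.classInner_irr_of_ne hχ1
      rw [CharCore.classInner_def] at h
      simp only [oneIrr, Pi.one_apply, map_one, mul_one] at h
      exact (mul_eq_zero.1 h).resolve_left (inv_ne_zero (Nat.cast_ne_zero.2 Nat.card_pos.ne'))
    have hsumU : ∑ u : U, (χ : G → ℂ) u = 0 := by
      have h := umult_spec χ (oneIrr U)
      rw [hf, CharCore.classInner_def, Nat.cast_zero] at h
      simp only [oneIrr, Pi.one_apply, map_one, mul_one] at h
      exact (mul_eq_zero.1 h).resolve_left (inv_ne_zero (CharInd.natCard_subgroup_ne_zero U))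
    rw [sum_sq_eq hZ hab hU h2 _ hcls, hsum, zero_add, Finset.sum_sub_distrib, hsumU, sub_zero]
    congr 1
    have hterm : ∀ u : U, (χ : G → ℂ) ((u : G) * u) =
        if u ∈ Subgroup.center U then (D : ℂ) else (χ : G → ℂ) z := by
      intro u
      by_cases hu : u ∈ Subgroup.center U
      · rw [if_pos hu, show (u : G) * u = 1 from congrArg Subtype.val ((hmem u).1 hu), hD]
      · rw [if_neg hu, ← Subgroup.coe_mul]
        exact apply_center_eq hZ hab hU h2 hna _ hcls (hsq u)
          (fun h => hu ((hmem u).2 h)) hz hz1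
    rw [Finset.sum_congr rfl fun u _ => hterm u, Finset.sum_ite, Finset.sum_const, Finset.sum_const,
      nsmul_eq_mul, nsmul_eq_mul]
    have hc1 : (Finset.univ.filter fun u : U => u ∈ Subgroup.center U).card
        = Nat.card ↥(Zass.two G a b) + 1 := by
      rw [← hcard, Nat.card_eq_fintype_card, Fintype.card_subtype]
    have hc2 := Finset.card_filter_add_card_filter_not (s := (Finset.univ : Finset U))
      (fun u => u ∈ Subgroup.center U)
    rw [hc1, Finset.card_univ, ← Nat.card_eq_fintype_card] at hc2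
    rw [hc1, show (Nat.card U : ℂ) = ((Nat.card ↥(Zass.two G a b) + 1 : ℕ) : ℂ)
      + ((Finset.univ.filter fun u : U => ¬ u ∈ Subgroup.center U).card : ℂ) by
        exact_mod_cast hc2.symm]
    push_cast
    ring

/-- The degree of a cuspidal character has the parity of its linear multiplicity. -/
theorem degree_parity [Fintype U] (χ : Cfsg.IrrCharacter G) (hf : umult χ (oneIrr U) = 0)
    {D : ℕ} (hD : (χ : G → ℂ) 1 = D) : Odd D ↔ Odd (linMult (U := U) χ) := by
  classical
  choose dg hdg using fun θ : Cfsg.IrrCharacter U =>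
    CharCore.IsCharacter.exists_degree (CharCore.irr_isCharacter θ)
  have hdec := congrFun (CharCore.IsCharacter.eq_sum_classInner
    (CharCore.isCharacter_restrict (CharCore.irr_isCharacter χ) U)) 1
  simp only [Finset.sum_apply, Pi.smul_apply, smul_eq_mul, umult_spec, hdg, OneMemClass.coe_one,
    hD] at hdec
  have hDe : D = ∑ θ, umult χ θ * dg θ := by exact_mod_cast hdec
  have hlin : ∑ θ ∈ linIrr U, umult χ θ * dg θ = linMult (U := U) χ := by
    rw [linMult]
    refine Finset.sum_congr rfl fun θ hθ => ?_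
    simp only [linIrr, Finset.mem_filter, Finset.mem_univ, true_and] at hθ
    have h1 : dg θ = 1 := by
      have := hθ.2
      rw [hdg] at this
      exact_mod_cast this
    rw [h1, mul_one]
  have heven : Even (∑ θ ∈ (linIrr U)ᶜ, umult χ θ * dg θ) := by
    refine Finset.even_sum _ fun θ hθ => ?_
    simp only [linIrr, Finset.mem_compl, Finset.mem_filter, Finset.mem_univ, true_and,
      not_and] at hθ
    by_cases h1 : θ = oneIrr U
    · subst h1; simp [hf]
    refine Even.mul_left ?_ _
    obtain ⟨k, -, hk, hk'⟩ := CharClifford.exists_degree_dvd_index_center θ.2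
    obtain ⟨n, hn⟩ := h2.exists_card_eq
    have hkdvd : k ∣ 2 ^ n := hn ▸ hk.trans (Subgroup.index_dvd_card _)
    have hkd : dg θ = k := by
      rw [hdg] at hk'
      exact_mod_cast hk'
    obtain ⟨j, -, hj⟩ := (Nat.dvd_prime_pow Nat.prime_two).1 hkdvd
    rcases j with _ | j
    · refine absurd ?_ (hθ h1)
      rw [hdg, hkd, hj, pow_zero, Nat.cast_one]
    · rw [hkd, hj]
      exact even_iff_two_dvd.2 (dvd_pow_self 2 j.succ_ne_zero)
  rw [hDe, ← Finset.sum_add_sum_compl (linIrr U), hlin]
  exact ⟨fun h => (Nat.odd_add.1 h).2 heven, fun h => h.add_even heven⟩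

/-- The number of non-principal linear characters. -/
theorem card_linIrr [Fintype U] :
    ((linIrr U).card + 1) * Nat.card (Subgroup.center U) = Nat.card U := by
  classical
  obtain ⟨-, -, hcom, -, -⟩ := kernel_structure hZ hab hU h2 hna
  have h : (linIrr U).card + 1 = (commutator U).index := by
    rw [← CharCore.card_linearCharacters, Nat.card_eq_fintype_card, Fintype.card_subtype, linIrr,
      ← Finset.card_erase_add_one (a := oneIrr U)
        (s := Finset.univ.filter fun θ : Cfsg.IrrCharacter U => (θ : U → ℂ) 1 = 1)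
        (by simp [oneIrr])]
    congr 2
    ext θ
    simp
  rw [h, hcom, mul_comm, Subgroup.card_mul_index]

end Cfsg.Agent.ZassNormal.TwoKer
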