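import Cfsg.Agent.Lib.Zassenhaus.TwoKernelCube
import Cfsg.Agent.CharDeep.Expand
import Cfsg.Agent.Lib.CharClifford.Galois

/-!
A simple Zassenhaus group whose kernel is a non-abelian `2`-group has the order of a Suzuki group:
with `|U| = q ^ 2`, the column sums at an involution and one class multiplication coefficient
determine the sums of `P` and `(q ^ 2 + 1) / P` over the cuspidal characters of degree `e P` with
linear multiplicity `e`, and these force `2 q` to be a square.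
-/

set_option autoImplicit false

namespace Cfsg.Agent.ZassNormal.TwoKer

open MulAction
open Cfsg.Agent.CharDeep
open scoped ComplexConjugate

variable {G Ω : Type*} [Group G] [Fintype G] [DecidableEq G] [MulAction G Ω] [Fintype Ω]
  [DecidableEq Ω] (hZ : Cfsg.IsZassenhausGroup G Ω) {a b : Ω} (hab : a ≠ b) {U : Subgroup G}
  (hU : Zass.IsKernel a U) [IsSimpleGroup G] (h2 : IsPGroup 2 U)
  (hna : ∃ u v : U, u * v ≠ v * u)

include hZ hab hU

omit [IsSimpleGroup G] in
theorem umult_one_noncusp [Fintype U] (χ : Cfsg.IrrCharacter G) {D c : ℕ}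
    (hDc : (D = Fintype.card Ω - 1 ∧ c = 0) ∨ (D = Fintype.card Ω ∧ c = 1))
    (hD : (χ : G → ℂ) 1 = D) (hc : ∀ u ∈ U, u ≠ 1 → (χ : G → ℂ) u = c) :
    umult χ (oneIrr U) = 1 + c := by
  classical
  have hspec := umult_spec χ (oneIrr U)
  rw [CharCore.classInner_def] at hspec
  simp only [oneIrr, Pi.one_apply, map_one, mul_one] at hspec
  rw [← Finset.add_sum_erase _ _ (Finset.mem_univ (1 : U)),
    Finset.sum_congr rfl fun (u : U) hu => hc u u.2 fun h =>
      Finset.ne_of_mem_erase hu (Subtype.ext h),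
    Finset.sum_const, Finset.card_erase_of_mem (Finset.mem_univ _), Finset.card_univ,
    ← Nat.card_eq_fintype_card, (card_U_pos hZ hab hU).2, OneMemClass.coe_one, hD,
    nsmul_eq_mul, inv_mul_eq_iff_eq_mul₀ (Nat.cast_ne_zero.2 (card_U_pos hZ hab hU).1.ne')] at hspec
  have hspec' : D + (Fintype.card Ω - 1 - 1) * c
      = (Fintype.card Ω - 1) * umult χ (oneIrr U) := by exact_mod_cast hspec
  have h3 := Zass.three_le_card hZ hab
  rcases hDc with ⟨rfl, rfl⟩ | ⟨rfl, rfl⟩ <;>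
    (refine Nat.eq_of_mul_eq_mul_left (card_U_pos hZ hab hU).1 ?_; omega)

/-- The sum over the non-cuspidal non-principal characters of a function of the degree and of the
value at a non-identity element of the kernel. -/
theorem noncusp_sum (hodd : Odd (Nat.card ↥(Zass.two G a b))) [Fintype U]
    {c : ℕ} (hc : Nat.card ↥(Zass.two G a b) = 2 * c + 1) {z : U} (hz : z ≠ 1) (F : ℂ → ℂ → ℂ)
    [DecidablePred fun χ : Cfsg.IrrCharacter G => umult χ (oneIrr U) ≠ 0]
    [DecidableEq (Cfsg.IrrCharacter G)] :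
    ∑ χ ∈ (Finset.univ.filter fun χ : Cfsg.IrrCharacter G => umult χ (oneIrr U) ≠ 0).erase
      (oneIrr G), F ((χ : G → ℂ) 1) ((χ : G → ℂ) z) =
      F ((Fintype.card Ω - 1 : ℕ)) 0 + (c : ℂ) * F (Fintype.card Ω) 1 := by
  classical
  have := Fintype.ofFinite (Zass.two G a b)
  set N := (Finset.univ.filter fun χ : Cfsg.IrrCharacter G => umult χ (oneIrr U) ≠ 0).erase
    (oneIrr G) with hN
  have hmem : ∀ χ ∈ N, χ ≠ oneIrr G ∧ umult χ (oneIrr U) ≠ 0 := fun χ hχ => by
    simpa [hN] using hχ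
  set S0 := N.filter fun χ => umult χ (oneIrr U) = 1 with hS0
  set S1 := N.filter fun χ => ¬ umult χ (oneIrr U) = 1 with hS1
  have hval : ∀ χ ∈ N,
      (umult χ (oneIrr U) = 1 ∧ (χ : G → ℂ) 1 = (Fintype.card Ω - 1 : ℕ) ∧ (χ : G → ℂ) z = 0) ∨
      (umult χ (oneIrr U) = 2 ∧ (χ : G → ℂ) 1 = Fintype.card Ω ∧ (χ : G → ℂ) z = 1) := by
    intro χ hχ
    obtain ⟨D, c', hDc, hD, hc', -⟩ :=
      noncusp_values hZ hab hU hodd χ (hmem χ hχ).1 (hmem χ hχ).2
    have hm := umult_one_noncusp hZ hab hU χ hDc hD hc'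
    have hzv := hc' z z.2 fun h => hz (Subtype.ext h)
    rcases hDc with ⟨rfl, rfl⟩ | ⟨rfl, rfl⟩
    · exact Or.inl ⟨hm, hD, by rw [hzv, Nat.cast_zero]⟩
    · exact Or.inr ⟨hm, hD, by rw [hzv, Nat.cast_one]⟩
  have hle : S0.card ≤ 1 := by
    refine Finset.card_le_one.2 fun χ hχ χ' hχ' => ?_
    have key : ∀ ψ ∈ S0, (ψ : G → ℂ) = fun g =>
        Cfsg.indFun (stabilizer G a) (fun _ => (1 : ℂ)) g - 1 := by
      intro ψ hψ
      obtain ⟨hψN, hψ1⟩ := Finset.mem_filter.1 hψ
      obtain ⟨D, c', hDc, hD, hc', -, he0⟩ :=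
        noncusp_values hZ hab hU hodd ψ (hmem ψ hψN).1 (hmem ψ hψN).2
      refine he0 ?_
      have := umult_one_noncusp hZ hab hU ψ hDc hD hc'
      omega
    exact Subtype.ext ((key χ hχ).trans (key χ' hχ').symm)
  have h11 : (oneIrr U : U → ℂ) 1 = ((1 : ℕ) : ℂ) := by simp [oneIrr]
  have hg := gram hZ hab hU (oneIrr U) (oneIrr U) h11 h11
  rw [Finset.filter_true_of_mem (p := fun x => tconj hZ hU x (oneIrr U) = oneIrr U)
      (fun x _ => Subtype.ext (funext fun u => rfl)), Finset.card_univ,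
    ← Nat.card_eq_fintype_card, ← Finset.sum_filter_add_sum_filter_not Finset.univ
      (fun χ : Cfsg.IrrCharacter G => umult χ (oneIrr U) ≠ 0),
    Finset.sum_eq_zero (s := Finset.filter (fun χ : Cfsg.IrrCharacter G =>
      ¬ umult χ (oneIrr U) ≠ 0) Finset.univ) (fun χ hχ => by
        rw [not_not.1 (Finset.mem_filter.1 hχ).2, zero_mul]),
    add_zero, ← Finset.add_sum_erase _ _ (show oneIrr G ∈ Finset.univ.filter
      (fun χ : Cfsg.IrrCharacter G => umult χ (oneIrr U) ≠ 0) by simp [umult_oneIrr]),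
    umult_oneIrr, if_pos rfl, ← hN, ← Finset.sum_filter_add_sum_filter_not N
      (fun χ => umult χ (oneIrr U) = 1), ← hS0, ← hS1] at hg
  have hs0 : ∑ χ ∈ S0, umult χ (oneIrr U) * umult χ (oneIrr U) = S0.card := by
    rw [Finset.card_eq_sum_ones]
    exact Finset.sum_congr rfl fun χ hχ => by rw [(Finset.mem_filter.1 hχ).2]
  have hs1 : ∑ χ ∈ S1, umult χ (oneIrr U) * umult χ (oneIrr U) = 4 * S1.card := by
    rw [Finset.card_eq_sum_ones, Finset.mul_sum]
    refine Finset.sum_congr rfl fun χ hχ => ?_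
    obtain ⟨hχN, hne⟩ := Finset.mem_filter.1 hχ
    rw [((hval χ hχN).resolve_left fun h => hne h.1).1]
    try norm_num
  rw [hs0, hs1, hc] at hg
  have hS0c : S0.card = 1 := by omega
  have hS1c : S1.card = c := by omega
  rw [← Finset.sum_filter_add_sum_filter_not N (fun χ => umult χ (oneIrr U) = 1), ← hS0, ← hS1,
    Finset.sum_congr rfl (s₁ := S0) (g := fun _ => F ((Fintype.card Ω - 1 : ℕ)) 0) fun χ hχ => by
      obtain ⟨hχN, h1⟩ := Finset.mem_filter.1 hχ
      obtain ⟨-, e1, e2⟩ := (hval χ hχN).resolve_right fun h => by omega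
      rw [e1, e2],
    Finset.sum_congr rfl (s₁ := S1) (g := fun _ => F (Fintype.card Ω) 1) fun χ hχ => by
      obtain ⟨hχN, h1⟩ := Finset.mem_filter.1 hχ
      obtain ⟨-, e1, e2⟩ := (hval χ hχN).resolve_left fun h => h1 h.1
      rw [e1, e2],
    Finset.sum_const, Finset.sum_const, hS0c, hS1c, one_smul, nsmul_eq_mul]

include h2

/-- The involutions form one class. -/
theorem card_class {z : U} (hz : (z : G) ∈ Zass.invAt G a) :
    Nat.card {x : G // IsConj (z : G) x} = Nat.card ↥(Zass.two G a b) * Fintype.card Ω := by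
  classical
  have hodd := odd_two hZ hab hU h2
  have hn := odd_card hZ hab hU h2
  rw [← Zass.card_invs_of_odd hZ hab hodd hn, Nat.card_eq_fintype_card, Fintype.card_subtype]
  congr 1
  ext x
  simp only [Finset.mem_filter, Finset.mem_univ, true_and]
  have hz' := hz
  simp only [Zass.invAt, Finset.mem_filter] at hz'
  constructor
  · intro h
    obtain ⟨k, rfl⟩ := isConj_iff.1 h
    exact Zass.conj_mem_invs k hz'.1
  · intro hx
    have hf := Zass.inv_nfix hZ hab hodd hx
    rw [if_pos hn] at hf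
    obtain ⟨c, hc⟩ := Finset.card_eq_one.1 hf
    have hxc : x • c = c := by simpa using Finset.ext_iff.1 hc c
    have := Zass.pretransitive hZ
    obtain ⟨k, rfl⟩ := MulAction.exists_smul_eq G a c
    have hx' : k⁻¹ * x * k ∈ Zass.invAt G a := by
      simp only [Zass.invAt, Finset.mem_filter]
      exact ⟨by simpa using Zass.conj_mem_invs k⁻¹ hx,
        by rw [mul_smul, mul_smul, hxc, inv_smul_smul]⟩
    obtain ⟨t, -, ht⟩ := Zass.invAt_conj hZ hab hodd hn hz hx'
    exact (isConj_iff.2 ⟨t, ht⟩).trans (isConj_iff.2 ⟨k, by group⟩)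

/-- The number of pairs of involutions with a given involution as product. -/
theorem card_pairs {z : U} (hz : (z : G) ∈ Zass.invAt G a) :
    Nat.card {p : G × G // IsConj (z : G) p.1 ∧ IsConj (z : G) p.2 ∧ p.1 * p.2 = z} + 1
      = Nat.card ↥(Zass.two G a b) := by
  classical
  have hodd := odd_two hZ hab hU h2
  have hn := odd_card hZ hab hU h2
  have hz' := hz
  simp only [Zass.invAt, Finset.mem_filter] at hz'
  have hz2 := (Zass.mem_invs.1 hz'.1).2
  rw [Nat.card_eq_fintype_card, Fintype.card_subtype,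
    ← Zass.card_invSwap_of_odd hZ hab hodd hn, ← Zass.card_invAt hZ hab hodd hn a,
    ← Finset.card_erase_add_one hz]
  congr 1
  have hinv : ∀ {x : G}, IsConj (z : G) x → x ∈ Zass.invs G := fun {x} h => by
    obtain ⟨k, rfl⟩ := isConj_iff.1 h
    exact Zass.conj_mem_invs k hz'.1
  refine Finset.card_nbij' (fun p => p.1) (fun x => (x, x * (z : G))) (fun p hp => ?_)
    (fun x hx => ?_) (fun p hp => ?_) (fun x _ => rfl)
  · simp only [Finset.coe_filter, Finset.mem_univ, true_and, Set.mem_setOf_eq] at hp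
    obtain ⟨h1, h3, h4⟩ := hp
    have i1 := Zass.mem_invs.1 (hinv h1)
    have i2 := Zass.mem_invs.1 (hinv h3)
    have hp2 : p.2 = p.1 * (z : G) := by rw [← h4, ← mul_assoc, i1.2, one_mul]
    have hcomm : p.1 * (z : G) = (z : G) * p.1 := by
      have h5 : (p.1 * (z : G)) * (p.1 * (z : G)) = 1 := hp2 ▸ i2.2
      calc p.1 * (z : G) = (p.1 * (z : G)) * ((z : G) * ((p.1 * p.1) * (z : G))) := by
            rw [i1.2, one_mul, hz2, mul_one]
        _ = p.1 * ((z : G) * (z : G)) * p.1 * (p.1 * (z : G)) := by group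
        _ = p.1 * 1 * p.1 * (p.1 * (z : G)) := by rw [hz2]
        _ = p.1 * (z : G) := by rw [mul_one, i1.2, one_mul]
        _ = (z : G) * p.1 := by
            refine mul_right_cancel (b := p.1 * (z : G)) ?_
            rw [h5, mul_assoc, ← mul_assoc p.1 p.1, i1.2, one_mul, hz2]
    rw [Finset.mem_coe, Finset.mem_erase, Zass.invAt, Finset.mem_filter]
    refine ⟨fun he => i2.1 ?_, hinv h1, ?_⟩
    · simp only at he
      rw [hp2, he, hz2]
    · exact Zass.fix_unique hZ hab hodd hz'.1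
        (by rw [← mul_smul, ← hcomm, mul_smul, hz'.2]) hz'.2
  · rw [Finset.mem_coe, Finset.mem_erase] at hx
    have hxI := hx.2
    simp only [Zass.invAt, Finset.mem_filter] at hxI
    have hc := Zass.invAt_commute hZ hab hodd hU hn hx.2 hz
    have hxz : x * (z : G) ∈ Zass.invAt G a := by
      simp only [Zass.invAt, Finset.mem_filter, Zass.mem_invs]
      refine ⟨⟨fun h => hx.1 ?_, ?_⟩, by rw [mul_smul, hz'.2, hxI.2]⟩
      · rw [eq_inv_of_mul_eq_one_left h, inv_eq_of_mul_eq_one_right hz2]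
      · calc x * (z : G) * (x * (z : G)) = x * ((z : G) * x) * (z : G) := by group
          _ = x * (x * (z : G)) * (z : G) := by rw [hc]
          _ = (x * x) * ((z : G) * (z : G)) := by group
          _ = 1 := by rw [(Zass.mem_invs.1 hxI.1).2, hz2, one_mul]
    simp only [Finset.coe_filter, Finset.mem_univ, true_and, Set.mem_setOf_eq]
    obtain ⟨t, -, ht⟩ := Zass.invAt_conj hZ hab hodd hn hz hx.2
    obtain ⟨t', -, ht'⟩ := Zass.invAt_conj hZ hab hodd hn hz hxz
    refine ⟨isConj_iff.2 ⟨t, ht⟩, isConj_iff.2 ⟨t', ht'⟩, ?_⟩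
    rw [← mul_assoc, (Zass.mem_invs.1 hxI.1).2, one_mul]
  · simp only [Finset.coe_filter, Finset.mem_univ, true_and, Set.mem_setOf_eq] at hp
    obtain ⟨h1, h3, h4⟩ := hp
    refine Prod.ext rfl ?_
    show p.1 * (z : G) = p.2
    rw [← h4, ← mul_assoc, (Zass.mem_invs.1 (hinv h1)).2, one_mul]

include hna

/-- Linear characters of the kernel form one orbit when `|U| = q ^ 2`. -/
theorem linMult_eq [Fintype U] {θ₀ : Cfsg.IrrCharacter U} (hθ₀ : θ₀ ∈ linIrr U)
    (χ : Cfsg.IrrCharacter G) :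
    linMult (U := U) χ = Nat.card ↥(Zass.two G a b) * umult χ θ₀ := by
  classical
  have := Fintype.ofFinite (Zass.two G a b)
  have hsq := card_kernel_sq hZ hab hU h2 hna
  have hl := card_linIrr hZ hab hU h2 hna
  rw [(kernel_structure hZ hab hU h2 hna).1, hsq, sq] at hl
  have hl' := Nat.eq_of_mul_eq_mul_right (Nat.succ_pos _) hl
  have hne := (Finset.mem_filter.1 hθ₀).2.1
  have himg : ((Finset.univ : Finset (Zass.two G a b)).image fun x => tconj hZ hU x θ₀)
      = linIrr U := by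
    refine Finset.eq_of_subset_of_card_le (fun θ hθ => ?_) ?_
    · obtain ⟨x, -, rfl⟩ := Finset.mem_image.1 hθ
      exact tconj_mem_lin hZ hU hθ₀ x
    · rw [Finset.card_image_of_injective _ fun x y h => Finset.card_le_one.1
        (orbit_card_le hZ hab hU h2 hna θ₀ (tconj hZ hU x θ₀) hne) x (by simp) y (by simp [h]),
        Finset.card_univ, ← Nat.card_eq_fintype_card]
      omega
  rw [linMult, Finset.sum_congr rfl (g := fun _ => umult χ θ₀), Finset.sum_const, smul_eq_mul]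
  · congr 1
    omega
  intro θ hθ
  rw [← himg] at hθ
  obtain ⟨x, -, rfl⟩ := Finset.mem_image.1 hθ
  -- conjugation by the two-point stabiliser fixes characters of the whole group
  have h : (umult χ (tconj hZ hU x θ₀) : ℂ) = umult χ θ₀ := by
    rw [← umult_spec, ← umult_spec, CharCore.classInner_def, CharCore.classInner_def]
    congr 1
    refine Fintype.sum_equiv (conjKer hZ hU (x : G) x.2.1).toEquiv _ _ fun u => ?_
    show (χ : G → ℂ) u * conj ((θ₀ : U → ℂ) (conjKer hZ hU (x : G) x.2.1 u))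
      = (χ : G → ℂ) ((x : G) * u * (x : G)⁻¹) * _
    rw [CharCore.irr_isClassFunction χ]
    rfl
  exact_mod_cast h

/-- **The order is that of a Suzuki group.** -/
theorem exists_exponent :
    ∃ m : ℕ, 1 ≤ m ∧ Nat.card ↥(Zass.two G a b) + 1 = 2 ^ (2 * m + 1) := by
  classical
  have := Fintype.ofFinite U
  have := Fintype.ofFinite (Zass.two G a b)
  obtain ⟨hcard, -, -, -, hmem⟩ := kernel_structure hZ hab hU h2 hna
  have hodd := odd_two hZ hab hU h2
  have hn := odd_card hZ hab hU h2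
  have he := Zass.two_card_gt_one hZ hab
  have h3 := Zass.three_le_card hZ hab
  have hU' := card_U_pos hZ hab hU
  have hsq := card_kernel_sq hZ hab hU h2 hna
  obtain ⟨c, hc⟩ : ∃ c, Nat.card ↥(Zass.two G a b) = 2 * c + 1 := id hodd
  set e := Nat.card ↥(Zass.two G a b) with he'
  obtain ⟨k, hk⟩ := (h2.to_subgroup (Subgroup.center U)).exists_card_eq
  rw [hcard] at hk
  have hk2 : 2 ≤ k := by
    by_contra h
    interval_cases k <;> omega
  have hΩ : Fintype.card Ω = (e + 1) ^ 2 + 1 := by omega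
  -- a linear character and an involution
  have hl := card_linIrr hZ hab hU h2 hna
  rw [hcard, hsq, sq] at hl
  have hl' := Nat.eq_of_mul_eq_mul_right (Nat.succ_pos _) hl
  obtain ⟨θ₀, hθ₀⟩ := Finset.card_pos.1 (show 0 < (linIrr U).card by omega)
  have hθ₀1 : (θ₀ : U → ℂ) 1 = ((1 : ℕ) : ℂ) := by
    rw [Nat.cast_one]; exact (Finset.mem_filter.1 hθ₀).2.2
  have hθ₀ne := (Finset.mem_filter.1 hθ₀).2.1
  obtain ⟨z, hz, hz1⟩ : ∃ z ∈ Subgroup.center U, z ≠ 1 :=
    (Subgroup.center U).bot_or_exists_ne_one.resolve_left fun h => by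
      rw [h, Subgroup.card_bot] at hcard; omega
  have hzA := (invol_iff hZ hab hU h2).1
    ⟨z.2, fun h => hz1 (Subtype.ext h), congrArg Subtype.val ((hmem z).1 hz)⟩
  have hclass := card_class hZ hab hU h2 hzA
  rw [← he'] at hclass
  -- the cuspidal characters
  set C := Finset.univ.filter fun χ : Cfsg.IrrCharacter G => ¬ umult χ (oneIrr U) ≠ 0 with hC
  have hCmem : ∀ χ ∈ C, umult χ (oneIrr U) = 0 := fun χ hχ =>
    not_not.1 (Finset.mem_filter.1 hχ).2
  choose deg hdeg using fun χ : Cfsg.IrrCharacter G =>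
    CharCore.IsCharacter.exists_degree (CharCore.irr_isCharacter χ)
  let v : Cfsg.IrrCharacter G → ℕ := fun χ => umult χ θ₀
  let P : Cfsg.IrrCharacter G → ℕ := fun χ => deg χ / e
  set q : ℂ := (e : ℂ) + 1 with hq
  have he0 : (e : ℂ) ≠ 0 := Nat.cast_ne_zero.2 (by omega)
  have hfacts : ∀ χ ∈ C, (χ : G → ℂ) 1 = (e : ℂ) * P χ ∧
      (χ : G → ℂ) z = q * v χ - P χ ∧ (v χ = 0 ∨ v χ = 1) ∧ 0 < P χ ∧
      (v χ = 1 → Odd (P χ)) := by
    intro χ hχ
    have hf := hCmem χ hχ
    have hdvd := two_dvd_degree hZ hab hU hodd χ hf (hdeg χ)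
    have hP : deg χ = e * P χ := (Nat.mul_div_cancel' hdvd).symm
    have hlm := linMult_eq hZ hab hU h2 hna hθ₀ χ
    obtain ⟨h1, h4⟩ := cusp_values hZ hab hU h2 hna χ hf (hdeg χ) hz hz1
    obtain ⟨ν, hν, hνs⟩ := indicator_cases χ
    rw [hlm, ← he', hP] at h1
    rw [hνs, Zass.card_group hZ hab, ← hU'.2, hsq, ← he', hP] at h4
    push_cast at h1 h4
    have hz' : (χ : G → ℂ) z = q * v χ - P χ := by
      refine mul_left_cancel₀ he0 ?_
      linear_combination h1
    have hνv : (ν : ℂ) = (v χ : ℂ) := by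
      have hne : (Fintype.card Ω : ℂ) * ((q * q) * e) ≠ 0 := by
        refine mul_ne_zero (Nat.cast_ne_zero.2 (by omega)) (mul_ne_zero (mul_ne_zero ?_ ?_) he0) <;>
          · rw [hq]; exact_mod_cast Nat.succ_ne_zero e
      refine mul_left_cancel₀ hne ?_
      rw [hz'] at h4
      linear_combination h4
    have hv : v χ = 0 ∨ v χ = 1 := by
      have : ν = (v χ : ℤ) := by exact_mod_cast hνv
      omega
    refine ⟨by rw [hdeg χ, hP, Nat.cast_mul], hz', hv, Nat.pos_of_ne_zero fun h0 => ?_, fun h1' => ?_⟩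
    · exact CharCore.irr_apply_one_ne_zero χ (by rw [hdeg χ, hP, h0, mul_zero, Nat.cast_zero])
    · have h5 := (degree_parity hZ hab hU h2 hna χ hf (hdeg χ)).2
        (by rw [hlm, show umult χ θ₀ = 1 from h1', mul_one]; exact hodd)
      rw [hP] at h5
      exact (Nat.odd_mul.1 h5).2
  -- splitting sums over the characters
  have hsplit : ∀ F : ℂ → ℂ → ℂ, ∑ χ : Cfsg.IrrCharacter G, F ((χ : G → ℂ) 1) ((χ : G → ℂ) z) =
      F 1 1 + (F ((Fintype.card Ω - 1 : ℕ)) 0 + (c : ℂ) * F (Fintype.card Ω) 1) +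
        ∑ χ ∈ C, F ((e : ℂ) * P χ) (q * v χ - P χ) := by
    intro F
    rw [← Finset.sum_filter_add_sum_filter_not Finset.univ
      (fun χ : Cfsg.IrrCharacter G => umult χ (oneIrr U) ≠ 0), ← hC,
      ← Finset.add_sum_erase _ _ (show oneIrr G ∈ Finset.univ.filter
        (fun χ : Cfsg.IrrCharacter G => umult χ (oneIrr U) ≠ 0) by simp [umult_oneIrr]),
      noncusp_sum hZ hab hU hodd hc hz1 F]
    congr 1
    · refine Finset.sum_congr rfl fun χ hχ => ?_
      rw [(hfacts χ hχ).1, (hfacts χ hχ).2.1]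
  -- column sums
  set A := C.filter fun χ => v χ = 1 with hA
  have hCv : ∑ χ ∈ C, (v χ : ℂ) * v χ = (c : ℂ) + 1 := by
    have h := gram_cusp hZ hab hU hodd hc θ₀ θ₀ hθ₀ne hθ₀ne hθ₀1 hθ₀1
    rw [← Finset.sum_subtype C (fun χ => by simp [hC]) (fun χ => umult χ θ₀ * umult χ θ₀),
      le_antisymm (orbit_card_le hZ hab hU h2 hna θ₀ θ₀ hθ₀ne) (Finset.card_pos.2 ⟨1, by
        simp only [Finset.mem_filter, Finset.mem_univ, true_and]
        exact Subtype.ext (funext fun u => congrArg (θ₀ : U → ℂ)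
          (Subtype.ext (by simp [conjKer])))⟩), mul_one, mul_one, add_comm] at h
    exact_mod_cast h
  have hAv : ∀ (F : Cfsg.IrrCharacter G → ℂ),
      ∑ χ ∈ C, (v χ : ℂ) * F χ = ∑ χ ∈ A, F χ := by
    intro F
    rw [hA, Finset.sum_filter (s := C)]
    refine Finset.sum_congr rfl fun χ hχ => ?_
    rcases (hfacts χ hχ).2.2.1 with h | h <;> simp [h]
  have hAcard : (A.card : ℂ) = (c : ℂ) + 1 := by
    rw [← hCv, hAv, Finset.card_eq_sum_ones, Nat.cast_sum]
    exact Finset.sum_congr rfl fun χ hχ => by rw [(Finset.mem_filter.1 hχ).2]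
  set S := ∑ χ ∈ A, (P χ : ℂ) with hS
  set Q := ∑ χ ∈ C, (P χ : ℂ) ^ 2 with hQ
  set R := ∑ χ ∈ A, ((P χ : ℂ))⁻¹ with hR
  set n : ℂ := (Fintype.card Ω : ℂ) with hn'
  have hnq : n = q ^ 2 + 1 := by rw [hn', hΩ, hq]; push_cast; ring
  have hh : ((Fintype.card Ω - 1 : ℕ) : ℂ) = q ^ 2 := by
    rw [hΩ, hq, Nat.add_sub_cancel]; push_cast; ring
  have hq2 : q = 2 * ((c : ℂ) + 1) := by
    rw [hq, hc]; push_cast; ring
  have hone : (1 : G) ≠ (z : G) := fun h => hz1 (Subtype.ext h.symm)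
  have hzinv : (z : G)⁻¹ = z :=
    inv_eq_of_mul_eq_one_right (congrArg Subtype.val ((hmem z).1 hz))
  have hconj : ∀ χ : Cfsg.IrrCharacter G, conj ((χ : G → ℂ) z) = (χ : G → ℂ) z := fun χ => by
    rw [← CharCore.irr_apply_inv, hzinv]
  have eq1 : 1 + (c : ℂ) * n + (e : ℂ) * (q * S - Q) = 0 := by
    have h := sum_irr_mul_conj (1 : G) (z : G)
    rw [BlocksCore.classInd_apply_of_not_isConj (fun h => hone (isConj_one_right.1 h).symm), mul_zero,
      mul_eq_zero, or_iff_right (class_card_ne_zero _)] at h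
    simp only [hconj] at h
    rw [hsplit (fun x y => x * y)] at h
    simp only [mul_one, mul_zero, zero_add] at h
    rw [← h, hS, hQ, ← hAv, Finset.mul_sum, ← Finset.sum_sub_distrib, Finset.mul_sum]
    congr 1
    exact Finset.sum_congr rfl fun χ _ => by ring
  have eq2 : 1 + (c : ℂ) + q ^ 2 * ((c : ℂ) + 1) - 2 * q * S + Q = q ^ 2 := by
    have h := sum_irr_mul_conj (z : G) (z : G)
    rw [BlocksCore.classInd_apply_of_isConj (IsConj.refl _), hclass, Zass.card_group hZ hab,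
      ← he'] at h
    push_cast at h
    rw [hh, ← hn'] at h
    simp only [hconj] at h
    rw [hsplit (fun _ y => y * y)] at h
    have h' := mul_left_cancel₀ (a := (e : ℂ) * n) (mul_ne_zero he0
      (Nat.cast_ne_zero.2 (by omega))) (h.trans (by ring : n * (q ^ 2 * (e : ℂ)) * 1
        = (e : ℂ) * n * q ^ 2))
    simp only [mul_one, mul_zero, zero_add] at h'
    have hT : ∑ χ ∈ C, (q * v χ - P χ) * (q * v χ - P χ)
        = q ^ 2 * ((c : ℂ) + 1) - 2 * q * S + Q := by
      rw [← hCv, hS, hQ, ← hAv, Finset.mul_sum, Finset.mul_sum, ← Finset.sum_sub_distrib,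
        ← Finset.sum_add_distrib]
      exact Finset.sum_congr rfl fun χ _ => by ring
    linear_combination h' - hT
  have eq3 : q ^ 3 * R - 3 * q ^ 2 * ((c : ℂ) + 1) + 3 * q * S - Q
      + (e : ℂ) * (1 + (c : ℂ) / n) = q ^ 2 * (q - 2) / n := by
    have h := classFun_eq_sum (BlocksCore.isClassFunction_conv
      (BlocksCore.isClassFunction_classInd (z : G)) (BlocksCore.isClassFunction_classInd (z : G)))
      (z : G)
    rw [conv_classInd_apply] at h
    simp only [sum_conv_mul, hclass, hconj] at h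
    have hp := card_pairs hZ hab hU h2 hzA
    rw [← he'] at hp
    have hpc : (Nat.card {p : G × G //
        IsConj (z : G) p.1 ∧ IsConj (z : G) p.2 ∧ p.1 * p.2 = z} : ℂ) = (e : ℂ) - 1 := by
      rw [eq_sub_iff_add_eq]
      exact_mod_cast hp
    rw [hpc, Zass.card_group hZ hab, ← he'] at h
    push_cast at h
    rw [hh, ← hn'] at h
    have hn0 : n ≠ 0 := Nat.cast_ne_zero.2 (by omega)
    have hq0 : q ≠ 0 := by rw [hq]; exact_mod_cast Nat.succ_ne_zero e
    have h' : q ^ 2 * ((e : ℂ) - 1) / (e * n) = ∑ χ : Cfsg.IrrCharacter G,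
        (χ : G → ℂ) z ^ 3 / (χ : G → ℂ) 1 := by
      rw [h, Finset.mul_sum, Finset.sum_div]
      refine Finset.sum_congr rfl fun χ _ => ?_
      field_simp
    rw [hsplit (fun x y => y ^ 3 / x)] at h'
    have hterm : ∑ χ ∈ C, (q * v χ - P χ) ^ 3 / ((e : ℂ) * P χ)
        = (q ^ 3 * R - 3 * q ^ 2 * ((c : ℂ) + 1) + 3 * q * S - Q) / e := by
      rw [← hAcard, Finset.card_eq_sum_ones, Nat.cast_sum, hR, hS, hQ]
      simp only [Nat.cast_one, Finset.mul_sum]
      rw [← hAv, ← hAv, ← hAv, ← Finset.sum_sub_distrib, ← Finset.sum_add_distrib,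
        ← Finset.sum_sub_distrib, Finset.sum_div]
      refine Finset.sum_congr rfl fun χ hχ => ?_
      have hP0 : (P χ : ℂ) ≠ 0 := Nat.cast_ne_zero.2 (hfacts χ hχ).2.2.2.1.ne'
      rcases (hfacts χ hχ).2.2.1 with h | h <;> simp only [h, Nat.cast_zero, Nat.cast_one] <;>
        field_simp <;> ring
    rw [hterm] at h'
    have hee : q - 2 = (e : ℂ) - 1 := by rw [hq]; ring
    rw [hee]
    field_simp at h' ⊢
    linear_combination -h'
  -- the two sums
  have hn0 : n ≠ 0 := Nat.cast_ne_zero.2 (by omega)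
  have hq0 : q ≠ 0 := by rw [hq]; exact_mod_cast Nat.succ_ne_zero e
  have hec : (e : ℂ) = 2 * (c : ℂ) + 1 := by exact_mod_cast hc
  have hS' : 2 * S = q * e := by
    refine mul_left_cancel₀ (mul_ne_zero hq0 he0) ?_
    have : (e : ℂ) * q * S = (q ^ 2 + 1) * c + 1 - (e : ℂ) * (q ^ 2 - 1 - c - q ^ 2 * (c + 1)) := by
      rw [← hnq]
      linear_combination -eq1 - (e : ℂ) * eq2
    rw [hec, hq2] at this ⊢
    linear_combination 2 * this
  have hR' : 2 * n * R = q * (q + 3) := by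
    refine mul_left_cancel₀ (pow_ne_zero 3 hq0) ?_
    have e3 := eq3
    field_simp at e3
    have hS2 : S = q * e / 2 := by linear_combination (1 / 2 : ℂ) * hS'
    have hQ2 : Q = q ^ 2 - (1 + (c : ℂ) + q ^ 2 * ((c : ℂ) + 1) - 2 * q * S) := by
      linear_combination eq2
    rw [hQ2, hS2, hnq, hec, hq2] at e3
    rw [hnq, hq2]
    linear_combination 2 * e3
  -- integrality
  have hdvd : ∀ χ ∈ A, P χ ∣ Fintype.card Ω := by
    intro χ hχ
    obtain ⟨hχC, hv1⟩ := Finset.mem_filter.1 hχ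
    obtain ⟨hD, hzv, -, hPpos, hPodd⟩ := hfacts χ hχC
    have hint := CharClifford.isIntegral_class_mul_div χ.2 (z : G)
    replace hint : IsIntegral ℤ
        ((Nat.card {x : G // IsConj (z : G) x} : ℂ) * (χ : G → ℂ) z / (χ : G → ℂ) 1) := by
      convert hint using 4
      rw [Nat.card_eq_fintype_card, Fintype.card_subtype]
      congr 1
      ext x
      simp only [Finset.mem_filter, Finset.mem_univ, true_and, ConjClasses.mk_eq_mk_iff_isConj]
      exact isConj_comm
    rw [hclass, hD, hzv, hv1, hq] at hint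
    have hP0 : (P χ : ℂ) ≠ 0 := Nat.cast_ne_zero.2 hPpos.ne'
    have hrw : ((e * Fintype.card Ω : ℕ) : ℂ) * ((↑e + 1) * ((1 : ℕ) : ℂ) - ↑(P χ)) / (↑e * ↑(P χ))
        = (((Fintype.card Ω : ℚ) * ((e + 1) - P χ) / P χ : ℚ) : ℂ) := by
      push_cast
      field_simp
    rw [hrw] at hint
    obtain ⟨j, hj⟩ := CharClifford.exists_int_of_isIntegral_rat hint
    rw [div_eq_iff (Nat.cast_ne_zero.2 hPpos.ne')] at hj
    have hj' : (Fintype.card Ω : ℤ) * ((e + 1) - P χ) = j * P χ := by exact_mod_cast hj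
    have hd : P χ ∣ Fintype.card Ω * (e + 1) := by
      rw [← Int.natCast_dvd_natCast]
      exact ⟨j + Fintype.card Ω, by push_cast; linear_combination hj'⟩
    refine Nat.Coprime.dvd_of_dvd_mul_right ?_ hd
    rw [hk]
    exact Nat.Coprime.pow_right _ (Nat.coprime_two_right.2 (hPodd hv1))
  set q' := e + 1 with hq'
  have hqC : q = (q' : ℂ) := by rw [hq, hq']; push_cast; ring
  have hsum : ∑ χ ∈ A, (P χ + Fintype.card Ω / P χ) = q' * (q' + 1) := by
    have h : ((∑ χ ∈ A, (P χ + Fintype.card Ω / P χ) : ℕ) : ℂ) = S + n * R := by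
      rw [hS, hR, Finset.mul_sum, ← Finset.sum_add_distrib, Nat.cast_sum]
      refine Finset.sum_congr rfl fun χ hχ => ?_
      rw [Nat.cast_add, Nat.cast_div (hdvd χ hχ)
        (Nat.cast_ne_zero.2 (hfacts χ (Finset.mem_filter.1 hχ).1).2.2.2.1.ne'), hn', div_eq_mul_inv]
    have h' : ((∑ χ ∈ A, (P χ + Fintype.card Ω / P χ) : ℕ) : ℂ) = ((q' * (q' + 1) : ℕ) : ℂ) := by
      rw [h]
      push_cast
      rw [← hqC]
      have hqe : (e : ℂ) = q - 1 := by rw [hq]; ring
      linear_combination (1 / 2 : ℂ) * hS' + (1 / 2 : ℂ) * hR' + (q / 2) * hqe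
    exact_mod_cast h'
  have hlow : ∀ χ ∈ A, 2 * q' + 2 ≤ P χ + Fintype.card Ω / P χ := by
    intro χ hχ
    obtain ⟨hχC, hv1⟩ := Finset.mem_filter.1 hχ
    obtain ⟨-, -, -, hPpos, hPodd⟩ := hfacts χ hχC
    set P' := Fintype.card Ω / P χ with hP'
    have hmul : P χ * P' = q' ^ 2 + 1 := (Nat.mul_div_cancel' (hdvd χ hχ)).trans hΩ
    have hP'odd : Odd P' := (Nat.odd_mul.1 (show Odd (P χ * P') by
      rw [hmul, ← hΩ]; exact hn)).2
    have hgt : 2 * q' < P χ + P' := by
      by_contra hle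
      push Not at hle
      have := Nat.mul_le_mul hle hle
      zify at this hmul ⊢
      nlinarith [sq_nonneg ((P χ : ℤ) - (P' : ℤ))]
    obtain ⟨i, hi⟩ := hPodd hv1
    obtain ⟨i', hi'⟩ := hP'odd
    omega
  have hAcard' : A.card = c + 1 := by exact_mod_cast hAcard
  have heq : ∀ χ ∈ A, 2 * q' + 2 = P χ + Fintype.card Ω / P χ :=
    (Finset.sum_eq_sum_iff_of_le hlow).1 (by
      rw [hsum, Finset.sum_const, hAcard', smul_eq_mul, hq']
      rw [hc]
      ring)
  obtain ⟨χ, hχ⟩ := Finset.card_pos.1 (show 0 < A.card by omega)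
  have h1 := heq χ hχ
  have hmul : P χ * (Fintype.card Ω / P χ) = q' ^ 2 + 1 :=
    (Nat.mul_div_cancel' (hdvd χ hχ)).trans hΩ
  have hsquare : ∃ r : ℕ, r * r = 2 * q' := by
    obtain ⟨P', hP'⟩ : ∃ x, x = Fintype.card Ω / P χ := ⟨_, rfl⟩
    rw [← hP'] at h1 hmul
    refine ⟨(((q' : ℤ) + 1 - P χ).natAbs), ?_⟩
    zify at h1 hmul ⊢
    rw [abs_mul_abs_self]
    linear_combination -(P χ : ℤ) * h1 - hmul
  obtain ⟨r, hr⟩ := hsquare
  rw [hk, ← pow_succ'] at hr
  obtain ⟨i, -, hi⟩ := (Nat.dvd_prime_pow Nat.prime_two).1 (Dvd.intro r hr)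
  rw [hi, ← pow_add] at hr
  have := Nat.pow_right_injective le_rfl hr
  refine ⟨i - 1, by omega, ?_⟩
  rw [hk]
  congr 1
  omega

end Cfsg.Agent.ZassNormal.TwoKer
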